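import Cfsg.Statements.S3784
import Mathlib

set_option autoImplicit false
open Cfsg

namespace Cfsg.Agent.S3784

theorem odd_pow_modEq (x m n : ℕ) (h : x ^ 2 ≡ 1 [MOD m]) (hn : Odd n) : x ^ n ≡ x [MOD m] := by
  obtain ⟨k, rfl⟩ := hn
  have := (h.pow k).mul_right x
  rwa [one_pow, one_mul, ← pow_mul, ← pow_succ] at this

theorem eq_of_modEq {y a : ℕ} (h1 : y ∣ 2 ^ a) (h2 : 2 ^ a ≡ y [MOD 2 * y]) : y = 2 ^ a := by
  obtain ⟨c, hc, rfl⟩ := (Nat.dvd_prime_pow Nat.prime_two).1 h1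
  rcases hc.lt_or_eq with hc | rfl
  · have h3 : 2 * 2 ^ c ∣ 2 ^ a := by rw [← pow_succ']; exact pow_dvd_pow 2 hc
    have h4 := Nat.le_of_dvd (by positivity) ((h2.dvd_iff dvd_rfl).1 h3)
    have : 0 < 2 ^ c := by positivity
    omega
  · rfl


/-- Let p, q be primes and a, b positive integers with p^a = q^b + 1. Then either p = 2, b = 1, a is prime and q = 2^a − 1; or q = 2, a = 1, b is a power of 2 and p = 2^b + 1; or p^a = 9 and q^b = 8. -/
theorem result (p q a b : ℕ) (hp : p.Prime) (hq : q.Prime) (ha : 1 ≤ a) (hb : 1 ≤ b) (h : p ^ a = q ^ b + 1) : (p = 2 ∧ b = 1 ∧ a.Prime ∧ q + 1 = 2 ^ a) ∨ (q = 2 ∧ a = 1 ∧ (∃ m : ℕ, b = 2 ^ m) ∧ p = 2 ^ b + 1) ∨ (p ^ a = 9 ∧ q ^ b = 8) := by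
  have h2a : ∀ n, 1 ≤ n → 2 ∣ 2 ^ n := fun n hn => dvd_pow_self 2 (by omega)
  rcases hp.eq_two_or_odd' with rfl | hpo
  · have hqo : Odd q := by
      refine hq.eq_two_or_odd'.resolve_left ?_
      rintro rfl
      have := h2a a ha; have := h2a b hb; omega
    obtain ⟨k, rfl⟩ := hqo
    have hq2 := hq.two_le
    have hqb : 2 * k + 1 ≤ (2 * k + 1) ^ b := Nat.le_self_pow (by omega) _
    have ha2 : 2 ≤ a := by
      by_contra h1
      obtain rfl : a = 1 := by omega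
      omega
    rcases Nat.even_or_odd b with ⟨c, rfl⟩ | hbo
    · exfalso
      have h4 : 2 ^ 2 ∣ 2 ^ a := pow_dvd_pow 2 ha2
      obtain ⟨j, hj⟩ : Odd ((2 * k + 1) ^ c) := Odd.pow ⟨k, rfl⟩
      rw [h, pow_add, hj, show (2 * j + 1) * (2 * j + 1) + 1 = 4 * (j * j + j) + 2 by ring] at h4
      omega
    · have h1 : 2 * k + 1 + 1 ∣ 2 ^ a := by
        have := hbo.nat_add_dvd_pow_add_pow (2 * k + 1) 1
        rwa [one_pow, ← h] at this
      have h2 : (2 * k + 1) ^ 2 ≡ 1 [MOD 2 * (2 * k + 1 + 1)] :=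
        ((Nat.modEq_iff_dvd' (by nlinarith)).2 ⟨k, by
          rw [show (2 * k + 1) ^ 2 = 2 * (2 * k + 1 + 1) * k + 1 by ring]; simp⟩).symm
      have h3 := eq_of_modEq h1 (h ▸ (odd_pow_modEq _ _ _ h2 hbo).add_right 1)
      refine Or.inl ⟨rfl, ?_, ?_, h3⟩
      · have h4 : (2 * k + 1) ^ b = (2 * k + 1) ^ 1 := by rw [pow_one]; omega
        exact Nat.pow_right_injective hq2 h4
      · refine (Nat.prime_of_pow_sub_one_prime (a := 2) (by omega) ?_).2
        rwa [← h3, Nat.add_sub_cancel]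
  · obtain rfl : q = 2 := by
      refine hq.eq_two_or_odd'.resolve_right fun hqo => ?_
      obtain ⟨i, hi⟩ : Odd (p ^ a) := hpo.pow
      obtain ⟨j, hj⟩ : Odd (q ^ b) := hqo.pow
      omega
    right
    obtain ⟨k, rfl⟩ := hpo
    have hp2 := hp.two_le
    rcases Nat.even_or_odd a with ⟨c, rfl⟩ | hao
    · right
      obtain ⟨j, hj⟩ : Odd ((2 * k + 1) ^ c) := Odd.pow ⟨k, rfl⟩
      rw [pow_add, hj] at h ⊢
      have h1 : 2 * j * (2 * j + 2) = 2 ^ b := by nlinarith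
      obtain ⟨s, -, hs⟩ := (Nat.dvd_prime_pow Nat.prime_two).1 (Dvd.intro _ h1)
      obtain ⟨t, -, ht⟩ := (Nat.dvd_prime_pow Nat.prime_two).1 (Dvd.intro_left _ h1)
      have hj1 : j = 1 := by
        by_contra hj1
        have hj0 : j ≠ 0 := by
          rintro rfl
          have : 0 < 2 ^ s := by positivity
          omega
        have hs2 : 2 ≤ s := by
          by_contra hs2
          interval_cases s <;> omega
        have ht2 : 2 ≤ t := by
          by_contra ht2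
          interval_cases t <;> omega
        have h4 : 2 ^ 2 ∣ 2 ^ s := pow_dvd_pow 2 hs2
        have h5 : 2 ^ 2 ∣ 2 ^ t := pow_dvd_pow 2 ht2
        omega
      subst hj1
      omega
    · left
      have h1 : 2 * k ∣ 2 ^ b := by
        have := Nat.sub_dvd_pow_sub_pow (2 * k + 1) 1 a
        rwa [one_pow, h, Nat.add_sub_cancel, Nat.add_sub_cancel] at this
      have h2 : (2 * k + 1) ^ 2 ≡ 1 [MOD 2 * (2 * k)] :=
        ((Nat.modEq_iff_dvd' (by nlinarith)).2 ⟨k + 1, by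
          rw [show (2 * k + 1) ^ 2 = 2 * (2 * k) * (k + 1) + 1 by ring]; simp⟩).symm
      have h3 := odd_pow_modEq _ _ _ h2 hao
      rw [h] at h3
      have h4 := eq_of_modEq h1 (Nat.ModEq.add_right_cancel' 1 h3)
      refine ⟨rfl, ?_, ?_, by omega⟩
      · have h5 : (2 * k + 1) ^ a = (2 * k + 1) ^ 1 := by rw [pow_one]; omega
        exact Nat.pow_right_injective hp2 h5
      · exact Nat.pow_of_pow_add_prime (a := 2) (by norm_num) (by omega) (h4 ▸ hp)

end Cfsg.Agent.S3784
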