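import Cfsg.Statements.S3756
import Mathlib
import Cfsg.Agent.Lib.Core.S4Free

set_option autoImplicit false
open Cfsg

namespace Cfsg.Agent.S3756

open Subgroup Cfsg.Agent.Core

/-- Let G be a finite group of even order with O₂(G) = 1 such that every 2-local subgroup of G is solvable, of characteristic 2, and has no section isomorphic to the symmetric group of degree 4. Then every maximal 2-local subgroup of G is strongly embedded in G. -/
theorem result {G : Type*} [Group G] [Finite G] (heven : Even (Nat.card G)) (hO : Cfsg.pCore 2 G = ⊥) (hloc : ∀ M : Subgroup G, Cfsg.IsTwoLocal M → Group.IsSolvable M ∧ Cfsg.IsOfCharacteristicTwo ↥M ∧ ¬ Cfsg.Involves (Equiv.Perm (Fin 4)) ↥M) (M : Subgroup G) (hM : Cfsg.IsMaximalTwoLocal M) : Cfsg.IsStronglyEmbedded M := by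
  have hyp : ∀ N : Subgroup G, IsMaximalPLocal 2 N → Group.IsSolvable N ∧ IsCharIn 2 N ∧
      ¬ Involves (Equiv.Perm (Fin 3)) N := fun N hN => by
    obtain ⟨h1, h2, h3⟩ := hloc N hN.1
    exact ⟨h1, isCharIn_iff.2 h2, fun h => h3 (involves_perm_four_of_involves_perm_three h2 h)⟩
  have hM' : IsMaximalPLocal 2 M := hM
  refine ⟨isPLocal_ne_top hM'.1 hO, even_iff_two_dvd.2 (isPLocal_dvd_card hM'.1), fun g hg => ?_⟩
  by_contra hodd
  rw [Nat.not_odd_iff_even, even_iff_two_dvd] at hodd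
  obtain ⟨x, hx⟩ := exists_prime_orderOf_dvd_card' 2 hodd
  have hxo : orderOf (x : G) = 2 ^ 1 := by rw [orderOf_coe, hx]; rfl
  have hb : zpowers (x : G) ≠ ⊥ := fun e => by
    rw [zpowers_eq_bot.1 e, orderOf_one] at hxo; omega
  obtain ⟨N₁, N₂, S, k₁, k₂, kne, hSb, s₁, s₂, hmax⟩ := exists_isMaximalPLocal_common_sylow_max hM'
    (isMaximalPLocal_map_conj hM' g) (isMaximalPLocal_map_conj_ne hM' hg).symm
    (isPGroup_zpowers_of_orderOf hxo) hb (zpowers_le.2 x.2)
  have hSp := s₁.2.1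
  set Z := omegaOne 2 (S ⊓ centralizer (S : Set G)) with hZdef
  have hZ : Z ≤ S ⊓ centralizer (S : Set G) := PGrp.omegaOne_le _
  have hZp : ∀ z ∈ Z, z ^ 2 = 1 := (PGrp.isElementaryAbelian_omegaOne
    (le_centralizer_iff_isMulCommutative.1 (inf_le_right.trans (centralizer_le inf_le_left)))).2
  have hZb : Z ≠ ⊥ := PGrp.omegaOne_ne_bot (hSp.to_le inf_le_left)
    (PGrp.inf_centralizer_ne_bot hSp hSp le_normalizer hSb)
  obtain ⟨C, hC, hZC⟩ := exists_isMaximalPLocal_ge (hSp.to_le (hZ.trans inf_le_left)) hZb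
  obtain ⟨N, hN, hJN⟩ := exists_isMaximalPLocal_ge (hSp.to_le (Transfer.thompsonSubgroupOf_le S))
    (Transfer.thompsonSubgroupOf_ne_bot hSp hSb)
  have hCZ := (centralizer_le_normalizer (Z : Set G)).trans hZC
  have hCN : C ≠ N := fun e => by
    have k : ∀ K, IsMaximalPLocal 2 K → Coprime.IsSylowIn 2 S K → C = K := fun K hK hs =>
      hK.2 C hC.1 ((le_centralizer_sup_normalizer_thompson (hyp K hK).1 (hyp K hK).2.2
        (hyp K hK).2.1 hs hZ hZp).trans (sup_le hCZ (e ▸ hJN)))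
    exact kne ((k N₁ k₁ s₁).symm.trans (k N₂ k₂ s₂))
  have hNS : normalizer (S : Set G) ≤ C ⊓ N := le_inf (((le_normalizer_inf le_rfl
    (le_normalizer_centralizer le_rfl)).trans (PGrp.normalizer_le_normalizer_omegaOne _)).trans hZC)
    ((Transfer.normalizer_le_normalizer_thompsonSubgroupOf S).trans hJN)
  have hS : Coprime.IsSylowIn 2 S ⊤ := Coprime.isSylowIn_of_normalizer le_top
    (Coprime.isSylowIn_of_maximal (le_inf le_top le_normalizer) hSp fun U h1 h2 h3 =>
      hmax U C N h3 hC hN hCN h1 (h2.trans (inf_le_right.trans hNS)))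
  have sC := hS.mono (le_normalizer.trans (hNS.trans inf_le_left)) le_top
  have sN := hS.mono (le_normalizer.trans (hNS.trans inf_le_right)) le_top
  have e := s4_thompson_eq (hyp C hC).1 (hyp N hN).1 (hyp C hC).2.1 (hyp N hN).2.1 (hyp C hC).2.2
    (hyp N hN).2.2 sC sN hZ hZp hCZ (isMaximalPLocal_normalizer_eq hN
      (isPGroup_of_elemAb (isElementaryAbelian_invClosure (hyp N hN).2.1 sN hZ hZp))
      (fun e => hZb (eq_bot_iff.2 ((le_invClosure Z N).trans e.le))) (le_normalizer_invClosure Z N))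
  have k : ∀ K, IsMaximalPLocal 2 K →
      normalizer (thompsonSubgroupOf 2 (pCoreOf 2 K) : Set G) = K := fun K hK =>
    isMaximalPLocal_normalizer_eq hK ((isPGroup_pCoreOf K).to_le (Transfer.thompsonSubgroupOf_le _))
      (Transfer.thompsonSubgroupOf_ne_bot (isPGroup_pCoreOf K) (isPLocal_pCoreOf_ne_bot hK.1))
      ((le_normalizer_pCoreOf K).trans (Transfer.normalizer_le_normalizer_thompsonSubgroupOf _))
  exact hCN (by rw [← k C hC, ← k N hN, e])

end Cfsg.Agent.S3756
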