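import Cfsg.Statements.S3773
import Cfsg.Agent.Lib.PGrp.RankBound

set_option autoImplicit false
open Cfsg

namespace Cfsg.Agent.S3773

/-- Let G be a finite 2-group of nilpotency class at most 2 and exponent dividing 4 in which the elements x with x² = 1 form a subgroup N. Then |G| ≤ |N|³, and |G| < |N|³ unless G is special. -/
theorem result {G : Type*} [Group G] [Finite G] (hG : IsPGroup 2 G) (hcl : (⊤ : Subgroup G).lowerCentralSeries 2 = ⊥) (hexp : ∀ x : G, x ^ 4 = 1) (hN : ∀ x y : G, x ^ 2 = 1 → y ^ 2 = 1 → (x * y) ^ 2 = 1) : Nat.card G ≤ Nat.card {x : G // x ^ 2 = 1} ^ 3 ∧ (¬ Cfsg.IsSpecial 2 G → Nat.card G < Nat.card {x : G // x ^ 2 = 1} ^ 3) := by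
  have := hG.isNilpotent
  have hc := PGrp.commutator_le_center_of_nilpotencyClass
    (Subgroup.lowerCentralSeries_eq_bot_iff_nilpotencyClass_le.mp hcl)
  obtain ⟨hF, hFe⟩ := PGrp.frattini_le_center_of_pow_four hG hc hexp
  let N : Subgroup G :=
    { carrier := {x | x ^ 2 = 1}
      mul_mem' := hN _ _
      one_mem' := one_pow 2
      inv_mem' := fun {x} hx => by rw [Set.mem_setOf_eq, inv_pow, hx, inv_one] }
  change Nat.card G ≤ Nat.card N ^ 3 ∧ (_ → Nat.card G < Nat.card N ^ 3)
  have h1 := PGrp.index_frattini_le_sq hG (N := N) fun _ => Iff.rfl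
  have h2 : frattini G ≤ N := hFe.2
  have h3 := (frattini G).card_mul_index
  have h4 : Nat.card G ≤ Nat.card N ^ 3 := by
    rw [← h3, pow_succ']
    exact Nat.mul_le_mul (Subgroup.card_le_of_le h2) h1
  refine ⟨h4, fun hs => lt_of_le_of_ne h4 fun he => hs ?_⟩
  have hpos : 0 < Nat.card N := Nat.card_pos
  have h5 : frattini G = N := by
    refine Subgroup.eq_of_le_of_card_ge h2 (Nat.le_of_mul_le_mul_right ?_ (pow_pos hpos 2))
    rw [← pow_succ', ← he, ← h3]
    exact Nat.mul_le_mul_left _ h1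
  have hsq : ∀ x : G, x ^ 2 ∈ N := fun x => h2 (PGrp.pow_mem_frattini hG x)
  have h6 : frattini G = Subgroup.center G := by
    refine le_antisymm hF fun z hz => by_contra fun hz' => ?_
    rw [h5] at hz'
    have hn := PGrp.normal_of_le_center (Subgroup.zpowers_le.mpr hz)
    have hNn : N.Normal := h5 ▸ inferInstance
    have ho : orderOf z = 2 ^ (1 + 1) := orderOf_eq_prime_pow hz' (hexp z)
    let π := QuotientGroup.mk' (Subgroup.zpowers z)
    have h7 := PGrp.card_le_cube_of_sq_mem ((hG.to_quotient _).to_subgroup ⊤) (le_top (a := N.map π))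
      (fun x _ => by
        obtain ⟨x, rfl⟩ := QuotientGroup.mk'_surjective _ x
        exact ⟨_, hsq x, map_pow π x 2⟩)
      fun x _ => by
        obtain ⟨x, rfl⟩ := QuotientGroup.mk'_surjective _ x
        constructor
        · intro h
          have h8 : x ^ 2 ∈ Subgroup.zpowers z := (QuotientGroup.eq_one_iff _).mp h
          obtain ⟨k, hk⟩ := Subgroup.mem_zpowers_iff.mp (PGrp.mem_zpowers_of_pow_eq_one ho h8 (hsq x))
          refine ⟨x * (z ^ k)⁻¹, ?_, ?_⟩
          · change _ ^ 2 = 1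
            rw [((PGrp.commute_of_mem_center hz x).symm.zpow_right k).inv_right.mul_pow, ← hk,
              pow_one, ← zpow_natCast, ← zpow_natCast]
            group
          · rw [map_mul, map_inv, show π (z ^ k) = 1 from (QuotientGroup.eq_one_iff _).mpr
              (zpow_mem (Subgroup.mem_zpowers z) k), inv_one, mul_one]
        · rintro ⟨y, hy, h⟩
          rw [← h, ← map_pow, show y ^ 2 = 1 from hy, map_one]
    have h8 := PGrp.card_map_mk'_mul (Subgroup.zpowers z) N
    have h9 := (Subgroup.zpowers z).index_mul_card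
    rw [PGrp.card_sup_zpowers (p := 2) (Subgroup.le_normalizer_of_normal (Subgroup.mem_top z)) hz'
      (hsq z), Nat.card_zpowers, ho] at h8
    rw [Subgroup.card_top, ← Subgroup.index_eq_card] at h7
    rw [Nat.card_zpowers, ho, he] at h9
    have h10 : Nat.card N = Nat.card (N.map π) * 2 := by
      change Nat.card (N.map π) * 4 = _ at h8
      omega
    rw [h10] at h9 hpos
    have : 0 < Nat.card (N.map π) ^ 3 := pow_pos Nat.card_pos 3
    nlinarith
  refine ⟨hG, h6, h6 ▸ ?_⟩
  by_contra hne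
  obtain ⟨H, hHn, hH1, hH2, hH3⟩ := PGrp.exists_normal_relIndex_eq' hG
    (lt_of_le_of_ne (PGrp.commutator_le_frattini hG) hne)
  have hcm : IsMulCommutative (G ⧸ H) := PGrp.isMulCommutative_quotient_iff.mpr hH1
  let f : G →* G ⧸ H := MonoidHom.mk' (fun x => (x : G ⧸ H) ^ 2) fun x y => by
    rw [QuotientGroup.mk_mul, (show Commute (x : G ⧸ H) y from hcm.1.1 _ _).mul_pow]
  have hf : ∀ {x}, x ∈ f.ker ↔ x ^ 2 ∈ H := fun {x} => QuotientGroup.eq_one_iff (x ^ 2)
  have h7 : f.ker.index ≤ 2 := by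
    have h8 := PGrp.card_map_mk'_mul H (frattini G)
    rw [sup_eq_left.mpr hH2, ← hH3, mul_comm] at h8
    rw [Subgroup.index_ker, ← Nat.eq_of_mul_eq_mul_left Nat.card_pos h8]
    refine Subgroup.card_le_of_le ?_
    rintro _ ⟨x, rfl⟩
    exact ⟨_, PGrp.pow_mem_frattini hG x, rfl⟩
  obtain ⟨K, hK1, hK2, hK3, -, hK4⟩ := PGrp.exists_compl_mod (p := 2) (C := f.ker) hH2
    (fun x hx => hf.mpr (hFe.2 x hx ▸ one_mem _))
    ((Subgroup.commutator_mono le_top le_top).trans hH1) fun x hx => hf.mp hx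
  have h8 := PGrp.card_le_cube_of_sq_mem (hG.to_subgroup K) hK1 (fun x hx => hf.mp (hK2 hx))
    fun x hx => ⟨fun h => hK3.le ⟨h5.ge h, hx⟩, fun h => hFe.2 x (hH2 h)⟩
  have h9 := f.ker.card_mul_index
  rw [← hH3, mul_right_comm, mul_comm _ (Nat.card H), mul_assoc] at hK4
  have h10 := Nat.eq_of_mul_eq_mul_left Nat.card_pos hK4
  rw [he, ← h5, ← hH3] at h9
  have : 0 < Nat.card H ^ 3 := pow_pos Nat.card_pos 3
  nlinarith

end Cfsg.Agent.S3773
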