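import Cfsg.Statements.S3774
import Cfsg.Agent.Lib.PGrp.Basic

set_option autoImplicit false
open Cfsg

namespace Cfsg.Agent.S3774

open Subgroup

/-- If `2^n - 1 ∣ 2^m - 1` with `n > 0` then `n ∣ m`. -/
theorem dvd_of_two_pow_sub_one_dvd {n m : ℕ} (hn : 0 < n) (h : 2 ^ n - 1 ∣ 2 ^ m - 1) :
    n ∣ m := by
  have h1 : Nat.gcd (2 ^ n - 1) (2 ^ m - 1) = 2 ^ (Nat.gcd n m) - 1 :=
    Nat.pow_sub_one_gcd_pow_sub_one 2 n m
  rw [Nat.gcd_eq_left h] at h1
  have h2 : (2:ℕ) ^ n = 2 ^ Nat.gcd n m := by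
    have a : 0 < 2 ^ n := by positivity
    have b : 0 < 2 ^ Nat.gcd n m := by positivity
    omega
  have h3 := Nat.pow_right_injective (le_refl 2) h2
  rw [h3]; exact Nat.gcd_dvd_right n m

/-- the involution in the cyclic group generated by `g`. -/
noncomputable def inv2 {G : Type*} [Group G] (g : G) : G := g ^ (orderOf g / 2)

theorem inv2_map {G : Type*} [Group G] (a : MulAut G) (g : G) : inv2 (a g) = a (inv2 g) := by
  unfold inv2
  rw [map_pow, MulEquiv.orderOf_eq]

theorem inv2_spec {G : Type*} [Group G] [Finite G] (hG : IsPGroup 2 G) {g : G} (hg : g ≠ 1) :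
    inv2 g ≠ 1 ∧ inv2 g ^ 2 = 1 := by
  haveI : Fact (Nat.Prime 2) := ⟨Nat.prime_two⟩
  obtain ⟨k, hk⟩ := (IsPGroup.iff_orderOf.mp hG) g
  have hk0 : k ≠ 0 := by
    rintro rfl
    exact hg (orderOf_eq_one_iff.mp (by simpa using hk))
  obtain ⟨j, rfl⟩ := Nat.exists_eq_succ_of_ne_zero hk0
  have h2 : orderOf g / 2 = 2 ^ j := by
    rw [hk, pow_succ]; exact Nat.mul_div_cancel _ (by norm_num)
  unfold inv2
  rw [h2]
  refine ⟨?_, ?_⟩
  · apply pow_ne_one_of_lt_orderOf (by positivity)
    rw [hk]; exact Nat.pow_lt_pow_right (by norm_num) (Nat.lt_succ_self j)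
  · rw [← pow_mul, ← pow_succ, ← hk, pow_orderOf_eq_one]

/-- Let G be a nontrivial finite 2-group whose automorphism group permutes the involutions of G transitively. Then every involution of G is central, so that the involutions together with 1 form the subgroup Ω₁(Z(G)), and if this subgroup has order q then |G| is a power of q. -/
theorem result {G : Type*} [Group G] [Finite G] [Nontrivial G] (hG : IsPGroup 2 G) (htrans : ∀ x y : G, x ≠ 1 → x ^ 2 = 1 → y ≠ 1 → y ^ 2 = 1 → ∃ a : MulAut G, a x = y) : (∀ x : G, x ^ 2 = 1 → x ∈ Subgroup.center G) ∧ ∃ m : ℕ, Nat.card G = Nat.card {z : G // z ^ 2 = 1} ^ m := by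
  classical
  haveI : Fact (Nat.Prime 2) := ⟨Nat.prime_two⟩
  obtain ⟨z, -, hzc, hzo⟩ := PGrp.exists_mem_center_orderOf_eq hG (N := ⊤) top_ne_bot
  have hz1 : z ≠ 1 := by
    rintro rfl
    simp at hzo
  have hz2 : z ^ 2 = 1 := by rw [← hzo, pow_orderOf_eq_one]
  have hc : ∀ x : G, x ^ 2 = 1 → x ∈ Subgroup.center G := by
    intro x hx
    by_cases hx1 : x = 1
    · rw [hx1]; exact one_mem _
    obtain ⟨a, rfl⟩ := htrans z x hz1 hz2 hx1 hx
    rw [Subgroup.mem_center_iff] at hzc ⊢
    intro g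
    obtain ⟨g', rfl⟩ := a.surjective g
    rw [← map_mul, ← map_mul, hzc]
  refine ⟨hc, ?_⟩
  let V : Subgroup G :=
    { carrier := {z | z ^ 2 = 1}
      one_mem' := by simp
      mul_mem' := by
        intro a b ha hb
        simp only [Set.mem_setOf_eq] at ha hb ⊢
        have : Commute a b := (Subgroup.mem_center_iff.mp (hc b hb) a)
        rw [this.mul_pow, ha, hb, one_mul]
      inv_mem' := by
        intro a ha
        simp only [Set.mem_setOf_eq] at ha ⊢
        rw [inv_pow, ha, inv_one] }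
  have hV : Nat.card {z : G // z ^ 2 = 1} = Nat.card V := rfl
  obtain ⟨n, hn⟩ := PGrp.exists_card_eq_pow hG V
  obtain ⟨m, hm⟩ := IsPGroup.iff_card.mp hG
  have hn0 : 0 < n := by
    rcases Nat.eq_zero_or_pos n with rfl | h
    · exfalso
      have : V = ⊥ := Subgroup.eq_bot_of_card_eq V (by simpa using hn)
      have hzV : z ∈ V := hz2
      rw [this] at hzV
      exact hz1 (Subgroup.mem_bot.mp hzV)
    · exact h
  haveI := Fintype.ofFinite G
  let S : Finset G := Finset.univ.erase 1
  let T : Finset G := (Finset.univ.filter (fun x => x ∈ V)).erase 1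
  have hS : S.card = 2 ^ m - 1 := by
    rw [Finset.card_erase_of_mem (Finset.mem_univ _), Finset.card_univ, ← Nat.card_eq_fintype_card, hm]
  have hT : T.card = 2 ^ n - 1 := by
    rw [Finset.card_erase_of_mem (by simp), ← hn, Nat.card_eq_fintype_card, Fintype.card_subtype]
  have hmaps : ∀ g ∈ S, inv2 g ∈ T := by
    intro g hg
    have := inv2_spec hG (Finset.ne_of_mem_erase hg)
    simp only [T, Finset.mem_erase, Finset.mem_filter, Finset.mem_univ, true_and]
    exact ⟨this.1, this.2⟩
  have hfib : ∀ t ∈ T, (S.filter (fun g => inv2 g = t)).card =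
      (S.filter (fun g => inv2 g = z)).card := by
    intro t ht
    simp only [T, Finset.mem_erase, Finset.mem_filter, Finset.mem_univ, true_and] at ht
    obtain ⟨a, rfl⟩ := htrans z t hz1 hz2 ht.1 ht.2
    symm
    apply Finset.card_bij (fun g _ => a g)
    · intro g hg
      simp only [S, Finset.mem_filter, Finset.mem_erase, Finset.mem_univ, and_true] at hg ⊢
      refine ⟨by simpa using hg.1, by rw [inv2_map, hg.2]⟩
    · intro g _ h _ e
      exact a.injective e
    · intro g hg
      simp only [S, Finset.mem_filter, Finset.mem_erase, Finset.mem_univ, and_true] at hg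
      refine ⟨a.symm g, ?_, by simp⟩
      simp only [S, Finset.mem_filter, Finset.mem_erase, Finset.mem_univ, and_true]
      refine ⟨by simpa using hg.1, ?_⟩
      apply a.injective
      rw [← inv2_map]; simpa using hg.2
  have hsum := Finset.card_eq_sum_card_fiberwise (f := inv2) (s := S) (t := T) hmaps
  rw [Finset.sum_congr rfl hfib, Finset.sum_const, smul_eq_mul, hS, hT] at hsum
  obtain ⟨k, hk⟩ := dvd_of_two_pow_sub_one_dvd hn0 ⟨_, hsum⟩
  exact ⟨k, by rw [hV, hn, hm, hk, pow_mul]⟩

end Cfsg.Agent.S3774
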