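import Cfsg.Statements.S3992
import Mathlib
import Cfsg.Agent.Lib.Frob.Complement
import Cfsg.Agent.Lib.Core.Fitting
import Cfsg.Agent.Lib.Coprime.Hall
import Cfsg.Agent.Lib.Mod.PReduce

set_option autoImplicit false
open Cfsg

namespace Cfsg.Agent.S3992

open Subgroup
open scoped IsMulCommutative

section

variable {G : Type*} [Group G] [Finite G]

omit [Finite G] in
theorem not_commute (hpp : ∀ g : G, g ≠ 1 → IsPrimePow (orderOf g)) {a b : G} (ha : a ≠ 1)
    (hb : b ≠ 1) (h : (orderOf a).Coprime (orderOf b)) : ¬ Commute a b := fun hc => by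
  have h1 := hc.orderOf_mul_eq_mul_orderOf_of_coprime h
  have h2 : a * b ≠ 1 := fun h2 => by
    rw [h2, orderOf_one, eq_comm, mul_eq_one, orderOf_eq_one_iff] at h1
    exact ha h1.1
  rcases (h.isPrimePow_dvd_mul (hpp _ h2)).1 h1.dvd with h3 | h3 <;> rw [h1] at h3
  · exact hb (orderOf_eq_one_iff.1 (h.symm.eq_one_of_dvd ((dvd_mul_left _ _).trans h3)))
  · exact ha (orderOf_eq_one_iff.1 (h.eq_one_of_dvd ((dvd_mul_right _ _).trans h3)))

theorem eppo_of_surjective (hpp : ∀ g : G, g ≠ 1 → IsPrimePow (orderOf g)) {G' : Type*} [Group G']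
    (f : G →* G') (hf : Function.Surjective f) : ∀ g : G', g ≠ 1 → IsPrimePow (orderOf g) := by
  intro g hg
  obtain ⟨g, rfl⟩ := hf g
  obtain ⟨p, k, hp, -, h⟩ := (isPrimePow_nat_iff _).1 (hpp g fun h => hg (h ▸ map_one f))
  obtain ⟨l, -, hl⟩ := (Nat.dvd_prime_pow hp).1 (h ▸ orderOf_map_dvd f g)
  refine (isPrimePow_nat_iff _).2 ⟨p, l, hp, Nat.pos_of_ne_zero ?_, hl.symm⟩
  rintro rfl
  exact hg (orderOf_eq_one_iff.1 hl)

theorem isFC_of_coprime (hpp : ∀ g : G, g ≠ 1 → IsPrimePow (orderOf g)) {V K : Subgroup G}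
    (hV : V ≠ ⊥) (hK : K ≤ normalizer (V : Set G)) (h : (Nat.card K).Coprime (Nat.card V)) :
    Frob.IsFC K :=
  Frob.isFC_of_fpf hK hV fun a ha ha1 v hv hc => by
    by_contra hv1
    exact not_commute hpp ha1 hv1 ((h.coprime_dvd_left (K.orderOf_dvd_natCard ha)).coprime_dvd_right
      (V.orderOf_dvd_natCard hv)) hc

theorem card_primeFactors_le [Group.IsSolvable G]
    (hpp : ∀ g : G, g ≠ 1 → IsPrimePow (orderOf g)) : (Nat.card G).primeFactors.card ≤ 2 := by
  rcases subsingleton_or_nontrivial G with h | h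
  · simp
  obtain ⟨V, hV, -⟩ := Core.exists_isMinNormal_le (N := (⊤ : Subgroup G)) top_ne_bot
  obtain ⟨p, hp, hV'⟩ := hV.exists_isPGroup inferInstance
  have := hV.normal
  have := Fact.mk hp
  obtain ⟨K, hK⟩ := Coprime.pComplement_exists (p := p)
    (Coprime.isPSolvable_of_isSolvable (G := G) inferInstance)
  obtain ⟨hK, n, hn⟩ := Coprime.isPiHall_compl_singleton_iff.1 hK
  obtain ⟨k, hk⟩ := hV'.exists_card_eq
  have h1 := isFC_of_coprime hpp hV.ne_bot (K := K) le_normalizer_of_normal (hk ▸ hK.pow_right k)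
  obtain ⟨q, hq⟩ : ∃ q, ∀ r, r.Prime → r ∣ Nat.card K → r = q := by
    rcases subsingleton_or_nontrivial K with h | h
    · exact ⟨0, fun r hr h' => absurd (Nat.dvd_one.1 (by simpa using h')) hr.ne_one⟩
    obtain ⟨W, hW, -⟩ := Core.exists_isMinNormal_le (N := (⊤ : Subgroup K)) top_ne_bot
    obtain ⟨q, hq, hW'⟩ := hW.exists_isElementaryAbelian inferInstance
    have := hW.normal
    have := Fact.mk hq
    obtain ⟨b, hb⟩ := (isCyclic_iff_exists_zpowers_eq_top.1 (h1.isCyclic_of_pow_eq_one hq hW'.2))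
    have hb' : zpowers (b : K) = W := by
      rw [← W.subtype_apply, ← MonoidHom.map_zpowers, hb, ← MonoidHom.range_eq_map, range_subtype]
    have hb1 : (b : K) ≠ 1 := fun h => hW.ne_bot (by rw [← hb', h, zpowers_one_eq_bot])
    have hbq := orderOf_eq_prime (hW'.2 b b.2) hb1
    refine ⟨q, fun r hr hd => ?_⟩
    by_contra hne
    have := Fact.mk hr
    obtain ⟨a, ha⟩ := exists_prime_orderOf_dvd_card' r hd
    refine not_commute (fun g hg => orderOf_coe g ▸ hpp g fun h => hg (Subtype.ext h)) ?_ hb1 ?_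
      (h1.commute_of_prime (ha ▸ hr) (hbq ▸ hq) (by rw [hb', normalizer_eq_top]; trivial))
    · rintro rfl
      exact hr.ne_one (by simpa using ha.symm)
    · rw [ha, hbq]; exact (Nat.coprime_primes hr hq).2 hne
  refine (Finset.card_le_card (t := {p, q}) fun r hr => ?_).trans Finset.card_le_two
  have hr' := Nat.prime_of_mem_primeFactors hr
  have h2 := Nat.dvd_of_mem_primeFactors hr
  rw [← K.card_mul_index, hr'.dvd_mul, hn] at h2
  rcases h2 with h2 | h2
  · simp [hq r hr' h2]
  · simp [(Nat.prime_dvd_prime_iff_eq hr' hp).1 (hr'.dvd_of_dvd_pow h2)]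

theorem exists_coprime {T : Subgroup G} (hT : ¬ Group.IsSolvable T) {q : ℕ} (hq : q.Prime) :
    ∃ a ∈ T, a ≠ 1 ∧ (orderOf a).Coprime q := by
  have := Fact.mk hq
  by_contra h
  push Not at h
  refine hT (Coprime.isSolvable_of_isPGroup (p := q) (Core.isPGroup_iff_forall_prime_dvd.2
    fun r hr hd => ?_))
  have := Fact.mk hr
  obtain ⟨⟨a, haT⟩, ha⟩ := exists_prime_orderOf_dvd_card' r hd
  rw [orderOf_mk] at ha
  by_contra hne
  refine h a haT ?_ (ha ▸ (Nat.coprime_primes hr hq).2 hne)
  rintro rfl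
  exact hr.ne_one (by simpa using ha.symm)

theorem eq_bot_of_commute (hpp : ∀ g : G, g ≠ 1 → IsPrimePow (orderOf g)) {T N : Subgroup G}
    (hT : ¬ Group.IsSolvable T) (h : N ≤ centralizer (T : Set G)) : N = ⊥ := by
  by_contra hN
  obtain ⟨q, hq, hd⟩ := Nat.exists_prime_and_dvd (fun h => hN (card_eq_one.1 h))
  have := Fact.mk hq
  obtain ⟨⟨b, hb⟩, hbq⟩ := exists_prime_orderOf_dvd_card' q hd
  rw [orderOf_mk] at hbq
  obtain ⟨a, ha, ha1, haq⟩ := exists_coprime hT hq
  refine not_commute hpp ha1 ?_ (hbq ▸ haq) (h hb a ha)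
  rintro rfl
  exact hq.ne_one (by simpa using hbq.symm)

end


/-- Let G be a finite non-solvable group in which every element has prime-power order, and let R be its largest solvable normal subgroup. Then R is a p-group for some prime p; G/R has a non-abelian simple normal subgroup contained in every nontrivial normal subgroup of G/R (its unique minimal normal subgroup); and the order of every solvable subgroup of G has at most two prime divisors. -/
theorem result {G : Type*} [Group G] [Finite G] (hns : ¬ Group.IsSolvable G) (hpp : ∀ g : G, g ≠ 1 → IsPrimePow (orderOf g))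
    (R : Subgroup G) [R.Normal] (hRs : Group.IsSolvable ↥R) (hRmax : ∀ N : Subgroup G, N.Normal → Group.IsSolvable ↥N → N ≤ R) :
    (∃ p : ℕ, p.Prime ∧ IsPGroup p ↥R) ∧
      (∃ M : Subgroup (G ⧸ R), M.Normal ∧ IsSimpleGroup ↥M ∧ ¬ IsMulCommutative ↥M ∧
        ∀ N : Subgroup (G ⧸ R), N.Normal → N ≠ ⊥ → M ≤ N) ∧
      ∀ H : Subgroup G, Group.IsSolvable ↥H → (Nat.card ↥H).primeFactors.card ≤ 2 := by
  refine ⟨?_, ?_, fun H hH => card_primeFactors_le
    fun g hg => orderOf_coe g ▸ hpp g fun h => hg (Subtype.ext h)⟩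
  · by_cases hR : R = ⊥
    · exact ⟨2, Nat.prime_two, hR ▸ IsPGroup.of_bot⟩
    obtain ⟨V, hV, hVR⟩ := Core.exists_isMinNormal_le hR
    obtain ⟨p, hp, hV'⟩ := hV.exists_isPGroup (Core.isSolvable_of_le hRs hVR)
    have := hV.normal
    have := Fact.mk hp
    refine ⟨p, hp, ?_⟩
    by_contra h1
    have hpp' := eppo_of_surjective hpp _ (QuotientGroup.mk'_surjective (pCore p G))
    obtain ⟨L, hL, hLR⟩ := Core.exists_isMinNormal_le (N := R.map (QuotientGroup.mk' (pCore p G)))
      fun h => h1 ((Core.isPGroup_pCore p).to_le ((Core.map_mk_eq_bot_iff _ _).1 h))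
    obtain ⟨q, hq, hL'⟩ := hL.exists_isElementaryAbelian
      (Core.isSolvable_of_le (Core.isSolvable_map hRs _) hLR)
    have := hL.normal
    have := Fact.mk hq
    have hL'' := Core.isPGroup_of_isElementaryAbelian hL'
    have hqp : q ≠ p := by
      rintro rfl
      exact hL.ne_bot (le_bot_iff.1 ((Core.le_pCore hL'').trans Core.pCore_quotient_pCore.le))
    obtain ⟨Q, -, hQ, hQL⟩ := Mod.exists_isPGroup_map_eq hL'' hLR
    obtain ⟨k, hk⟩ := hV'.exists_card_eq
    obtain ⟨l, hl⟩ := hQ.exists_card_eq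
    have h2 := isFC_of_coprime hpp hV.ne_bot (K := Q) le_normalizer_of_normal
      (hk ▸ hl ▸ ((Nat.coprime_primes hq hp).2 hqp).pow l k)
    have h3 : IsCyclic L := by
      have h3 : Q ⊓ pCore p G = ⊥ :=
        (IsPGroup.disjoint_of_ne q p hqp _ _ hQ (Core.isPGroup_pCore p)).eq_bot
      have h4 := h2.isCyclic_of_pow_eq_one hq (A := ⊤) fun a _ => Subtype.ext (mem_bot.1 (h3 ▸
        mem_inf.2 ⟨(a ^ q).2, (QuotientGroup.eq_one_iff _).1 (hL'.2 _ (hQL ▸ mem_map_of_mem _ a.2))⟩))
      have h5 : IsCyclic Q := isCyclic_of_surjective _ topEquiv.surjective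
      exact hQL ▸ isCyclic_of_surjective _ ((QuotientGroup.mk' (pCore p G)).subgroupMap_surjective Q)
    have h4 : Group.IsSolvable (centralizer (L : Set (G ⧸ pCore p G))) := by
      by_contra h4
      exact hL.ne_bot (eq_bot_of_commute hpp' h4 (le_centralizer_iff.1 le_rfl))
    have h5 : Group.IsSolvable (G ⧸ pCore p G) := by
      have : Group.IsSolvable (MulAut L) :=
        (Core.isSolvable_congr (IsCyclic.mulAutMulEquiv L)).2 inferInstance
      refine Group.isSolvable_of_ker_le_range (centralizer (L : Set (G ⧸ pCore p G))).subtype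
        (MulAut.conjNormal (H := L)) fun g hg => ?_
      rw [range_subtype]
      exact fun a ha => (mul_inv_eq_iff_eq_mul.1
        (congrArg Subtype.val (MulEquiv.congr_fun hg ⟨a, ha⟩))).symm
    have := Coprime.isSolvable_of_isPGroup (Core.isPGroup_pCore (G := G) p)
    exact hns (Group.isSolvable_of_ker_le_range (pCore p G).subtype (QuotientGroup.mk' (pCore p G))
      (by simp))
  · have hpp' := eppo_of_surjective hpp _ (QuotientGroup.mk'_surjective R)
    have h0 : ∀ N : Subgroup (G ⧸ R), N.Normal → Group.IsSolvable N → N = ⊥ := fun N hN hN' => by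
      have h1 := hRmax _ (hN.comap (QuotientGroup.mk' R))
        (Core.isSolvable_comap (by rwa [QuotientGroup.ker_mk']) hN')
      rw [← map_comap_eq_self_of_surjective (QuotientGroup.mk'_surjective R) N,
        (Core.map_mk_eq_bot_iff _ _).2 h1]
    obtain ⟨M, hM, -⟩ := Core.exists_isMinNormal_le (N := (⊤ : Subgroup (G ⧸ R))) fun h => hns (by
      have : Subsingleton (G ⧸ R) := subsingleton_iff.1 (subsingleton_of_bot_eq_top h.symm)
      exact Group.isSolvable_of_ker_le_range R.subtype (QuotientGroup.mk' R) (by simp))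
    have := hM.normal
    have h1 : ¬ Group.IsSolvable M := fun h => hM.ne_bot (h0 M this h)
    refine ⟨M, this, ?_, fun h => h1 inferInstance, fun N hN hN1 => ?_⟩
    · have := (nontrivial_iff_ne_bot M).2 hM.ne_bot
      obtain ⟨T, hT, -⟩ := Core.exists_isMinNormal_le (N := (⊤ : Subgroup M)) top_ne_bot
      have := hT.normal
      have h2 : ¬ Group.IsSolvable T := fun h => by
        rcases hM.eq_bot_or_eq_top_of_characteristic (solvableRadical M) with h2 | h2
        · exact hT.ne_bot (le_bot_iff.1 (h2 ▸ Core.le_solvableRadical h))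
        · exact h1 ((Core.isSolvable_congr topEquiv).1 (h2 ▸ Core.isSolvable_solvableRadical))
      have h3 : ∀ N : Subgroup M, N.Normal → N ≠ ⊥ → T ≤ N := fun N hN hN1 =>
        (hT.inf_eq_bot_or_le N).resolve_left fun h => hN1 (eq_bot_of_commute
          (fun g hg => orderOf_coe g ▸ hpp' g fun h => hg (Subtype.ext h)) h2
          (Core.le_centralizer_of_inf_eq_bot (inf_comm T N ▸ h)))
      have h4 : T.Characteristic := characteristic_iff_le_map.2 fun φ =>
        h3 _ (this.map _ φ.surjective) fun h => hT.ne_bot ((map_eq_bot_iff_of_injective _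
          φ.injective).1 h)
      have h5 := (hM.eq_bot_or_eq_top_of_characteristic T).resolve_left hT.ne_bot
      exact ⟨fun N hN => or_iff_not_imp_left.2 fun h => top_le_iff.1 (h5 ▸ h3 N hN h)⟩
    · exact (hM.inf_eq_bot_or_le N).resolve_left fun h => hN1 (eq_bot_of_commute hpp' h1
        (Core.le_centralizer_of_inf_eq_bot (inf_comm M N ▸ h)))

end Cfsg.Agent.S3992
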