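import Cfsg.Statements.S3863
import Mathlib
import Cfsg.Agent.Lib.Reg.FrobCount

set_option autoImplicit false
open Cfsg

namespace Cfsg.Agent.S3863

/-- Let x be an element of the finite group G that is conjugate to its inverse. Then some 2-element conjugates x to its inverse; if the conjugacy class of x has odd size then x ^ 2 = 1; and x lies in, and is conjugate to its inverse inside, every normal subgroup of odd index. -/
theorem result {G : Type*} [Group G] [Finite G] (x : G) (hx : IsConj x x⁻¹) : (∃ t : G, (∃ j : ℕ, orderOf t = 2 ^ j) ∧ t * x * t⁻¹ = x⁻¹) ∧ (Odd (Subgroup.centralizer ({x} : Set G)).index → x ^ 2 = 1) ∧ ∀ (N : Subgroup G) [N.Normal], Odd N.index → ∃ hxN : x ∈ N, IsConj (⟨x, hxN⟩ : N) (⟨x, hxN⟩ : N)⁻¹ := by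
  have h1 : ∃ t : G, (∃ j : ℕ, orderOf t = 2 ^ j) ∧ t * x * t⁻¹ = x⁻¹ := by
    obtain ⟨g, hg⟩ := isConj_iff.1 hx
    obtain ⟨j, m, hm, h⟩ := Nat.exists_eq_two_pow_mul_odd (orderOf_pos g).ne'
    refine ⟨g ^ m, ⟨j, ?_⟩, ?_⟩
    · rw [orderOf_pow_of_dvd hm.pos.ne' (h ▸ dvd_mul_left _ _), h, Nat.mul_div_cancel _ hm.pos]
    · obtain ⟨k, rfl⟩ := hm
      have h2 : Commute (g ^ 2) x := by
        have : g * (g * x * g⁻¹) * g⁻¹ = x := by
          rw [hg, ← conj_inv, hg, inv_inv]
        change g ^ 2 * x = x * g ^ 2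
        conv_rhs => rw [← this]
        simp [sq, mul_assoc]
      rw [pow_succ', pow_mul, mul_inv_rev, mul_assoc g, (h2.pow_left k).eq, ← hg]
      group
  obtain ⟨t, ⟨j, hj⟩, ht⟩ := h1
  have h2 : ∀ H : Subgroup G, Odd H.index → ∃ g : G, g * t * g⁻¹ ∈ H := by
    intro H hH
    have : Fact (Nat.Prime 2) := ⟨Nat.prime_two⟩
    have hp : IsPGroup 2 (Subgroup.zpowers t) := IsPGroup.of_card (by rw [Nat.card_zpowers, hj])
    obtain ⟨q, hq⟩ := hp.nonempty_fixed_point_of_prime_not_dvd_card (G ⧸ H) (by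
      rw [← Subgroup.index_eq_card, ← even_iff_two_dvd]
      exact Nat.not_even_iff_odd.2 hH)
    obtain ⟨g, rfl⟩ := QuotientGroup.mk_surjective q
    have := hq ⟨t⁻¹, inv_mem (Subgroup.mem_zpowers t)⟩
    refine ⟨g⁻¹, ?_⟩
    have h3 : ((t⁻¹ * g : G) : G ⧸ H) = g := this
    rw [QuotientGroup.eq] at h3
    simpa [mul_assoc] using h3
  refine ⟨⟨t, ⟨j, hj⟩, ht⟩, fun hodd => ?_, fun N _ hN => ?_⟩
  · have : Fact (Nat.Prime 2) := ⟨Nat.prime_two⟩
    by_contra hne
    let C := Subgroup.centralizer ({x} : Set G)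
    have htC : t ∉ C := fun h => hne (by
      rw [Subgroup.mem_centralizer_singleton_iff.1 h, mul_inv_cancel_right] at ht
      rw [sq]
      exact mul_eq_one_iff_eq_inv.2 ht)
    have hn : t ∈ Subgroup.normalizer (C : Set G) := by
      refine Subgroup.mem_normalizer_fintype fun c hc => ?_
      rw [SetLike.mem_coe, Subgroup.mem_centralizer_singleton_iff] at hc ⊢
      have h3 : t⁻¹ * x * t = x⁻¹ := by
        have := congrArg (·⁻¹) ht
        simp only [inv_inv] at this
        conv_lhs => rw [← this]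
        group
      have h4 : c * x⁻¹ = x⁻¹ * c := (Commute.inv_right hc).eq
      calc t * c * t⁻¹ * x = t * (c * (t⁻¹ * x * t)) * t⁻¹ := by group
        _ = t * ((t⁻¹ * x * t) * c) * t⁻¹ := by rw [h3, h4]
        _ = _ := by group
    have h5 : Odd (C.relIndex (Subgroup.normalizer (C : Set G))) :=
      hodd.of_dvd_nat (Subgroup.relIndex_dvd_index_of_le Subgroup.le_normalizer)
    have h6 := (C.subgroupOf (Subgroup.normalizer (C : Set G))).pow_index_mem ⟨t, hn⟩
    have h7 : t ^ C.relIndex (Subgroup.normalizer (C : Set G)) ∈ C := h6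
    refine htC (Subgroup.zpowers_le.2 h7 (mem_zpowers_pow_iff.2 ?_))
    rw [hj]
    exact (Nat.coprime_two_right.2 h5).pow_right j
  · obtain ⟨g, hg⟩ := h2 N hN
    have htN : t ∈ N := by
      simpa [mul_assoc] using Subgroup.Normal.conj_mem inferInstance _ hg g⁻¹
    have h3 : x ^ 2 ∈ N := by
      have := N.mul_mem (Subgroup.Normal.conj_mem inferInstance _ htN x) (N.inv_mem htN)
      have h4 : t * x⁻¹ * t⁻¹ = x := by rw [← conj_inv, ht, inv_inv]
      rwa [show x * t * x⁻¹ * t⁻¹ = x * (t * x⁻¹ * t⁻¹) by group, h4, ← sq] at this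
    have hxN : x ∈ N := by
      obtain ⟨k, hk⟩ := hN
      have := N.pow_index_mem x
      rw [hk, pow_succ, pow_mul] at this
      exact (N.mul_mem_cancel_left (N.pow_mem h3 k)).1 this
    exact ⟨hxN, isConj_iff.2 ⟨⟨t, htN⟩, Subtype.ext ht⟩⟩

end Cfsg.Agent.S3863
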