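import Cfsg.Statements.S3915
import Cfsg.Agent.Lib.Cls.RealOdd
import Cfsg.Agent.Lib.Core.Component
import Cfsg.Agent.Lib.OO.Final

set_option autoImplicit false
open Cfsg

namespace Cfsg.Agent.S3915

open Subgroup

theorem not_isSolvable_quot {G : Type*} [Group G] (h : IsQuasisimple G) :
    ¬ Group.IsSolvable (G ⧸ center G) := fun hs =>
  Core.not_isSolvable_of_isQuasisimple h
    (Cls.isSolvable_of_normal_of_quotient (center G)
      (Cls.isSolvable_of_isMulCommutative inferInstance) hs)

theorem exists_two {G : Type*} [Group G] [Finite G] {K : Subgroup G} (h : IsQuasisimple K) :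
    ∃ a ∈ K, (∃ k, orderOf a = 2 ^ k) ∧ a ∉ centralizer (K : Set G) := by
  have h2 : 2 ∣ Nat.card (K ⧸ center K) := by
    by_contra hn
    exact not_isSolvable_quot h
      (OO.Feit_Thompson (Nat.not_even_iff_odd.mp fun e => hn e.two_dvd))
  obtain ⟨t, ht⟩ := exists_prime_orderOf_dvd_card' (G := K ⧸ center K) 2 h2
  obtain ⟨t, rfl⟩ := QuotientGroup.mk'_surjective _ t
  obtain ⟨u, -, hu, k, hk⟩ := Cls.exists_p_lift Nat.prime_two (QuotientGroup.mk' (center K)) t
    ⟨1, by rw [ht, pow_one]⟩
  refine ⟨u, u.2, ⟨k, by rw [orderOf_coe, hk]⟩, fun hc => ?_⟩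
  have : QuotientGroup.mk' (center K) u = 1 := by
    rw [QuotientGroup.mk'_apply, QuotientGroup.eq_one_iff, mem_center_iff]
    intro g
    exact Subtype.ext (hc g g.2)
  rw [← hu, this, orderOf_one] at ht
  omega

theorem aux {G : Type*} [Group G] [Finite G] (hP : ∀ A B : Subgroup G, IsCyclic ↥A → IsCyclic ↥B → IsPGroup 2 ↥A → Nat.card ↥A = Nat.card ↥B → ∃ g : G, B = A.map (MulAut.conj g).toMonoidHom)
    {K L : Subgroup G} (hK : IsComponent K) (hL : IsComponent L) (hne : K ≠ L) {a b : G}
    (ha : a ∈ K) (hb : b ∈ L) {i j : ℕ} (hi : orderOf a = 2 ^ i) (hj : orderOf b = 2 ^ j)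
    (hij : j ≤ i) (haK : a ∉ centralizer (K : Set G)) (hbL : b ∉ centralizer (L : Set G)) :
    False := by
  have hKL := Core.component_le_centralizer_of_ne hK hL hne
  have hLK := Core.component_le_centralizer_of_ne hL hK hne.symm
  have hc : Commute a b := (hKL ha b hb).symm
  have hd : orderOf (a * b) ∣ orderOf a := by
    refine orderOf_dvd_of_pow_eq_one ?_
    rw [hc.mul_pow, pow_orderOf_eq_one, one_mul, ← orderOf_dvd_iff_pow_eq_one, hi, hj]
    exact pow_dvd_pow 2 hij
  have ho := orderOf_pow_orderOf_div (orderOf_pos a).ne' hd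
  set c := a ^ (orderOf a / orderOf (a * b)) with hc'
  have hcK : zpowers c ≤ K := zpowers_le.mpr (pow_mem ha _)
  obtain ⟨g, hg⟩ := hP (zpowers c) (zpowers (a * b)) inferInstance inferInstance (by
    obtain ⟨m, -, hm⟩ := (Nat.dvd_prime_pow Nat.prime_two).mp (hi ▸ hd)
    exact IsPGroup.of_card (n := m) (by rw [Nat.card_zpowers, ho, hm]))
    (by rw [Nat.card_zpowers, Nat.card_zpowers, ho])
  have hM := Core.component_map_conj hK g
  have hab : a * b ∈ K.map (MulAut.conj g).toMonoidHom :=
    map_mono hcK (hg ▸ mem_zpowers (a * b))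
  by_cases e : K.map (MulAut.conj g).toMonoidHom = K
  · have h1 := Core.component_le_centralizer_of_ne hM hL (by rw [e]; exact hne) hab
    exact hbL ((mul_mem_cancel_left (hKL ha)).mp h1)
  · have h1 := Core.component_le_centralizer_of_ne hM hK e hab
    exact haK ((mul_mem_cancel_right (hLK hb)).mp h1)

/-- Let G be a finite group in which, for every prime p, any two cyclic p-subgroups of the same order are conjugate. If the layer E(G), the subgroup generated by the components of G, is non-trivial, then E(G)/Z(E(G)) is a non-abelian simple group. -/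
theorem result {G : Type*} [Group G] [Finite G] (hP : ∀ (p : ℕ), p.Prime → ∀ A B : Subgroup G, IsCyclic ↥A → IsCyclic ↥B → IsPGroup p ↥A → Nat.card ↥A = Nat.card ↥B → ∃ g : G, B = A.map (MulAut.conj g).toMonoidHom) (hE : Cfsg.layer G ≠ ⊥) :
    IsSimpleGroup (↥(Cfsg.layer G) ⧸ Subgroup.center ↥(Cfsg.layer G)) ∧ ¬ IsMulCommutative (↥(Cfsg.layer G) ⧸ Subgroup.center ↥(Cfsg.layer G)) := by
  rw [Ne, Core.layer_eq_bot_iff] at hE
  push Not at hE
  obtain ⟨K, hK⟩ := hE
  have hall : ∀ L : Subgroup G, IsComponent L → L = K := by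
    intro L hL
    by_contra hne
    obtain ⟨a, ha, ⟨i, hi⟩, haK⟩ := exists_two hK.2
    obtain ⟨b, hb, ⟨j, hj⟩, hbL⟩ := exists_two hL.2
    rcases le_total i j with hij | hij
    · exact aux (hP 2 Nat.prime_two) hL hK hne hb ha hj hi hij hbL haK
    · exact aux (hP 2 Nat.prime_two) hK hL (Ne.symm hne) ha hb hi hj hij haK hbL
  have e : layer G = K :=
    le_antisymm (Core.layer_le fun L hL => (hall L hL).le) (Core.component_le_layer hK)
  have hq : IsQuasisimple (layer G) := e ▸ hK.2
  exact ⟨hq.2, fun hc => not_isSolvable_quot hq (Cls.isSolvable_of_isMulCommutative hc)⟩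

end Cfsg.Agent.S3915
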