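import Cfsg.Statements.S4364
import Cfsg.Agent.Lib.Char.Kazarin
import Cfsg.Agent.Lib.Cls.Solv

set_option autoImplicit false
open Cfsg

namespace Cfsg.Agent.S4364

theorem aux {G : Type*} [Group G] [Finite G] (p : ℕ) [hp : Fact p.Prime] (h0 : pCore p G = ⊥)
    (x : G) {a : ℕ} (hx : (Subgroup.centralizer ({x} : Set G)).index = p ^ a) {y z : G}
    (hy : y ∈ Subgroup.normalClosure ({x} : Set G)) (hz : z ∈ Subgroup.normalClosure ({x} : Set G)) :
    y * z * y⁻¹ * z⁻¹ = 1 := by
  have h1 : Subgroup.normalClosure ({x} : Set G) ≤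
      Subgroup.centralizer (fittingSubgroup G : Set G) :=
    Subgroup.normalClosure_le_normal
      (Set.singleton_subset_iff.2 (Cls.mem_centralizer_fitting_of_index_pow h0 hx))
  have h2 := Core.le_fitting_of_le_centralizer_of_isSolvable
    (Char.isSolvable_normalClosure_of_index_pow hp.out hx) h1
  have := h1 hz y (h2 hy)
  rw [this]; group

theorem aux2 {G H : Type*} [Group G] [Finite G] [Group H] [Finite H] (p : ℕ) [hp : Fact p.Prime]
    (f : G →* H) (hf : Function.Surjective f) (h0 : pCore p H = ⊥)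
    (x : G) (hx : ∃ a : ℕ, (Subgroup.centralizer ({x} : Set G)).index = p ^ a) (g h : G) :
    (g * x * g⁻¹) * (h * x * h⁻¹) * (g * x * g⁻¹)⁻¹ * (h * x * h⁻¹)⁻¹ ∈ f.ker := by
  obtain ⟨a, ha⟩ := hx
  have h1 := Cls.index_centralizer_map_dvd hf x
  rw [ha] at h1
  obtain ⟨b, -, hb⟩ := (Nat.dvd_prime_pow hp.out).1 h1
  have hm : ∀ g : G, f (g * x * g⁻¹) ∈ Subgroup.normalClosure ({f x} : Set H) := fun g => by
    rw [map_mul, map_mul, map_inv]
    exact Subgroup.normalClosure_normal.conj_mem _
      (Subgroup.subset_normalClosure (Set.mem_singleton (f x))) _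
  have := aux p h0 (f x) hb (hm g) (hm h)
  rw [MonoidHom.mem_ker]
  simpa only [map_mul, map_inv] using this


/-- Let G be a finite group, p a prime and x an element whose conjugacy class has p-power size. Then for any two conjugates y and z of x, the commutator y z y⁻¹ z⁻¹ lies in O_p(G), the largest normal p-subgroup of G. -/
theorem result {G : Type*} [Group G] [Finite G] (p : ℕ) [Fact p.Prime]
    (x : G) (hx : ∃ a : ℕ, (Subgroup.centralizer ({x} : Set G)).index = p ^ a) (g h : G) :
    (g * x * g⁻¹) * (h * x * h⁻¹) * (g * x * g⁻¹)⁻¹ * (h * x * h⁻¹)⁻¹ ∈ Cfsg.pCore p G := by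
  have := aux2 p (QuotientGroup.mk' (pCore p G)) (QuotientGroup.mk'_surjective _)
    Core.pCore_quotient_pCore x hx g h
  rwa [QuotientGroup.ker_mk'] at this

end Cfsg.Agent.S4364
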