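import Cfsg.Statements.S4034
import Cfsg.Agent.Lib.Cls.Solv

set_option autoImplicit false
open Cfsg

namespace Cfsg.Agent.S4034

/-- Let G be a finite group and p a prime. Every conjugacy class of p-regular elements of G (elements of order prime to p) has p-power size if and only if G has an abelian p-complement, i.e. an abelian subgroup of order prime to p and p-power index. -/
theorem result {G : Type*} [Group G] [Finite G] {p : ℕ} (hp : p.Prime) :
    (∀ x : G, (orderOf x).Coprime p → ∃ k : ℕ, (ConjClasses.mk x).carrier.ncard = p ^ k) ↔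
    (∃ H : Subgroup G, IsMulCommutative H ∧ ¬ p ∣ Nat.card H ∧ ∃ k : ℕ, H.index = p ^ k) := by
  have : Fact p.Prime := ⟨hp⟩
  simp only [Cls.ncard_carrier_mk]
  constructor
  · intro h
    have hs := Cls.isSolvable_of_regular_classes hp h
    obtain ⟨H, hH⟩ := Coprime.hall_exists ({p} : Set ℕ)ᶜ hs
    rw [Coprime.isPiHall_compl_singleton_iff] at hH
    refine ⟨H, ?_, (Nat.Prime.coprime_iff_not_dvd hp).1 hH.1.symm, hH.2⟩
    set f := QuotientGroup.mk' (pCore p G)
    have hf : Function.Surjective f := QuotientGroup.mk'_surjective _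
    have key : ∀ x ∈ H, f x ∈ Subgroup.centralizer (fittingSubgroup (G ⧸ pCore p G) : Set _) := by
      intro x hx
      obtain ⟨k, hk⟩ := h x (hH.1.coprime_dvd_left (H.orderOf_dvd_natCard hx))
      obtain ⟨j, hj⟩ := Cls.exists_pow_of_dvd_pow hp (hk ▸ Cls.index_centralizer_map_dvd hf x)
      exact Cls.mem_centralizer_fitting_of_index_pow Core.pCore_quotient_pCore hj
    refine Core.isMulCommutative_of_forall fun a ha b hb => ?_
    have h1 : f a * f b = f b * f a := key b hb _ (Core.centralizer_fitting_le (key a ha))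
    have h2 : a * b * a⁻¹ * b⁻¹ ∈ pCore p G := by
      rw [← QuotientGroup.eq_one_iff]
      change f _ = 1
      rw [map_mul, map_mul, map_mul, h1, map_inv, map_inv]; group
    have h3 : a * b * a⁻¹ * b⁻¹ ∈ H := mul_mem (mul_mem (mul_mem ha hb) (inv_mem ha)) (inv_mem hb)
    have h4 := Core.inf_eq_bot_of_isPGroup_of_coprime (Core.isPGroup_pCore (G := G) p) hH.1
    have h5 : a * b * a⁻¹ * b⁻¹ = 1 := Subgroup.mem_bot.1 (h4 ▸ ⟨h2, h3⟩)
    exact commutatorElement_eq_one_iff_mul_comm.1 h5
  · rintro ⟨H, hH, h1, k, hk⟩ x hx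
    have hs := Cls.isSolvable_of_abelian_of_index_prime_pow hp hH hk
    have h2 : IsPiHall ({p} : Set ℕ)ᶜ H := Coprime.isPiHall_compl_singleton_iff.2
      ⟨((Nat.Prime.coprime_iff_not_dvd hp).2 h1).symm, k, hk⟩
    obtain ⟨g, hg⟩ := Coprime.hall_le_conj hs h2 (U := Subgroup.zpowers x)
      ((Coprime.isPiNum_compl_singleton_iff hp).2 (by rwa [Nat.card_zpowers]))
    have h3 : H.map (MulAut.conj g).toMonoidHom ≤ Subgroup.centralizer {x} := fun y hy =>
      Cls.mem_centralizer_single.2 (Core.mul_comm_of_mem_of_isMulCommutative inferInstance hy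
        (hg (Subgroup.mem_zpowers x)))
    have h4 := Subgroup.index_dvd_of_le h3
    rw [show (H.map (MulAut.conj g).toMonoidHom).index = H.index from
      Subgroup.index_map_equiv _ (MulAut.conj g), hk] at h4
    exact Cls.exists_pow_of_dvd_pow hp h4

end Cfsg.Agent.S4034
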