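import Cfsg.Statements.S4033
import Cfsg.Agent.Lib.PGrp.TwoReg2
import Cfsg.Agent.S4034
import Cfsg.Agent.Lib.Char.Burnside

set_option autoImplicit false
open Cfsg

namespace Cfsg.Agent.S4033

open Subgroup PGrp

/-- Let G be a finite group and p a prime, and suppose the conjugacy classes of p-regular elements of G (elements of order prime to p) have exactly two distinct sizes. Then either G has an abelian p-complement (an abelian subgroup of order prime to p and p-power index), or there are a prime q ≠ p, a Sylow p-subgroup P, a Sylow q-subgroup Q and a central subgroup A such that PQ is a normal subgroup of order #P·#Q and G is the internal direct product PQ × A. -/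
theorem result {G : Type*} [Group G] [Finite G] {p : ℕ} (hp : p.Prime)
    (h2 : Set.ncard (Set.range fun x : {x : G // (orderOf x).Coprime p} => (ConjClasses.mk (x : G)).carrier.ncard) = 2) :
    (∃ H : Subgroup G, IsMulCommutative H ∧ ¬ p ∣ Nat.card H ∧ ∃ k : ℕ, H.index = p ^ k) ∨
    (∃ (q : ℕ) (_ : Fact q.Prime) (P : Sylow p G) (Q : Sylow q G) (A : Subgroup G), q ≠ p ∧
        A ≤ Subgroup.center G ∧ Nat.card ↥((P : Subgroup G) ⊔ (Q : Subgroup G)) = Nat.card P * Nat.card Q ∧
        ((P : Subgroup G) ⊔ (Q : Subgroup G)).Normal ∧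
        ((P : Subgroup G) ⊔ (Q : Subgroup G)) ⊓ A = ⊥ ∧ ((P : Subgroup G) ⊔ (Q : Subgroup G)) ⊔ A = ⊤) := by
  simp only [Cls.ncard_carrier_mk] at h2
  obtain ⟨m, hm⟩ : ∃ m, ∀ x : G, (orderOf x).Coprime p → x ∉ center G →
      (centralizer ({x} : Set G)).index = m := by
    obtain ⟨a, b, -, e⟩ := Set.ncard_eq_two.mp h2
    have h1 : ∀ x : G, (orderOf x).Coprime p → (centralizer ({x} : Set G)).index = a ∨
        (centralizer ({x} : Set G)).index = b := fun x hx => by
      have := Set.mem_range_self (f := fun x : {x : G // (orderOf x).Coprime p} =>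
        (centralizer ({(x : G)} : Set G)).index) ⟨x, hx⟩
      rw [e] at this
      exact this
    rcases h1 1 (by simp) with e1 | e1 <;>
      rw [Cls.index_centralizer_eq_one_iff.mpr (one_mem _)] at e1
    · exact ⟨b, fun x hx hxZ => (h1 x hx).resolve_left fun e2 =>
        hxZ (Cls.index_centralizer_eq_one_iff.mp (e2.trans e1.symm))⟩
    · exact ⟨a, fun x hx hxZ => (h1 x hx).resolve_right fun e2 =>
        hxZ (Cls.index_centralizer_eq_one_iff.mp (e2.trans e1.symm))⟩
  by_cases hc : ∀ x : G, (orderOf x).Coprime p → ∃ k, (centralizer ({x} : Set G)).index = p ^ k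
  · exact Or.inl ((S4034.result hp).mp (by simpa only [Cls.ncard_carrier_mk] using hc))
  right
  push Not at hc
  obtain ⟨x, hx, hxk⟩ := hc
  have hxZ : x ∉ center G := fun e => hxk 0 (Cls.index_centralizer_eq_one_iff.mpr e)
  obtain ⟨q, hq, hqm, hqp⟩ : ∃ q : ℕ, q.Prime ∧ q ∣ (centralizer ({x} : Set G)).index ∧ q ≠ p := by
    by_contra hc
    push Not at hc
    obtain ⟨k, hk⟩ := Cls.eq_pow_of_forall_prime_eq index_ne_zero_of_finite hc
    exact hxk k hk
  have hqN := ncPrime_of_dvd_index hq hqp (Cls.center_le_centralizer_single x) hqm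
  have hone : ∀ r, NcPrime G p r → r = q := by
    intro r hr
    by_contra hrq
    have h : TwoReg G p m := ⟨hp, hm, fun s => by
      by_cases hs : q = s
      · exact ⟨r, hr, hs ▸ hrq⟩
      · exact ⟨q, hqN, hs⟩⟩
    obtain ⟨k, hk⟩ := h.exists_eq_pow hx hxZ
    exact hxk k ((hm x hx hxZ).trans hk)
  haveI := Fact.mk hp
  haveI := Fact.mk hq
  have hsol : Group.IsSolvable G := by
    refine Cls.isSolvable_of_normal_of_quotient (center G)
      (Cls.isSolvable_of_isMulCommutative inferInstance)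
      (Char.solvable_of_two_primes hp hq fun r hr hrd => ?_)
    by_cases hrp : r = p
    · exact Or.inl hrp
    · exact Or.inr (hone r (ncPrime_of_dvd_index hr hrp le_rfl hrd))
  obtain ⟨K, hK⟩ := Coprime.hall_exists ({p, q} : Set ℕ) hsol
  obtain ⟨A, hA⟩ := Coprime.hall_exists ({p, q} : Set ℕ)ᶜ hsol
  have hAZ : A ≤ center G := fun a ha => Cls.mem_of_forall_prime_pow fun r hr u hu ⟨k, hk⟩ => by
    by_contra huZ
    have hk0 : k ≠ 0 := by
      rintro rfl
      exact huZ (orderOf_eq_one_iff.mp (by simpa using hk) ▸ one_mem _)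
    have h1 := hA.1 r hr ((dvd_pow_self r hk0).trans
      (hk ▸ A.orderOf_dvd_natCard (zpowers_le.mpr ha hu)))
    simp only [Set.mem_compl_iff, Set.mem_insert_iff, Set.mem_singleton_iff, not_or] at h1
    exact h1.2 (hone r ⟨hr, h1.1, u, k, by rw [← hk, pow_orderOf_eq_one], huZ⟩)
  have hKA := Coprime.isComplement'_of_isPiHall hK hA
  haveI : K.Normal := by
    rw [← normalizer_eq_top_iff, eq_top_iff, ← hKA.sup_eq_top]
    exact sup_le le_normalizer (hAZ.trans (center_le_normalizer _))
  obtain ⟨P⟩ : Nonempty (Sylow p G) := inferInstance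
  obtain ⟨Q⟩ : Nonempty (Sylow q G) := inferInstance
  have hle : ∀ (r : ℕ) [Fact r.Prime] (R : Sylow r G), r ∈ ({p, q} : Set ℕ) →
      (R : Subgroup G) ≤ K := fun r hr R hr' => Core.le_of_coprime_card_index (by
    rw [R.card_eq_multiplicity]
    exact ((Nat.Prime.coprime_iff_not_dvd hr.out).mpr (hK.2 r hr.out hr')).pow_left _)
  have hcop : (Nat.card P).Coprime (Nat.card Q) := by
    rw [P.card_eq_multiplicity, Q.card_eq_multiplicity]
    exact ((Nat.coprime_primes hp hq).mpr hqp.symm).pow _ _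
  have h1 : Nat.card P * Nat.card Q ∣ Nat.card ↥((P : Subgroup G) ⊔ Q) :=
    hcop.mul_dvd_of_dvd_of_dvd (card_dvd_of_le le_sup_left) (card_dvd_of_le le_sup_right)
  have h2 : Nat.card K ∣ Nat.card P * Nat.card Q := by
    rw [Nat.dvd_iff_prime_pow_dvd_dvd]
    intro r k hr hk
    rcases k with _ | k
    · simp
    have h3 := (hr.pow_dvd_iff_le_factorization Nat.card_pos.ne').mp
      (hk.trans (card_subgroup_dvd_card K))
    rcases hK.1 r hr ((dvd_pow_self r (by omega)).trans hk) with rfl | rfl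
    · exact Dvd.dvd.mul_right (P.card_eq_multiplicity ▸ pow_dvd_pow r h3) _
    · exact Dvd.dvd.mul_left (Q.card_eq_multiplicity ▸ pow_dvd_pow r h3) _
  have hPQ : (P : Subgroup G) ⊔ Q = K :=
    Subgroup.eq_of_le_of_card_ge (sup_le (hle p P (by simp)) (hle q Q (by simp)))
      (Nat.le_of_dvd Nat.card_pos (h2.trans h1))
  refine ⟨q, inferInstance, P, Q, A, hqp, hAZ, ?_, ?_, ?_, ?_⟩
  · exact Nat.dvd_antisymm (hPQ ▸ h2) h1
  · rw [hPQ]; infer_instance
  · rw [hPQ]; exact hKA.disjoint.eq_bot
  · rw [hPQ]; exact hKA.sup_eq_top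

end Cfsg.Agent.S4033
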