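import Cfsg.Statements.S4347
import Mathlib

set_option autoImplicit false
open Cfsg

namespace Cfsg.Agent.S4347

/-- Let G be a finite group and p a prime. Say a Sylow p-subgroup Q is redundant when every element of p-power order lies in some Sylow p-subgroup other than Q. Then G has no redundant Sylow p-subgroup if and only if some element of p-power order lies in exactly one Sylow p-subgroup. -/
theorem result {G : Type*} [Group G] [Finite G]
    (p : ℕ) [Fact p.Prime] :
    (¬ ∃ Q : Sylow p G, ∀ x : G, (∃ k : ℕ, orderOf x = p ^ k) → ∃ P : Sylow p G, P ≠ Q ∧ x ∈ P) ↔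
      ∃ x : G, (∃ k : ℕ, orderOf x = p ^ k) ∧ ∃! P : Sylow p G, x ∈ P := by
  constructor
  · intro h
    obtain ⟨Q⟩ : Nonempty (Sylow p G) := inferInstance
    push Not at h
    obtain ⟨x, hx, hP⟩ := h Q
    refine ⟨x, hx, ?_⟩
    have hz : IsPGroup p (Subgroup.zpowers x) := by
      obtain ⟨k, hk⟩ := hx
      exact IsPGroup.of_card (n := k) (by rw [Nat.card_zpowers, hk])
    obtain ⟨P, hP'⟩ := hz.exists_le_sylow
    have hxP : x ∈ P := hP' (Subgroup.mem_zpowers x)
    refine ⟨P, hxP, fun R hR => ?_⟩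
    have h1 : R = Q := by
      by_contra h1
      exact hP R h1 hR
    have h2 : P = Q := by
      by_contra h2
      exact hP P h2 hxP
    rw [h1, h2]
  · rintro ⟨x, ⟨k, hk⟩, P0, hP0, huniq⟩ ⟨Q, hQ⟩
    obtain ⟨g, rfl⟩ := MulAction.exists_smul_eq G P0 Q
    obtain ⟨P, hne, hP⟩ := hQ (g * x * g⁻¹) ⟨k, by
      rw [← hk]
      exact (SemiconjBy.orderOf_eq g (x := x) (y := g * x * g⁻¹) (by simp [SemiconjBy])).symm⟩
    apply hne
    have : x ∈ g⁻¹ • P := by
      show x ∈ ((g⁻¹ • P : Sylow p G) : Subgroup G)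
      rw [Sylow.coe_subgroup_smul, Subgroup.mem_pointwise_smul_iff_inv_smul_mem]
      simpa using (show g * x * g⁻¹ ∈ (P : Subgroup G) from hP)
    have h2 := huniq _ this
    rw [← h2, smul_inv_smul]

end Cfsg.Agent.S4347
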