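import Cfsg.Statements.S4357
import Mathlib
import Cfsg.Agent.S4347
import Cfsg.Agent.Lib.Lin.SL2
import Cfsg.Agent.Lib.Cls.Basic
import Cfsg.Agent.Lib.PGrp.RankOne
import Cfsg.Agent.Lib.Transfer.SylowIn

set_option autoImplicit false
open Cfsg

namespace Cfsg.Agent.S4357

open Subgroup Lin
open scoped MatrixGroups commutatorElement

theorem exists_commute {G : Type*} [Group G] [Finite G] {p : ℕ} [Fact p.Prime] {P : Subgroup G}
    (hP : IsPGroup p P) (h : P ≠ ⊥) : ∃ w ∈ P, w ≠ 1 ∧ ∀ g ∈ P, Commute g w := by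
  have := (nontrivial_iff_ne_bot P).2 h
  obtain ⟨⟨w, hw⟩, h1⟩ := ne_bot_iff_exists_ne_one.1
    ((nontrivial_iff_ne_bot _).1 hP.center_nontrivial)
  exact ⟨w, w.2, fun h => h1 (Subtype.ext (Subtype.ext h)), fun g hg =>
    congrArg Subtype.val (mem_center_iff.1 hw ⟨g, hg⟩)⟩

variable {F : Type*} [Field F] [Fintype F]

theorem unique_of_notMem_center (p : ℕ) [Fact p.Prime]
    (h : ∀ P : Sylow p SL(2, F), ∀ x ∈ P, x ∈ center SL(2, F) → x = 1) :
    ∃ x : SL(2, F), (∃ k : ℕ, orderOf x = p ^ k) ∧ ∃! P : Sylow p SL(2, F), x ∈ P := by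
  obtain ⟨P⟩ : Nonempty (Sylow p SL(2, F)) := inferInstance
  by_cases hP : (P : Subgroup SL(2, F)) = ⊥
  · exact ⟨1, ⟨0, by simp⟩, P, one_mem _, fun Q _ =>
      Sylow.ext (P.3 Q.2 (hP.le.trans bot_le))⟩
  obtain ⟨⟨x, hx⟩, hx1⟩ := ne_bot_iff_exists_ne_one.1 hP
  replace hx1 : x ≠ 1 := fun h => hx1 (Subtype.ext h)
  have h1 : ∀ Q : Sylow p SL(2, F), x ∈ Q → ∀ g ∈ Q, Commute g x := fun Q hQ g hg => by
    obtain ⟨w, hw, hw1, h1⟩ := exists_commute Q.isPGroup' fun h => hx1 (mem_bot.1 (h.le hQ))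
    exact SL2.commute_of_commute (fun h' => hw1 (h Q w hw h')) (h1 g hg) (h1 x hQ)
  refine ⟨x, Core.exists_orderOf_eq_pow_of_mem P.isPGroup' hx, P, hx, fun Q hQ => ?_⟩
  refine Sylow.ext (Q.3 P.2 (inf_eq_left.1 ?_)).symm
  rw [← Q.isPGroup'.inf_normalizer_sylow, inf_eq_left]
  refine fun g hg => centralizer_le_normalizer _ fun a ha => ?_
  exact SL2.commute_of_commute (fun h' => hx1 (h P x hx h')) (h1 P hx a ha) (h1 Q hQ g hg)

variable (hq : Odd (Fintype.card F))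
include hq

theorem two_ne_zero' : (2 : F) ≠ 0 := fun h =>
  hq.not_two_dvd_nat ((prime_dvd_char_iff_dvd_card 2).1 ((ringChar.spec F 2).1 h |> fun h' => by
    rcases (Nat.dvd_prime Nat.prime_two).1 h' with h | h
    · exact absurd h CharP.ringChar_ne_one
    · exact h.ge.antisymm h.le ▸ dvd_rfl))

theorem card_centralizer {x : SL(2, F)} (hx : x ∉ center SL(2, F))
    (h : (orderOf x).Coprime (Fintype.card F)) : x.1.trace ^ 2 ≠ 4 ∧
      (Nat.card (centralizer ({x} : Set SL(2, F))) = Fintype.card F - 1 ∨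
      Nat.card (centralizer ({x} : Set SL(2, F))) = Fintype.card F + 1) := by
  obtain ⟨n, hp, hn⟩ := FiniteField.card F (ringChar F)
  have := SL2.trace_sq_ne_four (two_ne_zero' hq) (ringChar F) hx
    (h.coprime_dvd_right (hn ▸ dvd_pow_self _ n.ne_zero))
  exact ⟨this, SL2.card_centralizer (two_ne_zero' hq) this⟩

theorem exists_notMem_center (P : Sylow 2 SL(2, F)) : ∃ x ∈ P, x ∉ center SL(2, F) := by
  by_contra h
  push Not at h
  have h1 := (card_le_of_le (show (P : Subgroup SL(2, F)) ≤ _ from h)).trans SL2.card_center_le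
  have h2 : 2 ^ 2 ∣ Nat.card P := P.pow_dvd_card_of_pow_dvd_card (by
    obtain ⟨k, hk⟩ := hq
    rw [card_SL2, hk]
    exact Dvd.dvd.mul_left (sq 2 ▸ Nat.mul_dvd_mul (by omega) (by omega)) _)
  have := Nat.le_of_dvd Nat.card_pos h2
  omega

omit hq in
theorem index_centralizer {x : SL(2, F)} {c d : ℕ}
    (h : Nat.card (centralizer ({x} : Set SL(2, F))) = c)
    (h' : c * d = (Fintype.card F - 1) * (Fintype.card F + 1)) :
    (centralizer ({x} : Set SL(2, F))).index = Fintype.card F * d := by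
  have h1 := (centralizer ({x} : Set SL(2, F))).card_mul_index
  rw [card_SL2, ← h', h, mul_left_comm] at h1
  exact Nat.eq_of_mul_eq_mul_left (h ▸ Nat.card_pos) h1

theorem unique_of_pow {k : ℕ} (hk : Fintype.card F + 1 = 2 ^ k ∨ Fintype.card F = 2 ^ k + 1) :
    ∃ x : SL(2, F), (∃ k : ℕ, orderOf x = 2 ^ k) ∧ ∃! P : Sylow 2 SL(2, F), x ∈ P := by
  have h2 := two_ne_zero' hq
  obtain ⟨P⟩ : Nonempty (Sylow 2 SL(2, F)) := inferInstance
  obtain ⟨y, hy, hyZ⟩ := exists_notMem_center hq P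
  obtain ⟨j, hj⟩ := Core.exists_orderOf_eq_pow_of_mem P.isPGroup' hy
  have h4 : 2 ^ 2 ∣ Nat.card (centralizer ({y} : Set SL(2, F))) := by
    refine Dvd.dvd.trans (hj ▸ pow_dvd_pow 2 ?_)
      (Subgroup.orderOf_dvd_natCard _ (Cls.self_mem_centralizer_single y))
    by_contra h
    exact hyZ (SL2.mem_center_of_sq_eq_one h2 (orderOf_dvd_iff_pow_eq_one.1
      (hj ▸ (pow_dvd_pow 2 (by omega : j ≤ 1)).trans (pow_one 2).dvd)))
  have hq1 := Fintype.one_lt_card (α := F)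
  have h0 := (card_centralizer hq hyZ (hj ▸ (Nat.coprime_two_left.2 hq).pow_left j)).2
  obtain ⟨k, hT⟩ : ∃ k, Nat.card (centralizer ({y} : Set SL(2, F))) = 2 ^ k := by
    have hk4 : k < 2 → 2 ^ k ≤ 2 := fun h => Nat.pow_le_pow_right two_pos (Nat.le_of_lt_succ h)
    have hk4' : ¬ k < 2 → 2 ^ 2 ∣ 2 ^ k := fun h => pow_dvd_pow 2 (not_lt.1 h)
    by_cases h3 : Fintype.card F = 3
    exacts [⟨2, by omega⟩, ⟨k, by omega⟩]
  obtain ⟨d, hd, hi⟩ : ∃ d, Odd d ∧ (centralizer ({y} : Set SL(2, F))).index = 2 * d := by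
    obtain ⟨m, hm⟩ := hq
    rcases h0 with h | h
    · refine ⟨Fintype.card F * (m + 1), Odd.mul ⟨m, hm⟩ ⟨m / 2, by omega⟩, ?_⟩
      rw [index_centralizer h rfl, hm]
      ring
    · refine ⟨Fintype.card F * m, Odd.mul ⟨m, hm⟩ ⟨m / 2, by omega⟩, ?_⟩
      rw [index_centralizer h (mul_comm _ _), hm, Nat.add_sub_cancel]
      ring
  have hTp := IsPGroup.of_card hT
  obtain ⟨x, hx⟩ := (isCyclic_iff_exists_zpowers_eq_top.1 (PGrp.isCyclic_of_comm_of_rank_le_one hTp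
    ⟨⟨fun a b => Subtype.ext (SL2.commute_of_commute hyZ (mem_centralizer_singleton_iff.1 a.2)
      (mem_centralizer_singleton_iff.1 b.2))⟩⟩ (SL2.pRankLE h2 _)))
  have hx' : zpowers (x : SL(2, F)) = centralizer {y} := by
    simpa [← MonoidHom.range_eq_map] using congrArg (map (centralizer {y}).subtype) hx
  obtain ⟨x, hxy⟩ := x
  simp only at hx'
  have hxk : orderOf x = 2 ^ k := by rw [← Nat.card_zpowers, hx', hT]
  have hxZ : x ∉ center SL(2, F) := fun h =>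
    hyZ (zpowers_le.2 h (hx' ▸ Cls.self_mem_centralizer_single y))
  rw [← SL2.centralizer_eq hxZ hyZ (mem_centralizer_singleton_iff.1 hxy)] at hx' hi hTp
  have ht := (card_centralizer hq hxZ (hxk ▸ (Nat.coprime_two_left.2 hq).pow_left k)).1
  have h5 : ∀ Q : Sylow 2 SL(2, F), x ∈ Q → (centralizer {x}).relIndex Q = 2 := fun Q hQ => by
    have h6 := relIndex_mul_index (show centralizer {x} ≤ Q from hx' ▸ zpowers_le.2 hQ)
    obtain ⟨n, hn⟩ := Q.isPGroup'.index ((centralizer {x}).subgroupOf Q)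
    have h7 := Q.not_dvd_index
    rw [relIndex, hn, hi] at h6
    rw [relIndex, hn]
    obtain _ | _ | n := n
    · omega
    · rfl
    · rw [pow_succ', pow_succ', mul_assoc, mul_assoc] at h6
      have := hd.not_two_dvd_nat
      omega
  have h6 : ∀ Q : Sylow 2 SL(2, F), x ∈ Q → ∀ g ∈ Q, g ∉ centralizer {x} → g * x * g⁻¹ = x⁻¹ :=
    fun Q hQ g hg hgx => (SL2.eq_or_eq_inv h2 ht (mem_centralizer_singleton_iff.1
      ((normal_of_index_eq_two (h5 Q hQ)).conj_mem ⟨x, hQ⟩ (Cls.self_mem_centralizer_single x)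
        ⟨g, hg⟩)) (isConj_iff.2 ⟨g, rfl⟩)).resolve_left fun h =>
          hgx (mem_centralizer_singleton_iff.2 (mul_inv_eq_iff_eq_mul.1 h))
  obtain ⟨Q, hQ⟩ := hTp.exists_le_sylow
  have hxQ := hQ (Cls.self_mem_centralizer_single x)
  refine ⟨x, ⟨k, hxk⟩, Q, hxQ, fun R hR => Sylow.ext (R.3 Q.2 fun g hg => ?_).symm⟩
  by_cases hgx : g ∈ centralizer {x}
  · exact hQ hgx
  obtain ⟨u, hu, hux⟩ := SetLike.not_le_iff_exists.1
    (relIndex_eq_one.not.1 ((h5 Q hxQ).trans_ne (by decide)))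
  refine (Subgroup.mul_mem_cancel_left _ (inv_mem hu)).1 (hQ (mem_centralizer_singleton_iff.2 ?_))
  calc u⁻¹ * g * x = u⁻¹ * (g * x * g⁻¹) * g := by group
    _ = _ := by rw [h6 R hR g hg hgx, ← h6 Q hxQ u hu hux]; group

theorem pow_of_unique {x : SL(2, F)} {P : Sylow 2 SL(2, F)} (hP : x ∈ P)
    (h : ∀ Q : Sylow 2 SL(2, F), x ∈ Q → Q = P) :
    ∃ k, Fintype.card F + 1 = 2 ^ k ∨ Fintype.card F = 2 ^ k + 1 := by
  wlog hx : x ∉ center SL(2, F) generalizing x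
  · obtain ⟨y, hy, hyZ⟩ := exists_notMem_center hq P
    refine this hy (fun Q _ => h Q ?_) hyZ
    obtain ⟨g, rfl⟩ := MulAction.exists_smul_eq SL(2, F) P Q
    exact Transfer.mem_sylow_smul_iff.2 (by
      rwa [mul_assoc, ← mem_center_iff.1 (not_not.1 hx), inv_mul_cancel_left])
  obtain ⟨j, hj⟩ := Core.exists_orderOf_eq_pow_of_mem P.isPGroup' hP
  have h1 := (card_centralizer hq hx (hj ▸ (Nat.coprime_two_left.2 hq).pow_left j)).2
  have hq1 := Fintype.one_lt_card (α := F)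
  by_contra h2
  push Not at h2
  obtain ⟨r, hr, hrT, hr2⟩ : ∃ r, r.Prime ∧ r ∣ Nat.card (centralizer ({x} : Set SL(2, F))) ∧
      r ≠ 2 := by
    by_contra h3
    push Not at h3
    have h4 := Nat.eq_prime_pow_of_unique_prime_dvd Nat.card_pos.ne' fun {d} => h3 d
    have := h2 (Nat.card (centralizer ({x} : Set SL(2, F)))).primeFactorsList.length
    omega
  have := Fact.mk hr
  obtain ⟨⟨t, ht⟩, htr⟩ := exists_prime_orderOf_dvd_card' r hrT
  rw [orderOf_mk] at htr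
  have ht2 : ∀ k, t ^ 2 ^ k ≠ 1 := fun k h => hr2 ((Nat.prime_dvd_prime_iff_eq hr Nat.prime_two).1
    (hr.dvd_of_dvd_pow (htr ▸ orderOf_dvd_of_pow_eq_one h)))
  have htZ : t ∉ center SL(2, F) := fun h => ht2 1 (SL2.sq_eq_one_of_mem_center h)
  have h3 : ¬ (P : Subgroup SL(2, F)) ≤ centralizer {x} := fun h => P.not_dvd_index (by
    refine Dvd.dvd.trans ?_ (index_dvd_of_le h)
    obtain ⟨m, hm⟩ := hq
    rcases h1 with h1 | h1
    · exact index_centralizer h1 rfl ▸ Dvd.dvd.mul_left (by omega) _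
    · exact index_centralizer h1 (mul_comm _ _) ▸ Dvd.dvd.mul_left (by omega) _)
  obtain ⟨y, hy, hyx⟩ := SetLike.exists_of_lt (Transfer.lt_inf_normalizer_of_lt P.isPGroup'
    (inf_lt_left.2 h3))
  have h4 : Commute (y * x * y⁻¹) x := mem_centralizer_singleton_iff.1
    ((mem_normalizer_iff.1 hy.2 x).1 ⟨hP, Cls.self_mem_centralizer_single x⟩).2
  have htx : Commute t x := mem_centralizer_singleton_iff.1 ht
  have h5 : Commute (y * t * y⁻¹) t := SL2.commute_of_commute hx (SL2.commute_of_commute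
    (fun h => hx (by simpa [mul_assoc] using Normal.conj_mem' inferInstance _ h y))
    (htx.map (MulAut.conj y)) h4.symm) htx
  have h6 : r.Coprime (Fintype.card F) := (Nat.Prime.coprime_iff_not_dvd hr).2 fun h => hr.ne_one (by
    rcases h1 with h1 | h1
    · exact Nat.dvd_one.1 ((Nat.dvd_sub_iff_right hq1.le h).1 (h1 ▸ hrT))
    · exact Nat.dvd_one.1 ((Nat.dvd_add_right h).1 (h1 ▸ hrT)))
  rcases SL2.eq_or_eq_inv (two_ne_zero' hq) (card_centralizer hq htZ (htr ▸ h6)).1 h5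
    (isConj_iff.2 ⟨y, rfl⟩) with h7 | h7
  · exact hyx ⟨hy.1, SL2.centralizer_eq htZ hx htx ▸
      mem_centralizer_singleton_iff.2 (mul_inv_eq_iff_eq_mul.1 h7)⟩
  have h8 : t⁻¹ * y * t ∈ P := Transfer.mem_sylow_smul_iff.1 ((h (t • P)
    (Transfer.mem_sylow_smul_iff.2 (by rwa [mul_assoc, ← htx.eq, inv_mul_cancel_left]))).symm ▸ hy.1)
  obtain ⟨k, hk⟩ := P.isPGroup' ⟨_, mul_mem h8 (inv_mem hy.1)⟩
  refine ht2 (k + 1) (inv_eq_one.1 ?_)
  rw [pow_succ', pow_mul, ← inv_pow, sq, mul_inv_rev]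
  nth_rw 2 [← h7]
  simpa [mul_assoc] using congrArg Subtype.val hk

omit hq


/-- Let F be a finite field with q elements, p a prime and G = SL(2, F). Say a Sylow p-subgroup Q of G is redundant when every element of p-power order lies in some Sylow p-subgroup other than Q. Then G has a redundant Sylow p-subgroup if and only if p = 2 and q is not of any of the forms 2ᵏ - 1, 2ᵏ, 2ᵏ + 1. -/
theorem result {F : Type*} [Field F] [Fintype F] (p : ℕ) [Fact p.Prime] :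
    (∃ Q : Sylow p (Matrix.SpecialLinearGroup (Fin 2) F), ∀ x : Matrix.SpecialLinearGroup (Fin 2) F,
        (∃ k : ℕ, orderOf x = p ^ k) → ∃ P : Sylow p (Matrix.SpecialLinearGroup (Fin 2) F), P ≠ Q ∧ x ∈ P) ↔
      (p = 2 ∧ (¬ ∃ k : ℕ, Fintype.card F + 1 = 2 ^ k) ∧ (¬ ∃ k : ℕ, Fintype.card F = 2 ^ k) ∧
        ¬ ∃ k : ℕ, Fintype.card F = 2 ^ k + 1) := by
  rw [← not_iff_not, S4347.result]
  obtain ⟨n, hl, hn⟩ := FiniteField.card F (ringChar F)
  by_cases hp : p = 2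
  swap
  · refine iff_of_true (unique_of_notMem_center p fun P x hx h => ?_) fun h => hp h.1
    obtain ⟨k, hk⟩ := Core.exists_orderOf_eq_pow_of_mem P.isPGroup' hx
    exact orderOf_eq_one_iff.1 (Nat.eq_one_of_dvd_coprimes
      (((Nat.coprime_primes Fact.out Nat.prime_two).2 hp).pow_left k) hk.dvd
      (orderOf_dvd_of_pow_eq_one (SL2.sq_eq_one_of_mem_center h)))
  subst hp
  by_cases h2 : ringChar F = 2
  · have := ringChar.of_eq h2
    exact iff_of_true (unique_of_notMem_center 2 fun P x _ => SL2.eq_one_of_mem_center)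
      fun h => h.2.2.1 ⟨n, h2 ▸ hn⟩
  have hq : Odd (Fintype.card F) := hn ▸ (hl.odd_of_ne_two h2).pow
  constructor
  · rintro ⟨x, -, P, hP, h⟩ ⟨-, h1, -, h3⟩
    obtain ⟨k, hk | hk⟩ := pow_of_unique hq hP h
    exacts [h1 ⟨k, hk⟩, h3 ⟨k, hk⟩]
  · intro h
    by_contra h1
    refine h ⟨rfl, fun ⟨k, hk⟩ => h1 (unique_of_pow hq (Or.inl hk)), fun ⟨k, hk⟩ => ?_,
      fun ⟨k, hk⟩ => h1 (unique_of_pow hq (Or.inr hk))⟩
    have := Fintype.one_lt_card (α := F)
    obtain _ | k := k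
    · omega
    · exact hq.not_two_dvd_nat (hk ▸ dvd_pow_self 2 k.succ_ne_zero)

end Cfsg.Agent.S4357
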