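import Cfsg.Statements.S4069
import Cfsg.Agent.Lib.ZG.Main
import Cfsg.Agent.Lib.Core.MixA

set_option autoImplicit false
open Cfsg

namespace Cfsg.Agent.ZG

open Subgroup Cfsg.Agent.OO Cfsg.Agent.Coprime GW
open scoped commutatorElement Pointwise MatrixGroups

universe u

variable {G : Type u} [Group G] [Finite G] {A L : Subgroup G} {t : G}

omit [Finite G] in
theorem cent_of_comm (hp : der L = L) (h : ⁅A, L⁆ ≤ 𝐂(L)) : A ≤ 𝐂(L) := by
  have := three_subgroup (commutator_comm A L ▸ commutator_eq_bot_iff.2 h) (commutator_eq_bot_iff.2 h)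
  rwa [show ⁅L, L⁆ = L from hp, commutator_eq_bot_iff'] at this

theorem sol_of_pnil (h : PNil 2 L) : Sol L :=
  have ⟨_, hT⟩ := exists_syl 2 L
  (h.sdprod hT).sol (sol_of_odd (odd_O _)) hT.sol

theorem Cyc.O_eq_bot (hC : Cyc G) (hp : der L = L) : O L = ⊥ := by
  by_contra e
  obtain ⟨h1, h2⟩ := hC.comm_der (odd_O L) (Opi_normal _ L).norm
  rw [hp] at h1 h2
  obtain ⟨y, hy, hq⟩ := exists_prime_order_mem e
  have := Fact.mk hq
  have h3 : orderOf y ≠ 2 := fun e => (odd_of_mem (odd_O L) hy).not_two_dvd_nat (e ▸ dvd_rfl)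
  have h4 := (hC.pnil hq h3 rfl).of_le (le_cent1_iff.2 (cent_of_comm hp (h1.trans (le_cent_symm h2)) hy))
  obtain ⟨P, hP⟩ := exists_syl (orderOf y) L
  exact ((mem_Op' h4).1 ((h4.sdprod hP).der_le_of_ab (ab_of_isCyclic (hC _ hq h3 P hP.isPGroup))
    (hp.ge (Opi_le _ _ hy)))).2 dvd_rfl

theorem Alm.le_cent (hA : Alm G) (hp : der L = L) : L ≤ 𝐂(Op 2 L) := by
  have hD := (Op_normal 2 L).cent
  have : Sol (L ⁒ (L ⊓ 𝐂(Op 2 L))) := Mix.sol_of_pi (p := 2) (q := 3) ((piGrp_quo_iff hD.norm).2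
    fun q hq hd => by_contra fun e => by
      have := Fact.mk hq
      obtain ⟨P, hP⟩ := exists_syl q L
      simp only [Set.mem_insert_iff, Set.mem_singleton_iff, not_or] at e
      refine hP.not_dvd (hd.trans (relIndex_dvd_of_le_left _ fun g hg => ⟨hP.le hg, by_contra fun e' => ?_⟩))
      obtain ⟨k, hk⟩ := Core.exists_orderOf_eq_pow_of_mem hP.isPGroup hg
      exact e.2 ((Nat.prime_dvd_prime_iff_eq Nat.prime_three hq).1 (Nat.prime_three.dvd_of_dvd_pow (hk ▸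
        (hA.aut (Op_isPGroup 2 L) ((Op_normal 2 L).norm (hP.le hg))
          (odd_of_mem (odd_of_isPGroup e.1 hP.isPGroup) hg) e').1))).symm)
  refine le_trans ((quo_eq_bot_iff hD.norm).1 (by_contra fun e => ?_)) inf_le_right
  exact (der_lt this e).ne (by rw [← quo_der hD.norm, hp])

theorem Alm.two_mem (hA : Alm G) (hL : ¬ PNil 2 L) (ht : t ∈ 𝐂(L)) (h2 : IsPGroup 2 (zpowers t)) :
    t ∈ L := by
  have := mt pnil_two hL
  push Not at this
  obtain ⟨W, hW, h3, g, hg, hn, ho, hc⟩ := this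
  have tW : zpowers t ≤ 𝐂(W) := zpowers_le.2 (cent_anti hW ht)
  have hT := isPGroup_sup h3 h2 (Or.inr (le_norm_of_le_cent tW))
  obtain ⟨-, c, c2, H⟩ := hA.aut hT (zpowers_le.1 (le_norm_sup (zpowers_le.2 hn) (le_norm_of_le_cent
    (by rw [cent_zpowers, zpowers_le]; exact cent_le_cent1 hg ht |> mem_cent1_comm.1)))) ho
    fun e => hc (cent_anti le_sup_left e)
  rw [mem_cent_iff_conj] at hc
  push Not at hc
  obtain ⟨w, hw, e⟩ := hc
  have w1 : w ≠ 1 := by rintro rfl; simp at e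
  have hw' := conj_mem_of_norm hn hw
  have tT : t ∈ W ⊔ zpowers t := mem_sup_right (mem_zpowers t)
  by_contra tL
  by_cases c1 : c = 1
  · have sq : ∀ y ∈ W ⊔ zpowers t, y * y = 1 := fun y hy => (H y hy).elim
      (fun e => by rw [c1, zpowers_one_eq_bot, mem_bot] at e; rw [e, mul_one]) (c1 ▸ id)
    have cm : ∀ y ∈ W ⊔ zpowers t, ∀ w ∈ W ⊔ zpowers t, y * w = w * y := fun y hy w hw => by
      rw [← inv_eq (sq _ (mul_mem hy hw)), mul_inv_rev, inv_eq (sq _ hy), inv_eq (sq _ hw)]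
    have n1 : ∀ y ∈ W, t ≠ y := fun y hy e => tL (e ▸ hW hy)
    have n2 : ∀ y ∈ W, t * w ≠ y := fun y hy e => tL ((mul_mem_cancel_right (hW hw)).1 (e ▸ hW hy))
    refine hA.four (W ⊔ zpowers t).subtype (fun x y => cm _ x.2 _ y.2) (u := ![⟨w, mem_sup_left hw⟩,
      ⟨_, mem_sup_left hw'⟩, ⟨t, tT⟩, ⟨t * w, mul_mem tT (mem_sup_left hw)⟩]) (fun i => ?_)
      (fun i => Subtype.ext (sq _ (Subtype.prop _))) fun i j => ?_
    · fin_cases i <;> simp [w1, n1 1 (one_mem _), n2 1 (one_mem _)]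
    · fin_cases i <;> fin_cases j <;>
        simp [w1, e, e.symm, n1 _ hw, n1 _ hw', n2 _ hw, n2 _ hw', (n1 _ hw).symm, (n1 _ hw').symm,
          (n2 _ hw).symm, (n2 _ hw').symm]
  have key : ∀ y ∈ W ⊔ zpowers t, y ≠ 1 → y * y = 1 → y = c := fun y hy y1 y2 =>
    ((mem_zp c2).1 ((H y hy).resolve_right (y2 ▸ Ne.symm c1))).resolve_left y1
  have w2 : w * w = c := (H w (mem_sup_left hw)).resolve_left fun e' => by
    have w2 : w * w = 1 := by rw [((mem_zp c2).1 e').resolve_left w1, c2]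
    exact e ((key _ (mem_sup_left hw') (conj_ne_one.2 w1) (conj_sq w2 g)).trans
      (key _ (mem_sup_left hw) w1 w2).symm)
  have cL : zpowers c ≤ L := zpowers_le.2 (w2 ▸ hW (mul_mem hw hw))
  have t2 := (H t tT).resolve_left fun e => tL (cL e)
  refine tL ((mul_mem_cancel_right (hW hw)).1 (cL ((H _ (mul_mem tT (mem_sup_left hw))).resolve_right ?_)))
  rw [(Commute.symm (mem_cent_iff.1 ht w (hW hw))).symm.mul_mul_mul_comm, t2, w2, c2]
  exact Ne.symm c1

theorem psl_congr {F F' : Type} [Field F] [Field F'] (e : F ≃+* F') :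
    Nonempty (Matrix.ProjectiveSpecialLinearGroup (Fin 2) F ≃*
      Matrix.ProjectiveSpecialLinearGroup (Fin 2) F') := by
  let φ : SL(2, F) ≃* SL(2, F') := MonoidHom.toMulEquiv (Matrix.SpecialLinearGroup.map e.toRingHom)
    (Matrix.SpecialLinearGroup.map e.symm.toRingHom) (by ext; simp) (by ext; simp)
  refine ⟨QuotientGroup.congr _ _ φ (Subgroup.ext fun y => ⟨?_, fun hy => ⟨φ.symm y, ?_, by simp⟩⟩)⟩
  · rintro ⟨x, hx, rfl⟩
    exact mem_center_iff.2 fun g => φ.symm.injective (by simpa using mem_center_iff.1 hx (φ.symm g))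
  · exact mem_center_iff.2 fun g => φ.injective (by simpa using mem_center_iff.1 hy (φ g))

theorem struct (hs : ¬ Sol (⊤ : Subgroup G)) (hC : Cyc G) (hA : Alm G) : ∃ X L : Subgroup G,
    X ⊴ ⊤ ∧ L ⊴ ⊤ ∧ (X ⊔ L).index ∣ 2 ∧ Odd ♯X ∧ (♯X).Coprime ♯L ∧ ∃ (p : ℕ) (_ : Fact p.Prime),
      5 ≤ p ∧ (Nonempty (L ≃* Matrix.ProjectiveSpecialLinearGroup (Fin 2) (ZMod p)) ∨
        Nonempty (L ≃* SL(2, ZMod p))) := by
  obtain ⟨L, -, ⟨hL, hs⟩, hm⟩ := exists_minimal_le_of_wellFoundedLT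
    (fun L : Subgroup G => L ⊴ ⊤ ∧ ¬ Sol L) ⊤ ⟨normalIn_top.2 inferInstance, hs⟩
  have hp : der L = L := le_antisymm (der_le L) (hm ⟨hL.der, fun e => hs (sol_of_normal_of_quo
    (der_normal L) e (sol_of_ab (ab_quo_of_der_le le_rfl)))⟩ (der_le L))
  have h0 := hC.O_eq_bot hp
  have h1 := hA.le_cent hp
  have hR := Op_normal 2 L
  have hR' := hL.Op 2
  have hN : (L ⁒ Op 2 L) ⊴ ⊤ := top_quo (Op 2 L) ▸ hL.quo _
  have two : ∀ W ≤ 𝐂(L), IsPGroup 2 W → W ≤ Op 2 L := fun W hW h2 => by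
    have : W ≤ L := fun t ht => hA.two_mem (mt sol_of_pnil hs) (hW ht) (two_zp h2 ht)
    exact le_Op ⟨this, le_norm_of_le_cent (le_cent_symm hW)⟩ h2
  have h2 : O (L ⁒ Op 2 L) = ⊥ := by
    have hW := quoPre_normal hR (Opi_normal ({2} : Set ℕ)ᶜ (L ⁒ Op 2 L))
    have hS : Syl 2 (Op 2 L) (quoPre _ (O (L ⁒ Op 2 L))) := ⟨le_quoPre _, Op_isPGroup 2 L, by
      rw [← card_quo (quoPre_le_norm _), quo_quoPre]
      exact (odd_O _).not_two_dvd_nat⟩
    refine quoPre_eq_iff.1 (((pnil_two fun W h3 h4 g hg _ _ => ?_).sdprod hS).right_eq_iff.2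
      (le_bot_iff.1 (h0 ▸ Opi_le_of_normal _ hW))).symm
    exact cent_anti (hS.le_of_normal_syl (quoPre_le_norm _) h3 h4) (h1 (hW.le hg))
  have : Nontrivial (L ⁒ Op 2 L : Subgroup _) := (nontrivial_iff_ne_bot _).2 (quo_ne_bot hR.norm
    fun e => hs (sol_of_le (sol_of_isPGroup (Op_isPGroup 2 L)) e))
  have c1 := (hC.coset (Op 2 L)).subgroup (L ⁒ Op 2 L)
  have c2 := (hA.coset (Op 2 L)).subgroup (L ⁒ Op 2 L)
  obtain ⟨_, ha⟩ := simple_of (simple_main _) (Nat.lt_succ_self _) c1 c2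
    (index_ne_two_of_perfect (map_injective (subtype_injective _)
      (by rw [map_der, map_subtype_top, ← quo_der hR.norm, hp])))
    (map_injective (subtype_injective _) (by
      rw [O, Op', map_Opi (subtype_injective _), map_subtype_top, Subgroup.map_bot]; exact h2))
    (map_injective (subtype_injective _) (by
      rw [map_Op (subtype_injective _), map_subtype_top, Subgroup.map_bot, Op_quo_Op]))
  obtain ⟨K, t, s, h⟩ := simple_main _ _ (Nat.lt_succ_self _) inferInstance ha c1 c2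
  obtain ⟨x, w, m, h⟩ := exists_res h c1 (O_eq_bot ha) (Op_eq_bot ha)
  have hC' := top_inf_eq 𝐂(L) ▸ hL.cent
  obtain ⟨T, hT⟩ := exists_syl 2 𝐂(L)
  have h3 : 𝐂(L) ≤ O 𝐂(L) ⊔ L := ((pnil_two fun W h3 h4 g hg _ _ =>
    cent_anti ((two W h3 h4).trans hR.le) hg).sdprod hT).sup_eq.ge.trans
      (sup_le_sup_left ((two T hT.le hT.isPGroup).trans hR.le) _)
  refine ⟨O 𝐂(L), L, hC'.Opi _, hL, ?_, odd_O _, Nat.coprime_of_dvd fun q hq d1 d2 => ?_, 2 * m + 1,
    ⟨h.prime⟩, by have := h.two_le; omega, ?_⟩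
  · refine (index_dvd_of_le (?_ : quoPre _ (L ⁒ Op 2 L ⊔ 𝐂(L ⁒ Op 2 L)) ≤ _)).trans ?_
    · rw [quoPre_sup, quoPre_quo hR]
      refine sup_le le_sup_right ((cent_of_comm hp ?_).trans h3)
      exact ((quo_le_cent_iff (quoPre_le_norm _) hR.norm).1 (quo_quoPre _).le).trans (le_cent_symm h1)
    · have := h.index_dvd hN
      rw [← relIndex_top_right, ← relIndex_quoPre, quoPre_top] at this
      generalize quoPre (Op 2 L) _ = M at this ⊢
      rwa [top_le_iff.1 hR'.norm, relIndex_top_right] at this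
  · obtain ⟨y, hy, e⟩ := cauchy hq d1
    obtain ⟨w, hw, e'⟩ := cauchy hq d2
    have := hC.zp_eq hq (fun e => (odd_O _).not_two_dvd_nat (e ▸ d1)) e e' (by
      rw [mem_cent_iff_conj.1 (Opi_le _ _ hy) w hw]; exact mem_zpowers w)
    have h4 : y ∈ O L := le_O (normalIn_inf_of_norm (le_top.trans (hC'.Opi _).norm))
      (odd_of_le (odd_O _) inf_le_right) ⟨zpowers_le.2 hw (this ▸ mem_zpowers y), hy⟩
    rw [h0, mem_bot] at h4
    exact hq.ne_one (by rw [← e, h4, orderOf_one])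
  have := Fact.mk h.prime
  obtain ⟨F, _, _, hF, ⟨e⟩⟩ := h.equiv
  obtain ⟨e'⟩ := psl_congr (ZMod.ringEquivOfPrime F h.prime hF).symm
  let f := (e.trans e').toMonoidHom.comp (quoOnto hR.norm)
  have hf : Function.Surjective f := (e.trans e').surjective.comp (quoOnto_surjective _)
  have hk : f.ker = (Op 2 L).subgroupOf L := by
    rw [← ker_quoOnto hR.norm, MonoidHom.ker_comp_of_injective _ _ (e.trans e').injective]
  by_cases h4 : f.ker = ⊥
  · exact Or.inl ⟨MulEquiv.ofBijective f ⟨(MonoidHom.ker_eq_bot_iff f).1 h4, hf⟩⟩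
  have h5 := h.two_le
  have n : ∀ k : ℕ, k ≠ 0 → k < 5 → (k : ZMod (2 * m + 1)) ≠ 0 := fun k k0 k5 e =>
    absurd (Nat.le_of_dvd (Nat.pos_of_ne_zero k0) ((ZMod.natCast_eq_zero_iff _ _).1 e)) (by omega)
  have h6 := E8.card_center_SL2 (2 * m + 1) fun e => n 2 (by decide) (by decide) (by
    have : (-1 : ZMod (2 * m + 1)) = 1 := by simpa using congrArg (fun A : SL(2, ZMod _) => A.1 0 0) e
    push_cast
    linear_combination -this)
  refine Or.inr (cover f (QuotientGroup.mk' _) ((hA.subgroup L).of_surjective hf) hf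
    (QuotientGroup.mk'_surjective _) (map_injective (subtype_injective _)
      (by rw [map_der, map_subtype_top, hp])) (Matrix.SL2.commutator_eq_top (a := 2)
      (n 2 (by decide) (by decide)) fun e => n 3 (by decide) (by decide) (by
        push_cast
        linear_combination e))
    (hk ▸ fun y hy => mem_center_iff.2 fun g => Subtype.ext (mem_cent_iff.1 (h1 g.2) y hy).symm)
    (QuotientGroup.ker_mk' _).le (hk ▸ (Op_isPGroup 2 L).comap_subtype) ?_ h4 ?_) <;>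
    rw [QuotientGroup.ker_mk']
  · exact IsPGroup.of_card (n := 1) h6
  · exact fun e => by simp [e] at h6

end Cfsg.Agent.ZG

namespace Cfsg.Agent.S4069

open Subgroup OO Coprime ZG in
theorem result {G : Type*} [Group G] [Finite G] (hns : ¬ Group.IsSolvable G)
    (hodd : ∀ p : ℕ, p.Prime → p ≠ 2 → ∀ P : Sylow p G, IsCyclic P)
    (h2 : ∀ S : Sylow 2 G, ∃ C : Subgroup ↥(S : Subgroup G), IsCyclic C ∧ C.index ∣ 2) :
    ∃ G₀ : Subgroup G, G₀.Normal ∧ G₀.index ∣ 2 ∧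
      ∃ X L : Subgroup ↥G₀, X.Normal ∧ L.Normal ∧ X ⊓ L = ⊥ ∧ X ⊔ L = ⊤ ∧ (Nat.card X).Coprime (Nat.card L) ∧
        Odd (Nat.card X) ∧ (∃ (C : Subgroup ↥X) (_ : C.Normal), IsCyclic C ∧ IsCyclic (↥X ⧸ C)) ∧
        ∃ (p : ℕ) (_ : Fact p.Prime), 5 ≤ p ∧
          (Nonempty (↥L ≃* Matrix.ProjectiveSpecialLinearGroup (Fin 2) (ZMod p)) ∨
           Nonempty (↥L ≃* Matrix.SpecialLinearGroup (Fin 2) (ZMod p))) := by
  have hC : Cyc G := fun p hp h P hP => by
    obtain ⟨S, hS⟩ := hP.exists_le_sylow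
    exact isCyclic_of_le' (hodd p hp h S) hS
  have hA : Alm G := fun P hP => by
    obtain ⟨S, hS⟩ := hP.exists_le_sylow
    obtain ⟨C, h1, h3⟩ := h2 S
    obtain ⟨a, ha⟩ := exists_zpowers_eq (isCyclic_of_le' (isCyclic_of_surjective _
      (C.equivMapOfInjective _ (subtype_injective _)).surjective)
      (inf_le_right : P ⊓ C.map (S : Subgroup G).subtype ≤ _))
    have mem : ∀ x (hx : x ∈ P), x ∈ zpowers a ↔ ⟨x, hS hx⟩ ∈ C := fun x hx => by
      rw [ha, ← mem_map_iff_mem (subtype_injective _)]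
      exact and_iff_right hx
    refine ⟨a, (ha.le (mem_zpowers a)).1, fun x hx y hy e e' => ?_⟩
    rw [mem _ hx] at e
    rw [mem _ hy] at e'
    rw [mem _ (mul_mem hx hy)]
    rcases (Nat.dvd_prime Nat.prime_two).1 h3 with h3 | h3
    · exact index_eq_one.1 h3 ▸ mem_top _
    · exact (mul_mem_iff_of_index_two h3).2 (iff_of_false e e')
  obtain ⟨X, L, hX, hL, hi, ho, hc, p, hp, h5, h⟩ := struct (fun _ => hns (Group.isSolvable_of_surjective
    (f := (⊤ : Subgroup G).subtype) fun x => ⟨⟨x, trivial⟩, rfl⟩)) hC hA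
  have := normalIn_top.1 hX
  have := normalIn_top.1 hL
  have e1 := subgroupOfEquivOfLe (le_sup_left : X ≤ X ⊔ L)
  have e2 := subgroupOfEquivOfLe (le_sup_right : L ≤ X ⊔ L)
  rw [← Nat.card_congr e1.toEquiv] at ho hc
  rw [← Nat.card_congr e2.toEquiv] at hc
  have := (hC.subgroup _).isZGroup ho
  exact ⟨X ⊔ L, inferInstance, hi, _, _, inferInstance, inferInstance, inf_eq_bot_of_coprime_card hc,
    by rw [← subgroupOf_sup le_sup_left le_sup_right, subgroupOf_self], hc, ho,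
    ⟨_, inferInstance, IsZGroup.isCyclic_commutator _, IsZGroup.isCyclic_abelianization⟩, p, hp, h5,
    h.imp (fun ⟨e⟩ => ⟨e2.trans e⟩) fun ⟨e⟩ => ⟨e2.trans e⟩⟩

end Cfsg.Agent.S4069
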