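import Cfsg.Statements.S3771
import Mathlib

set_option autoImplicit false
open Cfsg

namespace Cfsg.Agent.S3771

theorem mul_card_le_of_lt {R : Type*} [Group R] [Finite R] {p : ℕ} [Fact p.Prime]
    (hR : IsPGroup p R) {H K : Subgroup R} (h : H < K) : p * Nat.card H ≤ Nat.card K := by
  obtain ⟨a, ha⟩ := IsPGroup.iff_card.1 (hR.to_subgroup H)
  obtain ⟨b, hb⟩ := IsPGroup.iff_card.1 (hR.to_subgroup K)
  have hlt : Nat.card H < Nat.card K := by
    refine lt_of_le_of_ne (Subgroup.card_le_of_le h.le) (fun h' => h.ne ?_)
    exact Subgroup.eq_of_le_of_card_ge h.le h'.ge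
  have hp : p.Prime := Fact.out
  rw [ha, hb] at hlt ⊢
  rw [← pow_succ']
  exact Nat.pow_le_pow_right hp.pos ((Nat.pow_lt_pow_iff_right hp.one_lt).1 hlt)


/-- Let p be a prime and R a finite p-group of p-rank at most 2 (no elementary abelian subgroup of order p³) in which every element has order dividing p. Then R has order at most p³. -/
theorem result {R : Type*} [Group R] [Finite R] {p : ℕ} [Fact p.Prime] (hR : IsPGroup p R) (hrank : Cfsg.PRankLE p 2 R) (hexp : ∀ x : R, x ^ p = 1) : Nat.card R ≤ p ^ 3 := by
  have hp : p.Prime := Fact.out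
  by_cases hcomm : Subgroup.center R = ⊤
  · have h1 : IsMulCommutative (⊤ : Subgroup R) := hcomm ▸ inferInstance
    have h2 := hrank ⊤ h1 (fun a _ => hexp a)
    rw [Subgroup.card_top] at h2
    exact h2.trans (Nat.pow_le_pow_right hp.pos (by norm_num))
  have hQ : IsPGroup p (R ⧸ Subgroup.center R) := hR.to_quotient _
  have hntQ : Nontrivial (R ⧸ Subgroup.center R) := by
    rwa [QuotientGroup.nontrivial_iff]
  have hntR : Nontrivial R := (QuotientGroup.mk_surjective (s := Subgroup.center R)).nontrivial
  have := hQ.center_nontrivial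
  obtain ⟨⟨a', ha'⟩, hne⟩ := exists_ne (1 : Subgroup.center (R ⧸ Subgroup.center R))
  obtain ⟨a, rfl⟩ := QuotientGroup.mk_surjective a'
  have haZ : a ∉ Subgroup.center R := by
    intro h
    apply hne
    ext
    simpa using h
  have hc : ∀ g : R, g * a * g⁻¹ * a⁻¹ ∈ Subgroup.center R := by
    intro g
    rw [← QuotientGroup.eq_one_iff]
    rw [Subgroup.mem_center_iff] at ha'
    have := ha' g
    simp only [QuotientGroup.mk_mul, QuotientGroup.mk_inv]
    rw [this]; group
  set Z := Subgroup.center R with hZ
  let A := Subgroup.closure (insert a (Z : Set R))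
  have hZA : Z < A := by
    refine lt_of_le_of_ne (fun z hz => Subgroup.subset_closure (Or.inr hz)) ?_
    intro h
    exact haZ (h ▸ Subgroup.subset_closure (Or.inl rfl))
  have hZ0 : ⊥ < Z := hR.bot_lt_center
  have hcommB : ∀ c : R, c * a = a * c →
      IsMulCommutative (Subgroup.closure (insert c (insert a (Z : Set R)))) := by
    intro c hca
    apply Subgroup.isMulCommutative_closure
    intro x hx y hy
    rcases hx with rfl | rfl | hx
    · rcases hy with rfl | rfl | hy
      · rfl
      · exact hca
      · exact Subgroup.mem_center_iff.1 hy _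
    · rcases hy with rfl | rfl | hy
      · exact hca.symm
      · rfl
      · exact Subgroup.mem_center_iff.1 hy _
    · exact (Subgroup.mem_center_iff.1 hx _).symm
  have h1 := mul_card_le_of_lt hR hZ0
  have h2 := mul_card_le_of_lt hR hZA
  rw [Subgroup.card_bot, mul_one] at h1
  have hA : Nat.card A ≤ p ^ 2 := by
    have := hcommB a rfl
    rw [Set.insert_eq_of_mem (Set.mem_insert _ _)] at this
    exact hrank _ this (fun x _ => hexp x)
  have hZp : Nat.card Z ≤ p := by
    have : p * Nat.card Z ≤ p * p := by rw [← sq]; exact h2.trans hA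
    exact Nat.le_of_mul_le_mul_left this hp.pos
  have hCA : Subgroup.centralizer {a} ≤ A := by
    intro c hca
    rw [Subgroup.mem_centralizer_singleton_iff] at hca
    by_contra hcA
    have hlt : A < Subgroup.closure (insert c (insert a (Z : Set R))) := by
      refine lt_of_le_of_ne (Subgroup.closure_mono (Set.subset_insert _ _)) ?_
      intro h
      exact hcA (h ▸ Subgroup.subset_closure (Or.inl rfl))
    have h3 := mul_card_le_of_lt hR hlt
    have h4 := hrank _ (hcommB c hca) (fun x _ => hexp x)
    have h5 : p * (p * p) ≤ p ^ 2 := by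
      calc p * (p * p) ≤ p * (p * Nat.card Z) := by gcongr
        _ ≤ p * Nat.card A := by gcongr
        _ ≤ _ := h3.trans h4
    have := hp.two_le
    nlinarith
  have hidx : (Subgroup.centralizer {a}).index ≤ Nat.card Z := by
    let f : R ⧸ Subgroup.centralizer {a} → Z := Quotient.lift (fun g => ⟨_, hc g⟩) (by
      intro x y hxy
      have := QuotientGroup.leftRel_apply.1 hxy
      rw [Subgroup.mem_centralizer_singleton_iff] at this
      ext
      simp only [mul_left_inj]
      calc x * a * x⁻¹ = x * (a * (x⁻¹ * y)) * y⁻¹ := by group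
        _ = y * a * y⁻¹ := by rw [← this]; group)
    apply Nat.card_le_card_of_injective f
    intro x y hxy
    obtain ⟨x, rfl⟩ := QuotientGroup.mk_surjective x
    obtain ⟨y, rfl⟩ := QuotientGroup.mk_surjective y
    have h3 : x * a * x⁻¹ * a⁻¹ = y * a * y⁻¹ * a⁻¹ := congrArg Subtype.val hxy
    rw [mul_left_inj] at h3
    rw [QuotientGroup.eq, Subgroup.mem_centralizer_singleton_iff]
    calc x⁻¹ * y * a = x⁻¹ * (y * a * y⁻¹) * y := by group
      _ = a * (x⁻¹ * y) := by rw [← h3]; group
  calc Nat.card R = Nat.card (Subgroup.centralizer {a}) * (Subgroup.centralizer {a}).index :=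
        (Subgroup.card_mul_index _).symm
    _ ≤ p ^ 2 * p := Nat.mul_le_mul ((Subgroup.card_le_of_le hCA).trans hA) (hidx.trans hZp)
    _ = p ^ 3 := by ring

end Cfsg.Agent.S3771
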