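import Cfsg.Statements.S3888
import Mathlib
import Cfsg.Agent.Lib.Reg.RankTwo
import Cfsg.Agent.Lib.PGrp.MaxClass
import Cfsg.Agent.Lib.PGrp.RankOne

set_option autoImplicit false
open Cfsg

namespace Cfsg.Agent.S3888

open Subgroup Cfsg.Agent.Reg

/-- The classification of the p-groups of rank at most two for odd p. Let p be an odd prime and G a group of order p^n with no elementary abelian subgroup of order p³. Then one of the following holds: G is metacyclic; n ≥ 3 and G is generated by elements x, y, z with x^p = y^p = z^(p^(n−2)) = 1, z commuting with x and y, and x⁻¹yx = y z^(p^(n−3)); n ≥ 4 and G is generated by elements x, y, z with x^p = y^p = z^(p^(n−2)) = 1, yz = zy, x⁻¹yx = y z^(s p^(n−3)) and x⁻¹zx = yz, where s = 1 or s is a quadratic non-residue modulo p; or p = 3 and G has maximal class (nilpotency class n − 1). -/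
theorem result {G : Type*} [Group G] [Finite G] {p : ℕ} [Fact p.Prime] (hp : p ≠ 2) (n : ℕ) (hG : Nat.card G = p ^ n)
    (hrk : Cfsg.PRankLE p 2 G) :
    Cfsg.IsMetacyclic G ∨
    (3 ≤ n ∧ ∃ x y z : G, Subgroup.closure ({x, y, z} : Set G) = ⊤ ∧ x ^ p = 1 ∧ y ^ p = 1 ∧ z ^ p ^ (n - 2) = 1 ∧
        x * z = z * x ∧ y * z = z * y ∧ x⁻¹ * y * x = y * z ^ p ^ (n - 3)) ∨
    (4 ≤ n ∧ ∃ (s : ℕ) (x y z : G), (s = 1 ∨ ¬ IsSquare (s : ZMod p)) ∧ Subgroup.closure ({x, y, z} : Set G) = ⊤ ∧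
        x ^ p = 1 ∧ y ^ p = 1 ∧ z ^ p ^ (n - 2) = 1 ∧ y * z = z * y ∧ x⁻¹ * y * x = y * z ^ (s * p ^ (n - 3)) ∧
        x⁻¹ * z * x = y * z) ∨
    (p = 3 ∧ 2 ≤ n ∧ (⊤ : Subgroup G).lowerCentralSeries (n - 2) ≠ ⊥) := by
  have hG' : IsPGroup p G := IsPGroup.of_card hG
  have hp' : p.Prime := Fact.out
  rcases PGrp.isCyclic_or_dqs_or_exists_normal_elemAb hG' with h | ⟨h, -⟩ | ⟨E, hN, hE, hc⟩
  · exact Or.inl isMetacyclic_of_isCyclic
  · exact absurd h hp
  have hΩ : ∀ c ∈ centralizer (E : Set G), c ^ p = 1 → c ∈ E := fun c hc' hcp => by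
    by_contra hn
    have h1 := PGrp.isElementaryAbelian_sup hE (PGrp.isElementaryAbelian_zpowers hcp) (by
      rw [le_centralizer_iff, zpowers_le]; exact hc')
    have h2 := hrk _ h1.1 h1.2
    rw [PGrp.card_sup_zpowers (p := p) (by rw [normalizer_eq_top]; trivial) hn (hcp ▸ one_mem _),
      hc, ← pow_succ, Nat.pow_le_pow_iff_right hp'.one_lt] at h2
    omega
  by_cases hZ : E ≤ center G
  · exact Or.inl (isMetacyclic_of_surjective (isMetacyclic_centralizer hp hG' hc.le hΩ)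
      (Subgroup.subtype _) fun g => ⟨⟨g, fun e he => (mem_center_iff.1 (hZ he) g).symm⟩, rfl⟩)
  have h : R2 p E := ⟨hp, hG', hN, hE, hc, hΩ, hZ⟩
  have h2 := (centralizer (E : Set G)).card_mul_index
  rw [h.index, ← h.card_powClosure] at h2
  by_cases h1 : ∀ t : G, t ^ p ∈ powClosure p (centralizer (E : Set G))
  swap
  · obtain ⟨t, ht⟩ := not_forall.1 h1
    have h3 := Nat.le_of_dvd Nat.card_pos (PGrp.mul_card_dvd_of_lt (hG'.to_subgroup _)
      (lt_of_le_of_ne (powClosure_mono p le_top)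
        fun e => ht (e ▸ pow_mem_powClosure (mem_top t))))
    refine Or.inl (isMetacyclic_of_index_powClosure_le hp hG' (Nat.le_of_mul_le_mul_left ?_
      (Nat.mul_pos (Nat.card_pos (α := powClosure p (centralizer (E : Set G)))) hp'.pos)))
    refine (Nat.mul_le_mul_right _ h3).trans ?_
    rw [card_mul_index, ← h2, mul_right_comm]
  obtain ⟨t, -, ht⟩ := SetLike.exists_of_lt (PGrp.isCoatom_of_index_eq h.index).1.lt_top
  have := (hG'.to_subgroup (centralizer (E : Set G))).isNilpotent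
  obtain ⟨c, hc, htc⟩ := h.reg.exists_pow_eq _ (h1 t)
  obtain ⟨y, hy, hy'⟩ := SetLike.not_le_iff_exists.1 hZ
  by_cases hyΦ : y ∈ powClosure p (centralizer (E : Set G))
  · obtain ⟨u, hu, huy⟩ := h.reg.exists_pow_eq _ hyΦ
    obtain ⟨h3, h4⟩ := h.card_centralizer_le ht hc htc hy hy' hu huy
    obtain ⟨k, rfl⟩ : ∃ k, n = k + 2 := by
      have h5 := card_subgroup_dvd_card E
      rw [h.card, hG, Nat.pow_dvd_pow_iff_le_right hp'.one_lt] at h5
      exact ⟨n - 2, by omega⟩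
    have h5 := PGrp.nilpotencyClass_eq_of_card_centralizer_le k hG t h4
    have := hG'.isNilpotent
    refine Or.inr (Or.inr (Or.inr ⟨h3, by omega, fun e => ?_⟩))
    have h6 := Subgroup.lowerCentralSeries_eq_bot_iff_nilpotencyClass_le.1 e
    omega
  obtain ⟨m, z, rfl, hC, hz, hζ, hΦ⟩ := h.exists_gen hG hy hy' hyΦ
  rcases h.exists_pow_eq_one hy hC hz hζ hΦ ht hc htc with ⟨x, hx, hxp⟩ | ⟨h3, rfl, h4⟩
  · rcases h.presentation hy hy' hC hz hζ hΦ hx hxp with h5 | ⟨h5, h6⟩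
    · exact Or.inr (Or.inl ⟨by omega, h5⟩)
    · exact Or.inr (Or.inr (Or.inl ⟨by omega, h6⟩))
  · exact Or.inr (Or.inr (Or.inr ⟨h3, by omega, h4⟩))

end Cfsg.Agent.S3888
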