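import Cfsg.Statements.S4021
import Cfsg.Agent.Lib.E8.EC2
import Cfsg.Agent.Lib.PGrp.RankOne

set_option autoImplicit false
open Cfsg

namespace Cfsg.Agent.S4021

open Subgroup Cfsg.Agent.Coprime Cfsg.Agent.OO Cfsg.Agent.E8
open scoped Pointwise MatrixGroups

universe u

variable {G : Type u} [Group G] [Finite G] {S : Subgroup G}

theorem four {a b : G} (a1 : a ≠ 1) (a2 : a * a = 1) (b2 : b * b = 1) (h : a * b = b * a)
    (hb : b ∉ zpowers a) : IsEp 2 2 (zpowers a ⊔ zpowers b) ⊤ := by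
  have := abelem_sup (p := 2) (abelem_zpowers (x := a) (by rwa [pow_two]))
    (abelem_zpowers (x := b) (by rwa [pow_two])) (by rwa [cent_zpowers, zpowers_le, mem_cent1])
  exact ⟨le_top, this, card_four (fun s hs => (pow_two s).symm.trans (this.2 s hs))
    (mem_sup_left (mem_zpowers a)) a1 (mem_sup_right (mem_zpowers b)) hb⟩

theorem exists_tb (h : EC G) (hS : Syl 2 S ⊤) {V : Subgroup G} (hV : IsEp 2 2 V ⊤) : ∃ t, TB S t := by
  have := Nat.le_of_dvd (card_pos' S) (hV.card ▸ hS.card_dvd le_top hV.isPGroup)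
  obtain ⟨t, ht, t1⟩ := exists_mem_ne_one (H := S) (by rintro rfl; simp at this)
  exact ⟨t, h, fun _ => h.pow hV.abelem hV.card, hS, by omega, ht, t1⟩

theorem mem_iff {z x : G} (z2 : z * z = 1) : x ∈ zpowers z ↔ x = 1 ∨ x = z :=
  ⟨fun h => or_iff_not_imp_left.2 (eq_of_mem_zpowers z2 h), by
    rintro (rfl | rfl); exacts [one_mem _, mem_zpowers _]⟩

theorem cover {z : G} (z1 : z ≠ 1) (z2 : z * z = 1) [(zpowers z).Normal]
    (hz : ∀ u, u * u = 1 → u ∈ zpowers z) {Q : Type*} [Group Q] [Finite Q] (e : G ⧸ zpowers z ≃* Q)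
    (h4 : ∀ q : G ⧸ zpowers z, q ^ 4 = 1 → q ^ 2 = 1) (p : ℕ) [Fact p.Prime]
    (h : (-1 : SL(2, ZMod p)) ≠ 1) (hg : ∃ g : SL(2, ZMod p) →* Q,
      Function.Surjective g ∧ g.ker = center _) : Nonempty (G ≃* SL(2, ZMod p)) := by
  obtain ⟨g, g1, g2⟩ := hg
  have h1 : ∀ x, (e.toMonoidHom.comp (QuotientGroup.mk' _)) x = 1 ↔ x ∈ zpowers z := fun x => by simp
  have h2 : ∀ x, g x = 1 ↔ x ∈ center _ := fun x => g2 ▸ Iff.rfl
  refine cover_iso _ g (e.surjective.comp (QuotientGroup.mk'_surjective _)) g1 z1 h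
    (fun x => (h1 x).trans (mem_iff z2)) (fun y => ?_) (fun x hx => (h1 x).2 (hz x (by rwa [← pow_two])))
    (fun y hy => (h2 y).2 (Lin.SL2.mem_center_of_sq_eq_one ?_ hy)) fun q hq => ?_
  · rw [h2, ← eq_zpowers_of_prime (x := -1) (by rw [card_center_SL2 p h]; exact Nat.prime_two)
      (mem_center_iff.2 fun g => by simp) h, mem_iff (by simp)]
  · exact fun e => h (by
      ext i j
      rw [Matrix.SpecialLinearGroup.coe_neg, Matrix.neg_apply, neg_eq_iff_add_eq_zero, ← two_mul, e, zero_mul])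
  · obtain ⟨q, rfl⟩ := e.surjective q
    rw [← map_pow, map_eq_one_iff _ e.injective] at hq ⊢
    exact h4 q hq

theorem main (h : EC G) (hO : pPrimeCore 2 G = ⊥) : (IsCyclic G ∧ IsPGroup 2 G) ∨
    Nonempty (G ≃* affineGroup (GaloisField 2 3)) ∨ Nonempty (G ≃* semiaffineGroup (GaloisField 2 3)) ∨
    Nonempty (G ≃* semiaffineGroup (GaloisField 2 5)) ∨ Nonempty (G ≃* PSL(2, GaloisField 2 3)) ∨
    Nonempty (G ≃* MulAut PSL(2, GaloisField 2 5)) ∨ Nonempty (G ≃* alternatingGroup (Fin 4)) ∨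
    Nonempty (G ≃* alternatingGroup (Fin 5)) ∨ Nonempty (G ≃* SL(2, ZMod 3)) ∨
    Nonempty (G ≃* SL(2, ZMod 5)) := by
  have hO' : ∀ N : Subgroup G, N.Normal → ¬ 2 ∣ ♯N → N = ⊥ := fun N _ e =>
    le_bot_iff.1 (hO ▸ Core.le_pPrimeCore_of_not_dvd e)
  obtain ⟨S, hS⟩ := exists_syl 2 (⊤ : Subgroup G)
  by_cases hV : ∃ V : Subgroup G, IsEp 2 2 V ⊤
  · obtain ⟨V, hV⟩ := hV
    obtain ⟨t, ht⟩ := exists_tb h hS hV
    rcases ht.main hO' with ⟨-, e | e⟩ | ⟨-, e | e | e | e | e⟩ <;> simp only [e, true_or, or_true]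
  have key : ∀ z u : G, z ≠ 1 → z * z = 1 → u * u = 1 → z * u = u * z → u ∈ zpowers z :=
    fun z u z1 z2 u2 e => by_contra fun e' => hV ⟨_, four z1 z2 u2 e e'⟩
  rcases PGrp.isCyclic_or_quaternion_gens_of_rank_le_one hS.isPGroup (fun A hA hA' => by
    rcases A.bot_or_exists_ne_one with rfl | ⟨z, hz, z1⟩
    · simp
    have sq : ∀ a ∈ A, (a : G) * a = 1 := fun a ha =>
      congrArg Subtype.val ((pow_two a).symm.trans (hA' a ha))
    have := card_le (H := A.map S.subtype) (K := zpowers (z : G)) (by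
      rintro _ ⟨u, hu, rfl⟩
      exact key z u (by simpa using z1) (sq z hz) (sq u hu)
        (congrArg Subtype.val (ab_iff.1 hA z hz u hu)))
    rwa [card_map_of_injective S.subtype_injective, card_zpowers_two (by simpa using z1) (sq z hz)]
      at this) with hc | ⟨-, n, ⟨x, hx⟩, ⟨y, hy⟩, hn, c, x1, y1, e1, e2⟩
  · have := cyclic_pdiv_normal_complement hS hc fun q hq _ => hq.two_le
    obtain rfl := this.right_eq_iff.2 (Op'_top.trans hO)
    exact .inl ⟨isCyclic_of_surjective _ topEquiv.surjective, hS.isPGroup.of_equiv topEquiv⟩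
  obtain ⟨n, rfl⟩ := Nat.exists_eq_add_of_le' hn
  rw [orderOf_mk] at x1
  replace y1 : y ∉ zpowers x := fun ⟨k, hk⟩ => y1 ⟨k, Subtype.ext hk⟩
  replace e1 : y * x * y⁻¹ = x⁻¹ := congrArg Subtype.val e1
  replace e2 : y ^ 2 = x ^ 2 ^ (n + 1) := congrArg Subtype.val e2
  have hx1 : ∀ k, x ^ k = 1 ↔ 2 ^ (n + 2) ∣ k := fun k => x1 ▸ orderOf_dvd_iff_pow_eq_one.symm
  generalize hz : x ^ 2 ^ (n + 1) = z at e2
  have z1 : z ≠ 1 := fun e => by
    have := (Nat.pow_dvd_pow_iff_le_right one_lt_two).1 ((hx1 _).1 (hz.trans e)); omega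
  have z2 : z * z = 1 := by rw [← hz, ← pow_add, hx1]; exact Dvd.intro 1 (by ring)
  have hc : ∀ g, g * z * g⁻¹ = z := fun g => by
    have := R1.zstar G z z2 (fun g e => eq_of_mem_zpowers z2 (key z _ z1 z2 (BSW.conj_mul_self z2) e)
      (BSW.conj_ne_one z1)) g
    rwa [hO, mem_bot, mul_inv_eq_one] at this
  have : (zpowers z).Normal := normalizer_eq_top_iff.1 (eq_top_iff.2 fun g _ =>
    mem_norm_of_conj_le (by rw [conj_zpowers, hc]))
  let π := QuotientGroup.mk' (zpowers z)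
  have hπ : Function.Surjective π := QuotientGroup.mk'_surjective _
  have hπ1 : ∀ x, π x = 1 ↔ x ∈ zpowers z := QuotientGroup.eq_one_iff
  have hk : ∀ K : Subgroup G, (zpowers z).relIndex K = ♯(K.map π) := fun K => by
    rw [← relIndex_ker, QuotientGroup.ker_mk']
  have h4 : ∀ x, π x * π x = 1 → x ^ 4 = 1 := fun x e => by
    rw [← map_mul, hπ1, mem_iff z2] at e
    rw [show x ^ 4 = x * x * (x * x) by simp [pow_succ, mul_assoc]]
    rcases e with e | e <;> simp [e, z2]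
  have a2 : π (x ^ 2 ^ n) * π (x ^ 2 ^ n) = 1 := by
    rw [← map_mul, ← pow_add, ← two_mul, ← pow_succ', hz, hπ1]; exact mem_zpowers z
  obtain ⟨t, ht⟩ := exists_tb (h.map hπ) (map_top_of_surjective π hπ ▸ hS.map π)
    (four (a := π (x ^ 2 ^ n)) (b := π y) (fun e => by
      have : (x ^ 2 ^ n) ^ 2 = 1 := by
        rcases (mem_iff z2).1 ((hπ1 _).1 e) with e | e <;> simp [e, pow_two, z2]
      exact z1 (by rw [← hz, pow_succ, pow_mul, this])) a2
      (by rw [← map_mul, ← pow_two, e2, hπ1]; exact mem_zpowers z)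
      (by rw [eq_comm, ← mul_inv_eq_iff_eq_mul, ← map_inv, ← map_mul, ← map_mul, ← conj_pow, e1,
        inv_pow, map_inv, inv_eq_of_mul_eq_one_left a2])
      fun ⟨k, hk⟩ => y1 (by
        have := QuotientGroup.eq.1 (show π ((x ^ 2 ^ n) ^ k) = π y from (map_zpow π _ k).trans hk)
        exact (mul_mem_cancel_left (inv_mem (zpow_mem (pow_mem (mem_zpowers x) _) k))).1
          (zpowers_le.2 (hz ▸ pow_mem (mem_zpowers x) _) this)))
  obtain rfl : n = 0 := by
    have := (Nat.pow_dvd_pow_iff_le_right one_lt_two (l := 2)).1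
      ((hx1 4).1 (h4 x (ht.sq _ (mem_map_of_mem π hx))))
    omega
  have h5 := card_mul_relIndex (zpowers_le.2 (hz ▸ pow_mem hx _ : z ∈ S))
  rw [hk, card_zpowers_two z1 z2, c] at h5
  have hz' : ∀ u, u * u = 1 → u ∈ zpowers z := fun u u2 =>
    key z u z1 z2 u2 (mul_inv_eq_iff_eq_mul.1 (hc u)).symm
  rcases (ht.main fun N hN e => by
    have h6 : zpowers z ≤ N.comap π := fun x hx => mem_comap.2 ((hπ1 x).2 hx ▸ one_mem N)
    have h7 := cyclic_pdiv_normal_complement (p := 2) ⟨h6, abelem_isPGroup (abelem_zpowers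
      (by rwa [pow_two])), by rwa [hk, map_comap_eq_self_of_surjective hπ]⟩ inferInstance
      fun q hq _ => hq.two_le
    rw [← map_comap_eq_self_of_surjective hπ N, ← h7.right_eq_iff.2 (hO' _ (normalizer_eq_top_iff.1
      (top_le_iff.1 (le_norm_Opi _ le_normalizer_of_normal))) (not_dvd_Op' _)),
      Subgroup.map_eq_bot_iff, QuotientGroup.ker_mk']).resolve_right (by omega) with
    ⟨-, ⟨⟨e⟩⟩ | ⟨⟨e⟩⟩⟩
  · simp only [cover z1 z2 hz' e ht.h4 3 (by decide) exists_hom_SL3, true_or, or_true]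
  · have : Fact (Nat.Prime 5) := ⟨by norm_num⟩
    simp only [cover z1 z2 hz' e ht.h4 5 (by decide) exists_hom_SL5, or_true]

/-- Let G be a finite group in which any two subgroups of the same order are conjugate. Then G/O(G), O(G) the largest normal subgroup of odd order, is one of: a cyclic 2-group; the one-dimensional affine group over the field with 8 elements; the one-dimensional semi-affine group over the field with 8 or with 32 elements; PSL₂(8); the full automorphism group of PSL₂(32); the alternating group of degree 4 or 5; SL₂(3); or SL₂(5). -/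
theorem result {G : Type*} [Group G] [Finite G]
    (hC : ∀ H K : Subgroup G, Nat.card H = Nat.card K → ∃ g : G, K = H.map (MulAut.conj g).toMonoidHom) :
    (IsCyclic (G ⧸ Cfsg.oddCore G) ∧ IsPGroup 2 (G ⧸ Cfsg.oddCore G)) ∨
    Nonempty (G ⧸ Cfsg.oddCore G ≃* Cfsg.affineGroup (GaloisField 2 3)) ∨
    Nonempty (G ⧸ Cfsg.oddCore G ≃* Cfsg.semiaffineGroup (GaloisField 2 3)) ∨
    Nonempty (G ⧸ Cfsg.oddCore G ≃* Cfsg.semiaffineGroup (GaloisField 2 5)) ∨
    Nonempty (G ⧸ Cfsg.oddCore G ≃* Matrix.ProjectiveSpecialLinearGroup (Fin 2) (GaloisField 2 3)) ∨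
    Nonempty (G ⧸ Cfsg.oddCore G ≃* MulAut (Matrix.ProjectiveSpecialLinearGroup (Fin 2) (GaloisField 2 5))) ∨
    Nonempty (G ⧸ Cfsg.oddCore G ≃* alternatingGroup (Fin 4)) ∨
    Nonempty (G ⧸ Cfsg.oddCore G ≃* alternatingGroup (Fin 5)) ∨
    Nonempty (G ⧸ Cfsg.oddCore G ≃* Matrix.SpecialLinearGroup (Fin 2) (ZMod 3)) ∨
    Nonempty (G ⧸ Cfsg.oddCore G ≃* Matrix.SpecialLinearGroup (Fin 2) (ZMod 5)) :=
  main (EC.map hC (QuotientGroup.mk'_surjective _)) Core.pPrimeCore_quotient_pPrimeCore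

end Cfsg.Agent.S4021
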