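import Cfsg.Statements.S3769
import Cfsg.Agent.Lib.Mod.GroupForm

set_option autoImplicit false
open Cfsg

namespace Cfsg.Agent.S3769


/-- Let G and V be subgroups of a finite group with G solvable of odd order normalizing V, V an elementary abelian ℓ-group for a prime ℓ not dividing the order of G, and suppose G has a normal Hall subgroup K with a complement R of prime order. If C_V(R) = 1, then [R, K] centralizes V. -/
theorem result {X : Type*} [Group X] [Finite X] (G : Subgroup X) (hsolv : Group.IsSolvable G) (hodd : Odd (Nat.card G)) (V : Subgroup X) {ℓ : ℕ} (hℓ : ℓ.Prime) (hV : Cfsg.IsElementaryAbelian ℓ V) (hℓG : ¬ ℓ ∣ Nat.card G) (hGV : G ≤ Subgroup.normalizer (V : Set X)) (K R : Subgroup X) (hKG : K ≤ G) (hKn : G ≤ Subgroup.normalizer (K : Set X)) (hHall : (Nat.card K).Coprime (K.relIndex G)) (hRG : R ≤ G) (hR : (Nat.card R).Prime) (hKR : K ⊓ R = ⊥) (hKRG : K ⊔ R = G) (hCV : V ⊓ Subgroup.centralizer (R : Set X) = ⊥) : ⁅R, K⁆ ≤ Subgroup.centralizer (V : Set X) := by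
  by_contra hne
  have hRK : R ≤ Subgroup.normalizer (K : Set X) := hRG.trans hKn
  have hcop : (Nat.card R).Coprime (Nat.card K) := by
    have h1 := Core.card_mul_relIndex_of_le hKG
    have h2 := Core.card_sup_of_disjoint hRK (by rw [inf_comm, hKR])
    rw [sup_comm, hKRG, ← h1, mul_comm] at h2
    rw [← Nat.eq_of_mul_eq_mul_right Nat.card_pos h2]
    exact hHall.symm
  obtain ⟨x, rfl, ho⟩ := Mod.exists_zpowers_eq_of_prime_card hR rfl
  obtain ⟨q, hq, Q, hQK, hQ, h1, i, hi, d, hd, h2⟩ := Mod.hallHigman_fpf_of_coprime (n := 0) hℓ hR hV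
    (fun h => hℓG (h.trans (Subgroup.card_dvd_of_le hKG))) (hR.coprime_iff_not_dvd.1 hcop)
    (hKG.trans hGV) (hGV (hRG (Subgroup.mem_zpowers x))) (hRK (Subgroup.mem_zpowers x))
    (by simpa using ho) (fun h => hne (by
      rw [Subgroup.commutator_comm, Subgroup.commutator_le]
      intro g hg a ha
      refine Reg.commutator_mem_of_closure_right (T := {x}) (fun t ht => ?_) (fun t ht => ?_)
        (Subgroup.zpowers_eq_closure x ▸ ha)
      · exact ht ▸ Core.le_normalizer_centralizer (hRG.trans hGV) (Subgroup.mem_zpowers x)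
      · simpa [Set.mem_singleton_iff.1 ht] using h g hg)) hCV
  obtain rfl : i = 0 := by omega
  rw [zero_add, Nat.sub_zero, pow_one] at h2
  obtain rfl := Mod.eq_two_of_pow_add_one_eq_prime hq hR h2 hd
  have hQ0 : Q ≠ ⊥ := fun h => h1 (by simp [h])
  obtain ⟨y, hy, hy2⟩ := PGrp.exists_orderOf_eq_prime_of_ne_bot hQ hQ0
  have := (Subgroup.orderOf_dvd_natCard G (hKG (hQK hy)))
  rw [hy2] at this
  exact (Nat.not_even_iff_odd.2 hodd) (even_iff_two_dvd.2 this)

end Cfsg.Agent.S3769
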