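import Cfsg.Statements.S3770
import Cfsg.Agent.Lib.Mod.Faithful
import Cfsg.Agent.Lib.Transfer.Fpf

set_option autoImplicit false
open Cfsg

namespace Cfsg.Agent.S3770

open Module Subgroup Cfsg.Agent.Mod
open scoped commutatorElement

theorem aux {k G V : Type*} [Field k] [Group G] [AddCommGroup V] [Module k V]
    {ρ : Representation k G V} [IsAlgClosed k] [FiniteDimensional k V] [Finite G] {K R : Subgroup G}
    (hF : Frob.IsFrobPair K R) (hK : (Nat.card K : k) ≠ 0) (hr : (Nat.card R).Prime)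
    (h1 : finrank k (fix ρ R) ≤ 1) : ⁅K, K⁆ ≤ ρ.ker := by
  classical
  suffices hs : ∀ c ∈ comps ρ K, c ≤ fix ρ ⁅K, K⁆ from
    fix_eq_top_iff.1 (top_le_iff.1 (sSup_comps (ρ := ρ) hK ▸ sSup_le hs))
  intro c hc
  have hKc := isInv_of_mem_comps hc
  by_cases h0 : c ≤ fix ρ K
  · exact h0.trans (fix_anti (Coprime.commutator_le_of_le_normalizer le_normalizer))
  have h2 : ∀ h ∈ R, h ∈ stab ρ c → h = 1 := fun h hh hs => by
    by_contra h3
    rw [← le_kerOn_iff] at h0
    obtain ⟨D, hD, ⟨hD1, hD2⟩, hmin⟩ := Core.exists_minimal_le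
      (P := fun D => K ≤ normalizer (D : Set G) ∧ ¬ D ≤ kerOn ρ c) ⟨le_normalizer, h0⟩
    have h4 : ⁅D, K⁆ ≤ kerOn ρ c := by
      by_contra h
      have h2 := Core.commutator_lt_of_isNilpotent (Transfer.isNilpotent_of_isFrobPair hF) hD hD1
        fun e => hD2 (e ▸ bot_le)
      exact h2.ne (hmin _ ⟨normalizer_commutator_ge_right _ _, h⟩ h2.le)
    refine hD2 fun g hg => ?_
    obtain ⟨U, hU, hcU⟩ := id hc
    have hUc : U ≤ c := hcU ▸ le_hcomp
    obtain ⟨t, ht⟩ := exists_smul_on_comp hK hc hU hUc (hD hg) fun a ha w hw =>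
      h4 (commutator_comm D K ▸ commutator_mem_commutator ha hg) w (hUc hw)
    obtain ⟨y, hy, e⟩ := Frob.exists_conj_of_fpf (K := K ⊓ kerOn ρ c) (h := h)
      (Core.le_normalizer_inf (zpowers_le.2 (hF.le_normalizer hh))
        (normalizer_kerOn (isInv_iff_le_stab.2 (zpowers_le.2 hs))) (mem_zpowers h))
      (fun a ha => hF.fpf h hh h3 a ha.1) (k := ⁅g, h⁆)
      ⟨Coprime.commutator_le_of_le_normalizer hF.le_normalizer (commutator_mem_commutator (hD hg) hh),
        commutator_mem_kerOn_of_smul ht hs⟩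
    have h5 := hF.fpf h hh h3 (y⁻¹ * g) (K.mul_mem (K.inv_mem hy.1) (hD hg)) (by
      rw [commutatorElement_def, inv_mul_cancel_right] at e
      rw [← mul_left_inj g⁻¹, ← mul_right_inj y, mul_assoc h, mul_inv_cancel_right, ← mul_assoc, e]
      group)
    rw [inv_mul_eq_one] at h5
    exact h5 ▸ hy.2
  obtain ⟨p, -, hp1, hp2⟩ := sSupIndep.exists_proj (sSupIndep_comps hK) (R := {c})
    (Set.singleton_subset_iff.2 hc)
  haveI := Fintype.ofFinite R
  have h3 : ∀ w ∈ c, p (nrm ρ R w) = w := fun w hw => by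
    rw [nrm_apply, map_sum, Finset.sum_eq_single (1 : R), OneMemClass.coe_one, map_one,
      Module.End.one_apply, hp1 c rfl w hw]
    · exact fun b _ hb => hp2 _ (map_rho_mem_comps hc (hF.le_normalizer b.2))
        (fun e => hb (Subtype.ext (h2 b b.2 e))) _ (Submodule.mem_map_of_mem hw)
    · exact fun h => (h (Finset.mem_univ _)).elim
  have h4 : finrank k c ≤ 1 := (Submodule.finrank_mono (t := (fix ρ R).map p) fun w hw =>
    ⟨_, nrm_mem_fix R w, h3 w hw⟩).trans ((Submodule.finrank_map_le _ _).trans h1)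
  have h5 : 0 < finrank k c :=
    finrank_pos_iff.2 (Submodule.nontrivial_iff_ne_bot.2 (ne_bot_of_mem_comps hc))
  rw [← le_kerOn_iff, commutator_le]
  exact fun a ha b hb => commutator_mem_kerOn_of_mem_scal
    (mem_scal_of_finrank_eq_one (by omega) (hKc a ha)) (isInv_iff_le_stab.1 hKc hb)


/-- Let G and V be subgroups of a finite group with G a Frobenius group with complement R of prime order and kernel K, G normalizing V, and V an elementary abelian ℓ-group for a prime ℓ not dividing the order of G. If C_V(R) has order ℓ, then the derived subgroup of K centralizes V. -/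
theorem result {X : Type*} [Group X] [Finite X] (G : Subgroup X) (V : Subgroup X) {ℓ : ℕ} (hℓ : ℓ.Prime) (hV : Cfsg.IsElementaryAbelian ℓ V) (hℓG : ¬ ℓ ∣ Nat.card G) (hGV : G ≤ Subgroup.normalizer (V : Set X)) (R : Subgroup ↥G) (hR : Cfsg.IsFrobeniusComplement R) (hRp : (Nat.card R).Prime) (hCV : Nat.card ↥(V ⊓ Subgroup.centralizer ((R.map G.subtype : Subgroup X) : Set X)) = ℓ) : ⁅Subgroup.closure (Subtype.val '' Cfsg.frobeniusKernel R), Subgroup.closure (Subtype.val '' Cfsg.frobeniusKernel R)⁆ ≤ Subgroup.centralizer (V : Set X) := by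
  haveI := Fact.mk hℓ
  obtain ⟨K, -, hK, hF, -⟩ := Frob.exists_isFrobPair hR
  have h1 : Subgroup.closure (Subtype.val '' Cfsg.frobeniusKernel R) = K.map G.subtype := by
    rw [← hK]
    exact closure_eq (K.map G.subtype)
  have hKV := (map_subtype_le K).trans hGV
  have hRV := (map_subtype_le R).trans hGV
  obtain ⟨W, _, _, _, ρ, ι, hl⟩ := exists_isLin_normalizer (AlgebraicClosure (ZMod ℓ)) hV
  haveI := Core.normal_subgroupOf_of_le_normalizer (le_refl (normalizer (V : Set X)))
  have h2 := aux (ρ := ρ) ((hF.map_of_injective _ G.subtype_injective).subgroupOf hKV hRV)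
    (natCast_ne_zero_of_not_dvd _ fun h => hℓG (h.trans (by
      rw [Core.card_subgroupOf_of_le hKV]; exact card_dvd_of_le (map_subtype_le K))))
    (by rwa [Core.card_subgroupOf_of_le hRV, Core.card_map_subtype]) (by
      have := hl.card_fix ((R.map G.subtype).subgroupOf _)
      rw [card_inf_centralizer_subgroupOf hRV le_normalizer, hCV] at this
      exact (Nat.pow_right_injective hℓ.two_le (this.symm.trans (pow_one ℓ).symm)).le)
  rw [hl.ker_eq, commutator_subgroupOf hKV hKV, centralizer_subgroupOf le_normalizer] at h2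
  rw [h1]
  exact fun x hx => h2 (x := ⟨x, hKV (Coprime.commutator_le_of_le_normalizer le_normalizer hx)⟩) hx

end Cfsg.Agent.S3770
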