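import Cfsg.Statements.S3740
import Mathlib
import Cfsg.Agent.S4357
import Cfsg.Agent.Lib.Coprime.SylowCount

set_option autoImplicit false
open Cfsg

namespace Cfsg.Agent.S3740

open Subgroup Lin Matrix
open scoped MatrixGroups commutatorElement

theorem exists_basis {F : Type*} [Field F] [CharP F 3] {A X : Matrix (Fin 2) (Fin 2) F}
    (h1 : A.det = 1) (h2 : A.trace = 2) (h3 : A ≠ 1) (h4 : X.det = 1) (h5 : X.trace = 0)
    (h6 : (X * (A * X * A.adjugate)).trace = 0) : ∃ P : Matrix (Fin 2) (Fin 2) F, P.det ≠ 0 ∧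
      A * P = P * !![1, 1; 0, 1] ∧ (X * P = P * !![0, -1; 1, 0] ∨ X * P = P * !![0, 1; -1, 0]) := by
  have h0 : (3 : F) = 0 := CharP.cast_eq_zero F 3
  obtain ⟨a, b, c, d, rfl⟩ : ∃ a b c d, A = !![1 + a, b; c, d] :=
    ⟨A 0 0 - 1, _, _, _, by rw [add_sub_cancel, ← eta_fin_two]⟩
  obtain ⟨u, v, w, z, rfl⟩ : ∃ a b c d, X = !![a, b; c, d] := ⟨_, _, _, _, eta_fin_two X⟩
  simp only [det_fin_two_of, trace_fin_two_of, adjugate_fin_two_of, mul_fin_two] at h1 h2 h4 h5 h6
  obtain rfl : d = 1 - a := by linear_combination h2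
  obtain rfl : z = -u := by linear_combination h5
  obtain ⟨e, he⟩ : ∃ e, e = 2 * a * u + b * w + c * v := ⟨_, rfl⟩
  have h7 : e ^ 2 = 1 := by grind
  by_cases hc : c = 0
  · obtain rfl : a = 0 := by grind
    have hb : b ≠ 0 := fun h => h3 (by simp [hc, h, ← one_fin_two])
    refine ⟨!![b, e * u * b; 0, e * w * b], by rw [det_fin_two_of]; grind, ?_,
      (sq_eq_one_iff.1 h7).imp (fun h => ?_) fun h => ?_⟩ <;>
    · simp only [mul_fin_two]
      congr! 3 <;> grind
  · refine ⟨!![a, e * (u * a + v * c); c, e * (w * a - u * c)], by rw [det_fin_two_of]; grind, ?_,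
      (sq_eq_one_iff.1 h7).imp (fun h => ?_) fun h => ?_⟩ <;>
    · simp only [mul_fin_two]
      congr! 3 <;> grind

theorem trace_eq_zero {F : Type*} [Field F] {x : SL(2, F)} (hx : x ∉ center SL(2, F))
    (h : x * x ∈ center SL(2, F)) : x.1.trace = 0 := by
  by_contra ht
  have h1 := mem_range_scalar_two_iff.1 (SL2.mem_center_iff_scalar.1 h)
  rw [Matrix.SpecialLinearGroup.coe_mul, SL2.mul_self] at h1
  exact hx (SL2.mem_center_iff_scalar.2 (mem_range_scalar_two_iff.2 (by simpa [ht] using h1)))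


/-- Let F be a finite field of odd characteristic p and let a be a p-element of SL₂(F) normalizing a subgroup R of order prime to p with [R, a] ≠ 1. Then p = 3, R is a quaternion group of order 8, and R⟨a⟩ is isomorphic to SL₂(3). -/
theorem result (F : Type) [Field F] [Fintype F] {p : ℕ} [Fact p.Prime] [CharP F p] (hp : p ≠ 2) (a : Matrix.SpecialLinearGroup (Fin 2) F) (ha : IsPGroup p ↥(Subgroup.zpowers a)) (R : Subgroup (Matrix.SpecialLinearGroup (Fin 2) F)) (hR : (Nat.card R).Coprime p) (haR : a ∈ Subgroup.normalizer (R : Set (Matrix.SpecialLinearGroup (Fin 2) F))) (hnt : ⁅R, Subgroup.zpowers a⁆ ≠ ⊥) : p = 3 ∧ Nonempty (↥R ≃* QuaternionGroup 2) ∧ Nonempty (↥(R ⊔ Subgroup.zpowers a) ≃* Matrix.SpecialLinearGroup (Fin 2) (ZMod 3)) := by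
  have hpp : p.Prime := Fact.out
  obtain ⟨n, -, hn⟩ := FiniteField.card F p
  have hq : Odd (Fintype.card F) := hn ▸ (hpp.odd_of_ne_two hp).pow
  have h2 := S4357.two_ne_zero' hq
  obtain ⟨k, hk⟩ := Core.exists_orderOf_eq_pow_of_mem ha (mem_zpowers a)
  have ha1 : a ≠ 1 := fun h => hnt (by simp [h])
  have hpa : p ∣ orderOf a := by simpa using ha.dvd_orderOf (g := ⟨a, mem_zpowers a⟩) (by simpa)
  have hao : Odd (orderOf a) := hk ▸ (hpp.odd_of_ne_two hp).pow
  have hC : ∀ x : SL(2, F), x.1.trace ^ 2 ≠ 4 → a ∉ centralizer {x} := fun x hx h => by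
    have h3 := hpa.trans (Subgroup.orderOf_dvd_natCard _ h)
    have h4 : p ∣ Fintype.card F := hn ▸ dvd_pow_self p n.ne_zero
    refine hpp.ne_one (Nat.dvd_one.1 ?_)
    rcases SL2.card_centralizer h2 hx with h1 | h1
    · exact (Nat.dvd_sub_iff_right Fintype.card_pos h4).1 (h1 ▸ h3)
    · exact (Nat.dvd_add_right h4).1 (h1 ▸ h3)
  have hRt : ∀ r ∈ R, r ∉ center SL(2, F) → r.1.trace ^ 2 ≠ 4 := fun r hr h =>
    SL2.trace_sq_ne_four h2 p h (hR.coprime_dvd_left (Subgroup.orderOf_dvd_natCard _ hr))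
  have key : ∀ r ∈ R, Commute (a * r * a⁻¹) r → r ∈ center SL(2, F) := fun r hr h => by
    by_contra hZ
    refine hC r (hRt r hr hZ) (zpowers_le.2 (?_ : a ^ 2 ∈ _)
      (mem_zpowers_pow_iff.2 (Nat.coprime_two_left.2 hao)))
    rw [mem_centralizer_singleton_iff, ← mul_inv_eq_iff_eq_mul,
      show a ^ 2 * r * (a ^ 2)⁻¹ = a * (a * r * a⁻¹) * a⁻¹ by rw [sq]; group]
    rcases SL2.eq_or_eq_inv h2 (hRt r hr hZ) h (isConj_iff.2 ⟨a, rfl⟩) with h | h
    · rw [h, h]
    · rw [h, ← conj_inv, h, inv_inv]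
  have haR' : zpowers a ≤ normalizer R := zpowers_le.2 haR
  have hR2 : IsPGroup 2 R := IsPGroup.of_card (Nat.eq_prime_pow_of_unique_prime_dvd
    Nat.card_pos.ne' fun {s} hs hsR => by
      have := Fact.mk hs
      obtain ⟨S, hS, haS⟩ := Coprime.exists_invariant_sylow s haR'
        (by rw [Nat.card_zpowers, hk]; exact hR.symm.pow_left k) (Or.inl inferInstance)
      obtain ⟨w, hw, hw1, h⟩ := S4357.exists_commute hS.2.1 fun h =>
        hS.2.2 (by rwa [h, relIndex_bot_left])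
      have h3 := SL2.sq_eq_one_of_mem_center (key w (hS.1 hw)
        (h _ ((mem_normalizer_iff.1 (haS (mem_zpowers a)) w).1 hw)))
      exact (Nat.prime_dvd_prime_iff_eq hs Nat.prime_two).1 (Dvd.dvd.trans (by
        simpa using hS.2.1.dvd_orderOf (g := ⟨w, hw⟩) (by simpa)) (orderOf_dvd_of_pow_eq_one h3)))
  have hconj := fun r hr => (mem_normalizer_iff.1 haR r).1 hr
  have hnc : ¬ IsCyclic R := fun h => hnt (commutator_eq_bot_iff_le_centralizer.2 fun r hr =>
    center_le_centralizer _ (key r hr (setLike_mul_comm (s := R) (hconj r hr) hr)))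
  obtain ⟨-, m, x, y, hm, hRc, hx, hy, hyx, hy2⟩ :=
    (PGrp.isCyclic_or_quaternion_gens_of_rank_le_one hR2 (SL2.pRankLE h2 R)).resolve_left hnc
  have hi := PGrp.index_zpowers_eq_two (x := x) (by rw [hx, hRc, pow_succ'])
  obtain rfl : m = 2 := by
    have h3 := sq_mem_of_index_two hi ⟨_, hconj x x.2⟩
    have h4 := SL2.sq_eq_one_of_mem_center (key _ (x ^ 2).2 (by
      simpa [sq, mul_assoc] using (Cls.commute_of_mem_zpowers h3
        (pow_mem (mem_zpowers x) 2)).map R.subtype))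
    have h5 : orderOf x ∣ 2 ^ 2 := orderOf_dvd_of_pow_eq_one (Subtype.ext (by
      simpa [← pow_mul] using h4))
    exact le_antisymm ((Nat.pow_dvd_pow_iff_le_right one_lt_two).1 (hx ▸ h5)) hm
  have h4 : ∀ g ∈ R, g * g ∈ center SL(2, F) := fun g hg => by
    obtain ⟨j, hj, h⟩ := (Nat.dvd_prime_pow Nat.prime_two).1 (hRc ▸ orderOf_dvd_natCard (⟨g, hg⟩ : R))
    have h5 : j ≤ 2 := Nat.le_of_lt_succ (hj.lt_of_ne fun h5 =>
      hnc (isCyclic_of_orderOf_eq_card _ (by rw [h, hRc, h5])))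
    rw [orderOf_mk] at h
    refine SL2.mem_center_of_sq_eq_one h2 ?_
    rw [← sq, ← pow_mul]
    exact orderOf_dvd_iff_pow_eq_one.1 (h ▸ pow_dvd_pow 2 h5)
  have hx2 : x ^ 2 ≠ 1 := fun h => absurd (hx ▸ orderOf_dvd_of_pow_eq_one h) (by decide)
  have hxZ : x.1 ∉ center SL(2, F) := fun h => hx2 (Subtype.ext (SL2.sq_eq_one_of_mem_center h))
  obtain rfl : p = 3 := by
    have h5 := Coprime.card_modEq_card_inf_centralizer ha haR'
    have h6 : Nat.card ↥(R ⊓ centralizer (zpowers a : Set SL(2, F))) = 2 := le_antisymm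
      ((card_le_of_le (H := R ⊓ centralizer (zpowers a : Set SL(2, F))) fun r hr =>
        by_contra fun h => hC r (hRt r hr.1 h)
        (mem_centralizer_singleton_iff.2 (hr.2 a (mem_zpowers a)))).trans SL2.card_center_le)
      ((one_lt_card_iff_ne_bot _).2 fun h => hx2 (Subtype.ext (mem_bot.1 (h.le
        ⟨(x ^ 2).2, center_le_centralizer _ (by simpa [sq] using h4 x x.2)⟩))))
    rw [hRc, h6] at h5
    rcases hpp.dvd_mul.1 (show p ∣ 2 * 3 from (Nat.modEq_iff_dvd' (by norm_num)).1 h5.symm) with h | h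
    · exact absurd ((Nat.prime_dvd_prime_iff_eq hpp Nat.prime_two).1 h) hp
    · exact (Nat.prime_dvd_prime_iff_eq hpp Nat.prime_three).1 h
  refine ⟨rfl, PGrp.nonempty_mulEquiv_quaternion (n := 2) hx hRc hy hy2 hyx, ?_⟩
  have h5 : a.1.trace ^ 2 = 4 := by_contra fun h => hC a h (Cls.self_mem_centralizer_single a)
  have h6 : a ^ 3 = 1 := orderOf_dvd_iff_pow_eq_one.1 ((Nat.coprime_two_right.2 hao).dvd_of_dvd_mul_left
    (orderOf_dvd_of_pow_eq_one (SL2.pow_eq_one_of_trace 3 h5)))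
  have h0 : (3 : F) = 0 := CharP.cast_eq_zero F 3
  have h7 : a.1.trace = 2 := by
    have h := congrFun (congrFun (congrArg Subtype.val h6) 0) 0
    rw [Matrix.SpecialLinearGroup.coe_pow, pow_three', SL2.mul_self, sub_mul, smul_mul_assoc,
      SL2.mul_self] at h
    simp at h
    linear_combination -h + (a.1 0 0) * h5 + (a.1 0 0 - 1) * h0
  have h8 : ¬ Commute (a * x * a⁻¹) x := fun h => hxZ (key x x.2 h)
  obtain ⟨P, hP, hA, hX⟩ := exists_basis a.2 h7 (fun h => ha1 (Subtype.ext h)) x.1.2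
    (trace_eq_zero hxZ (h4 x x.2)) (trace_eq_zero (x := x.1 * (a * x.1 * a⁻¹)) (fun h => h8
      (mul_left_cancel ((mul_assoc _ _ _).symm.trans (mem_center_iff.1 h x).symm)))
      (h4 _ (mul_mem x.2 (hconj x x.2))))
  let ψ := (MulAut.conj (GeneralLinearGroup.mkOfDetNeZero P hP)).toMonoidHom.comp
    (Matrix.SpecialLinearGroup.toGL.comp (Matrix.SpecialLinearGroup.map (n := Fin 2)
      (ZMod.castHom dvd_rfl F)))
  have hψ : Function.Injective ψ := (MulAut.conj _).injective.comp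
    (Matrix.SpecialLinearGroup.toGL_injective.comp fun g h e => Subtype.ext
      (Matrix.map_injective (ZMod.castHom dvd_rfl F).injective (congrArg Subtype.val e)))
  have hψ' : ∀ (g : SL(2, F)) (h : SL(2, ZMod 3)), g.1 * P = P * h.1.map (ZMod.castHom dvd_rfl F) →
      g ∈ ψ.range.comap Matrix.SpecialLinearGroup.toGL := fun g h e =>
    ⟨h, mul_inv_eq_iff_eq_mul.2 (Units.ext e.symm)⟩
  set K := ψ.range.comap Matrix.SpecialLinearGroup.toGL
  have haK : a ∈ K := hψ' a ⟨!![1, 1; 0, 1], by simp⟩ (hA.trans (by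
    congr 1; ext i j; fin_cases i <;> fin_cases j <;> simp))
  have hxK : x.1 ∈ K := hX.elim (fun h => hψ' x ⟨!![0, -1; 1, 0], by simp⟩ (h.trans (by
    congr 1; ext i j; fin_cases i <;> fin_cases j <;> simp))) fun h =>
      hψ' x ⟨!![0, 1; -1, 0], by simp⟩ (h.trans (by
        congr 1; ext i j; fin_cases i <;> fin_cases j <;> simp))
  have hRK : R ≤ K := subgroupOf_eq_top.1 (PGrp.eq_top_of_index_two hi (zpowers_le.2 hxK)
    (y := ⟨_, hconj x x.2⟩) (fun h => h8 ((Cls.commute_of_mem_zpowers h (mem_zpowers x)).map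
      R.subtype)) (K.mul_mem (K.mul_mem haK hxK) (K.inv_mem haK)))
  have h9 : (R ⊔ zpowers a).map Matrix.SpecialLinearGroup.toGL = ψ.range :=
    eq_of_le_of_card_ge (map_le_iff_le_comap.2 (sup_le hRK (zpowers_le.2 haK))) (by
      rw [card_map_of_injective Matrix.SpecialLinearGroup.toGL_injective,
        ← Nat.card_congr (MonoidHom.ofInjective hψ).toEquiv, card_SL2, ZMod.card]
      exact Nat.le_of_dvd Nat.card_pos (Nat.Coprime.mul_dvd_of_dvd_of_dvd (by norm_num)
        (hpa.trans (Subgroup.orderOf_dvd_natCard _ (mem_sup_right (mem_zpowers a))))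
        (hRc ▸ card_dvd_of_le le_sup_left :)))
  exact ⟨((equivMapOfInjective _ _ Matrix.SpecialLinearGroup.toGL_injective).trans
    (MulEquiv.subgroupCongr h9)).trans (MonoidHom.ofInjective hψ).symm⟩

end Cfsg.Agent.S3740
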