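import Cfsg.Statements.S3806
import Cfsg.Agent.Lib.PGrp.MaxClass

set_option autoImplicit false
open Cfsg

namespace Cfsg.Agent.S3806

/-- Let p be a prime and S a finite p-group of order pⁿ (n ≥ 2) of maximal nilpotency class n − 1 whose sectional p-rank is exactly k (every section has p-rank at most k, and some section has p-rank k). If p ≥ k + 2 then the order of S is at most p^(2k). -/
theorem result {S : Type*} [Group S] [Finite S] (p : ℕ) [Fact p.Prime] (hS : IsPGroup p S) [Group.IsNilpotent S]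
    (n : ℕ) (hn : 2 ≤ n) (hcard : Nat.card S = p ^ n) (hmax : Group.nilpotencyClass S = n - 1)
    (k : ℕ) (hk : 1 ≤ k) (hsr : Cfsg.SectionalPRankLE p k S ∧ ¬ Cfsg.SectionalPRankLE p (k - 1) S)
    (hpk : k + 2 ≤ p) : Nat.card S ≤ p ^ (2 * k) := by
  have hp : p.Prime := Fact.out
  rw [hcard, Nat.pow_le_pow_iff_right hp.one_lt]
  by_contra! hlt
  obtain ⟨n, rfl⟩ := Nat.exists_eq_add_of_le' hn
  have hT : Nat.card (⊤ : Subgroup S) = p ^ (n + 2) := Subgroup.card_top.trans hcard
  have hTc : Group.nilpotencyClass (⊤ : Subgroup S) = n + 1 :=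
    (PGrp.nilpotencyClass_eq_of_mulEquiv Subgroup.topEquiv.symm).trans hmax
  have hTP := hS.to_subgroup ⊤
  rcases hk.eq_or_lt with rfl | hk
  · have h1 := hsr.1 ⊤ (frattini _) ⊤
      (PGrp.isElementaryAbelian_top_iff.mpr ⟨PGrp.isMulCommutative_quotient_frattini hTP,
        PGrp.quotient_frattini_pow_eq_one hTP⟩).1 fun a _ => PGrp.quotient_frattini_pow_eq_one hTP a
    rw [Subgroup.card_top] at h1
    have h2 := (PGrp.sq_le_index_frattini hTP fun _ => PGrp.not_comm_of_nilpotencyClass
      (G := (⊤ : Subgroup S)) (by omega) IsCyclic.isMulCommutative).trans h1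
    rw [Nat.pow_le_pow_iff_right hp.one_lt] at h2
    omega
  obtain ⟨k, rfl⟩ : ∃ j, k = j + 2 := ⟨k - 2, by omega⟩
  obtain ⟨N, hN, hNc⟩ := PGrp.exists_normal_card hTP (k := n - (2 * k + 3))
    (hT ▸ Nat.pow_le_pow_right hp.pos (by omega))
  have hNi : N.index = p ^ (2 * k + 3 + 2) := by
    have := N.card_mul_index
    rw [hNc, hT, show n + 2 = n - (2 * k + 3) + (2 * k + 3 + 2) by omega, pow_add] at this
    exact Nat.eq_of_mul_eq_mul_left (pow_pos hp.pos _) this
  have hQ := PGrp.nilpotencyClass_quotient_of_maxClass hT hTc N hNi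
  have := (hTP.to_quotient N).isNilpotent
  have h1 := hsr.1 ⊤ N ((⊤ : Subgroup _).lowerCentralSeries (k + 1))
    (PGrp.isMulCommutative_iff_commutator_eq_bot.mpr (le_bot_iff.mp
      ((PGrp.commutator_lowerCentralSeries_of_maxClass hNi hQ k).trans
        (Subgroup.lowerCentralSeries_eq_bot_iff_nilpotencyClass_le.mpr (by omega)).le)))
    (PGrp.lowerCentralSeries_pow_eq_one_of_maxClass k hNi hQ (by omega))
  rw [PGrp.card_lowerCentralSeries_of_maxClass hNi hQ (by omega),
    Nat.pow_le_pow_iff_right hp.one_lt] at h1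
  omega

end Cfsg.Agent.S3806
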