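import Cfsg.Statements.S3866
import Mathlib

set_option autoImplicit false
open Cfsg

namespace Cfsg.Agent.S3866

/-- Let A be a commutative normal subgroup of the finite group G with G generated by A and an element x. Then a ↦ x a x⁻¹ a⁻¹ is a surjective homomorphism from A onto the commutator subgroup of G whose kernel is the centralizer of x in A; in particular the commutator subgroup has order equal to the index in A of that centralizer. -/
theorem result {G : Type*} [Group G] [Finite G] (A : Subgroup G) [A.Normal] (hA : IsMulCommutative A) (x : G) (hgen : A ⊔ Subgroup.zpowers x = ⊤) : (∀ a ∈ A, x * a * x⁻¹ * a⁻¹ ∈ commutator G) ∧ (∀ c ∈ commutator G, ∃ a ∈ A, x * a * x⁻¹ * a⁻¹ = c) ∧ (∀ a ∈ A, ∀ b ∈ A, x * (a * b) * x⁻¹ * (a * b)⁻¹ = (x * a * x⁻¹ * a⁻¹) * (x * b * x⁻¹ * b⁻¹)) ∧ Nat.card (commutator G) * Nat.card ↥(A ⊓ Subgroup.centralizer ({x} : Set G)) = Nat.card A := by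
  have hcomm : ∀ a ∈ A, ∀ b ∈ A, a * b = b * a := fun a ha b hb =>
    congrArg Subtype.val (hA.is_comm.comm ⟨a, ha⟩ ⟨b, hb⟩)
  have hN : A.Normal := inferInstance
  have hmul : ∀ a ∈ A, ∀ b ∈ A, x * (a * b) * x⁻¹ * (a * b)⁻¹ =
      (x * a * x⁻¹ * a⁻¹) * (x * b * x⁻¹ * b⁻¹) := by
    intro a ha b hb
    have h1 := hcomm a⁻¹ (A.inv_mem ha) (x * b * x⁻¹ * b⁻¹)
      (A.mul_mem (hN.conj_mem b hb x) (A.inv_mem hb))
    calc x * (a * b) * x⁻¹ * (a * b)⁻¹ = x * a * x⁻¹ * (x * b * x⁻¹ * b⁻¹ * a⁻¹) := by group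
      _ = x * a * x⁻¹ * (a⁻¹ * (x * b * x⁻¹ * b⁻¹)) := by rw [h1]
      _ = _ := by group
  let f : A →* G := MonoidHom.mk' (fun a => x * a * x⁻¹ * (a : G)⁻¹)
    (fun a b => hmul a a.2 b b.2)
  have hf : ∀ a : A, f a = x * a * x⁻¹ * (a : G)⁻¹ := fun a => rfl
  have hfA : f.range ≤ A := by
    rintro _ ⟨a, rfl⟩
    exact A.mul_mem (hN.conj_mem a a.2 x) (A.inv_mem a.2)
  have hnormal : f.range.Normal := by
    rw [← Subgroup.normalizer_eq_top_iff, eq_top_iff, ← hgen, sup_le_iff]
    constructor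
    · intro a ha
      rw [Subgroup.mem_normalizer_iff]
      intro h
      constructor
      · intro hh
        rw [hcomm a ha h (hfA hh), mul_inv_cancel_right]; exact hh
      · intro hh
        have h1 : h ∈ A := by
          have := hN.conj_mem _ (hfA hh) a⁻¹
          simpa [mul_assoc] using this
        rw [hcomm a ha h h1, mul_inv_cancel_right] at hh; exact hh
    · rw [Subgroup.zpowers_le]
      apply Subgroup.mem_normalizer_fintype
      rintro _ ⟨a, rfl⟩
      refine ⟨⟨x * a * x⁻¹, hN.conj_mem a a.2 x⟩, ?_⟩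
      simp only [hf]; group
  have hrange : f.range = commutator G := by
    apply le_antisymm
    · rintro _ ⟨a, rfl⟩
      exact Subgroup.commutator_mem_commutator (Subgroup.mem_top x) (Subgroup.mem_top (a : G))
    · have hc : ∀ s ∈ ((A : Set G) ∪ {x}), ∀ t ∈ ((A : Set G) ∪ {x}),
          (s : G ⧸ f.range) * t = t * s := by
        have h1 : ∀ a ∈ A, (x : G ⧸ f.range) * a = a * x := by
          intro a ha
          have : ((x * a * x⁻¹ * a⁻¹ : G) : G ⧸ f.range) = 1 :=
            (QuotientGroup.eq_one_iff _).2 ⟨⟨a, ha⟩, rfl⟩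
          simp only [QuotientGroup.mk_mul, QuotientGroup.mk_inv] at this
          rw [mul_inv_eq_one, mul_inv_eq_iff_eq_mul] at this
          exact this
        rintro s (hs | rfl) t (ht | rfl)
        · rw [← QuotientGroup.mk_mul, hcomm s hs t ht, QuotientGroup.mk_mul]
        · exact (h1 s hs).symm
        · exact h1 t ht
        · rfl
      have htop : Subgroup.closure ((QuotientGroup.mk' f.range) '' ((A : Set G) ∪ {x})) = ⊤ := by
        rw [← MonoidHom.map_closure, Subgroup.closure_union, Subgroup.closure_eq,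
          ← Subgroup.zpowers_eq_closure, hgen]
        exact Subgroup.map_top_of_surjective _ (QuotientGroup.mk'_surjective _)
      have hcomm2 : IsMulCommutative
          (Subgroup.closure ((QuotientGroup.mk' f.range) '' ((A : Set G) ∪ {x}))) := by
        apply Subgroup.isMulCommutative_closure
        rintro _ ⟨s, hs, rfl⟩ _ ⟨t, ht, rfl⟩
        exact hc s hs t ht
      rw [htop] at hcomm2
      rw [commutator, Subgroup.commutator_le]
      intro g₁ _ g₂ _
      rw [← QuotientGroup.eq_one_iff]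
      have := congrArg Subtype.val (hcomm2.is_comm.comm ⟨(g₁ : G ⧸ f.range), trivial⟩ ⟨g₂, trivial⟩)
      simp only [Subgroup.coe_mul] at this
      simp only [commutatorElement_def, QuotientGroup.mk_mul, QuotientGroup.mk_inv]
      rw [this]; group
  refine ⟨fun a ha => hrange ▸ ⟨⟨a, ha⟩, rfl⟩, fun c hc => ?_, hmul, ?_⟩
  · rw [← hrange] at hc
    obtain ⟨a, rfl⟩ := hc
    exact ⟨a, a.2, rfl⟩
  · rw [← hrange, ← Subgroup.index_ker, ← Subgroup.index_mul_card f.ker]
    congr 1
    have : f.ker = (A ⊓ Subgroup.centralizer ({x} : Set G)).subgroupOf A := by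
      ext a
      rw [MonoidHom.mem_ker, hf, Subgroup.mem_subgroupOf, Subgroup.mem_inf,
        Subgroup.mem_centralizer_singleton_iff, mul_inv_eq_one, mul_inv_eq_iff_eq_mul]
      simp [eq_comm]
    rw [this]
    exact (Nat.card_congr (Subgroup.subgroupOfEquivOfLe inf_le_left).toEquiv).symm

end Cfsg.Agent.S3866
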