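import Cfsg.Statements.S3807
import Mathlib
import Cfsg.Agent.S3866

set_option autoImplicit false
open Cfsg

namespace Cfsg.Agent.S3807

theorem coatom_of_index_prime {S : Type*} [Group S] {p : ℕ} (hp : p.Prime) {B : Subgroup S}
    (hB : B.index = p) : IsCoatom B := by
  refine ⟨fun h => ?_, fun C hC => ?_⟩
  · rw [h, Subgroup.index_top] at hB
    exact hp.one_lt.ne hB
  · have h1 := Subgroup.relIndex_mul_index hC.le
    rw [hB] at h1
    rcases (Nat.dvd_prime hp).1 (Dvd.intro_left _ h1) with h | h
    · exact Subgroup.index_eq_one.1 h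
    · rw [h] at h1
      have h2 : B.relIndex C = 1 := by
        have := hp.pos
        nlinarith [Nat.eq_of_mul_eq_mul_right hp.pos (h1.trans (one_mul p).symm)]
      exact absurd (Subgroup.relIndex_eq_one.1 h2) hC.not_ge

theorem card_subgroups {Q : Type*} [Group Q] [Finite Q] {p : ℕ} (hp : p.Prime)
    (hc : Nat.card Q = p ^ 2) (hexp : Monoid.exponent Q = p) :
    Nat.card {C : Subgroup Q // C.index = p} = p + 1 := by
  classical
  have : Fact p.Prime := ⟨hp⟩
  have := Fintype.ofFinite Q
  have hcard : ∀ C : Subgroup Q, C.index = p ↔ Nat.card C = p := by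
    intro C
    have := C.index_mul_card
    rw [hc, sq] at this
    constructor
    · intro h; rw [h] at this; exact Nat.eq_of_mul_eq_mul_left hp.pos this
    · intro h; rw [h] at this; exact Nat.eq_of_mul_eq_mul_right hp.pos this
  have hord : ∀ g : Q, g ≠ 1 → orderOf g = p := fun g hg =>
    orderOf_eq_prime (hexp ▸ Monoid.pow_exponent_eq_one g) hg
  have := Fintype.ofFinite {C : Subgroup Q // C.index = p}
  let f : {g : Q // g ≠ 1} → {C : Subgroup Q // C.index = p} := fun g =>
    ⟨Subgroup.zpowers g.1, (hcard _).2 (by rw [Nat.card_zpowers, hord _ g.2])⟩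
  have h1 : ∀ C, (Finset.univ.filter (fun g => f g = C)).card = p - 1 := by
    intro C
    have hC := (hcard _).1 C.2
    have e : {g // f g = C} ≃ {c : C.1 // c ≠ 1} :=
      { toFun := fun g => ⟨⟨g.1.1, (congrArg Subtype.val g.2) ▸ Subgroup.mem_zpowers g.1.1⟩, by
          intro h; exact g.1.2 (congrArg Subtype.val h)⟩
        invFun := fun c => ⟨⟨c.1.1, fun h => c.2 (Subtype.ext h)⟩, by
          ext1
          apply Subgroup.eq_of_le_of_card_ge
          · exact Subgroup.zpowers_le.2 c.1.2
          · rw [hC, Nat.card_zpowers, hord _ (fun h => c.2 (Subtype.ext h))]⟩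
        left_inv := fun _ => rfl
        right_inv := fun _ => rfl }
    rw [← Fintype.card_subtype, Fintype.card_congr e, Fintype.card_subtype_compl,
      Fintype.card_subtype_eq, ← Nat.card_eq_fintype_card, hC]
  have h2 := Finset.card_eq_sum_card_fiberwise (s := Finset.univ) (t := Finset.univ) (f := f)
    (fun _ _ => Finset.mem_univ _)
  simp only [h1, Finset.sum_const, Finset.card_univ, smul_eq_mul] at h2
  rw [Fintype.card_subtype_compl, Fintype.card_subtype_eq, ← Nat.card_eq_fintype_card, hc,
    ← Nat.card_eq_fintype_card] at h2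
  have h3 : p ^ 2 - 1 = (p + 1) * (p - 1) := by
    have := Nat.sq_sub_sq p 1
    simpa using this
  have h4 : 0 < p - 1 := by have := hp.two_le; omega
  rw [h3] at h2
  exact (Nat.eq_of_mul_eq_mul_right h4 h2).symm


/-- Let S be a non-abelian finite p-group with an abelian subgroup A of index p. Then [S : Z(S)] = p·#[S,S], and either [S,S] has order p, S/Z(S) is elementary abelian of order p², and S has exactly p + 1 abelian subgroups of index p; or [S,S] has order at least p² and A is the only abelian subgroup of index p in S. -/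
theorem result {S : Type*} [Group S] [Finite S] (p : ℕ) [Fact p.Prime] (hS : IsPGroup p S) (hna : ¬ IsMulCommutative S)
    (A : Subgroup S) (hA : IsMulCommutative ↥A) (hAi : A.index = p) :
    (Subgroup.center S).index = p * Nat.card (commutator S) ∧
      ((Nat.card (commutator S) = p ∧ Cfsg.IsElementaryAbelian p (⊤ : Subgroup (S ⧸ Subgroup.center S)) ∧
          Nat.card (S ⧸ Subgroup.center S) = p ^ 2 ∧
          Nat.card {B : Subgroup S // IsMulCommutative ↥B ∧ B.index = p} = p + 1) ∨
        (p ^ 2 ≤ Nat.card (commutator S) ∧ ∀ B : Subgroup S, IsMulCommutative ↥B → B.index = p → B = A)) := by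
  have hp : p.Prime := Fact.out
  -- generalities on abelian subgroups of index `p`
  have hnormal : ∀ B : Subgroup S, B.index = p → B.Normal := by
    intro B hB
    have := hS.isNilpotent
    have hco : IsCoatom B := coatom_of_index_prime hp hB
    exact Subgroup.NormalizerCondition.normal_of_coatom B
      Group.normalizerCondition_of_isNilpotent hco
  have hZne : Subgroup.center S ≠ ⊤ := fun h => hna (Subgroup.center_eq_top_iff.1 h)
  have hcm : ∀ B : Subgroup S, IsMulCommutative B → ∀ a ∈ B, ∀ b ∈ B, a * b = b * a :=
    fun B hB a ha b hb => congrArg Subtype.val (hB.is_comm.comm ⟨a, ha⟩ ⟨b, hb⟩)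
  have hZle : ∀ B : Subgroup S, IsMulCommutative B → B.index = p → Subgroup.center S ≤ B := by
    intro B hB hBi
    by_contra h
    have hco : IsCoatom B := coatom_of_index_prime hp hBi
    have h1 : B ⊔ Subgroup.center S = ⊤ := hco.2 _ (left_lt_sup.2 h)
    apply hZne
    have h2 : B ≤ Subgroup.center S := by
      rw [← Subgroup.centralizer_univ, ← Subgroup.coe_top, Subgroup.le_centralizer_iff, ← h1,
        sup_le_iff]
      exact ⟨B.le_centralizer, Subgroup.center_le_centralizer _⟩
    rw [← h1, sup_eq_right.2 h2]
  have hAn := hnormal A hAi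
  have hAco : IsCoatom A := coatom_of_index_prime hp hAi
  obtain ⟨x, hx⟩ : ∃ x, x ∉ A := by
    by_contra h
    push Not at h
    exact hAco.1 ((Subgroup.eq_top_iff' _).2 h)
  have hgen : A ⊔ Subgroup.zpowers x = ⊤ :=
    hAco.2 _ (left_lt_sup.2 (by rwa [Subgroup.zpowers_le]))
  have hZ : A ⊓ Subgroup.centralizer ({x} : Set S) = Subgroup.center S := by
    apply le_antisymm
    · rw [← Subgroup.centralizer_univ, ← Subgroup.coe_top, Subgroup.le_centralizer_iff, ← hgen,
        sup_le_iff]
      constructor
      · exact A.le_centralizer.trans (Subgroup.centralizer_le (by simp))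
      · rw [Subgroup.zpowers_le, Subgroup.mem_centralizer_iff]
        intro h hh
        exact Subgroup.mem_centralizer_singleton_iff.1 hh.2
    · exact le_inf (hZle A hA hAi) (Subgroup.center_le_centralizer _)
  have h1 := (Cfsg.Agent.S3866.result A hA x hgen).2.2.2
  rw [hZ] at h1
  have hidx : (Subgroup.center S).index = p * Nat.card (commutator S) := by
    have h2 := (Subgroup.center S).index_mul_card
    have h3 := A.index_mul_card
    rw [hAi, ← h1, ← h2, ← mul_assoc] at h3
    exact (Nat.eq_of_mul_eq_mul_right Nat.card_pos h3).symm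
  refine ⟨hidx, ?_⟩
  obtain ⟨k, hk⟩ := IsPGroup.iff_card.1 (hS.to_subgroup (commutator S))
  have hnc : ¬ IsCyclic (S ⧸ Subgroup.center S) := fun _ =>
    hna (isMulCommutative_of_isCyclic_quotient_center_self S)
  have hk0 : k ≠ 0 := by
    rintro rfl
    apply hnc
    apply isCyclic_of_prime_card (p := p)
    rw [← Subgroup.index_eq_card, hidx, hk]; simp
  by_cases hk1 : k = 1
  · left
    subst hk1
    rw [pow_one] at hk
    have hc : Nat.card (S ⧸ Subgroup.center S) = p ^ 2 := by
      rw [← Subgroup.index_eq_card, hidx, hk, sq]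
    have hcomm := IsPGroup.isMulCommutative_of_card_eq_prime_sq hc
    have hexp := (not_isCyclic_iff_exponent_eq_prime hp hc).1 hnc
    refine ⟨hk, ⟨inferInstance, fun a _ => hexp ▸ Monoid.pow_exponent_eq_one a⟩, hc, ?_⟩
    rw [← card_subgroups hp hc hexp]
    refine Nat.card_congr
      { toFun := fun B => ⟨B.1.map (QuotientGroup.mk' _), ?_⟩
        invFun := fun C => ⟨C.1.comap (QuotientGroup.mk' _), ?_, ?_⟩
        left_inv := ?_
        right_inv := ?_ }
    · rw [Subgroup.index_map_eq _ (QuotientGroup.mk'_surjective _), B.2.2]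
      rw [QuotientGroup.ker_mk']
      exact hZle _ B.2.1 B.2.2
    · have hC : Nat.card C.1 = p := by
        have := C.1.index_mul_card
        rw [C.2, hc, sq] at this
        exact Nat.eq_of_mul_eq_mul_left hp.pos this
      have := isCyclic_of_prime_card hC
      apply MonoidHom.isMulCommutative_of_isCyclic_of_ker_le_center
        ((QuotientGroup.mk' (Subgroup.center S)).subgroupComap C.1)
      intro z hz
      have h2 : (z : S) ∈ Subgroup.center S := by
        rw [MonoidHom.mem_ker, Subtype.ext_iff] at hz
        exact (QuotientGroup.eq_one_iff _).1 hz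
      rw [Subgroup.mem_center_iff] at h2 ⊢
      intro g
      exact Subtype.ext (h2 g)
    · rw [Subgroup.index_comap_of_surjective _ (QuotientGroup.mk'_surjective _), C.2]
    · intro B
      ext1
      simp only
      rw [Subgroup.comap_map_eq, QuotientGroup.ker_mk', sup_eq_left]
      exact hZle _ B.2.1 B.2.2
    · intro C
      ext1
      exact Subgroup.map_comap_eq_self_of_surjective (QuotientGroup.mk'_surjective _) _
  · right
    refine ⟨hk ▸ Nat.pow_le_pow_right hp.pos (by omega), fun B hB hBi => ?_⟩
    by_contra hne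
    have hBco : IsCoatom B := coatom_of_index_prime hp hBi
    have h2 : A ⊔ B = ⊤ := hAco.2 _ (left_lt_sup.2 (fun h => hne (hBco.le_iff.1 h |>.resolve_left
      hAco.1).symm))
    have h3 : A ⊓ B ≤ Subgroup.center S := by
      rw [← Subgroup.centralizer_univ, ← Subgroup.coe_top, Subgroup.le_centralizer_iff, ← h2,
        sup_le_iff]
      exact ⟨A.le_centralizer.trans (Subgroup.centralizer_le (by simp)),
        B.le_centralizer.trans (Subgroup.centralizer_le (by simp))⟩
    have h4 := (Subgroup.index_antitone h3).trans Subgroup.index_inf_le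
    rw [hidx, hk, hAi, hBi] at h4
    have h5 := Nat.le_of_mul_le_mul_left h4 hp.pos
    have h6 : p ^ 2 ≤ p ^ k := Nat.pow_le_pow_right hp.pos (by omega)
    have := hp.two_le
    nlinarith

end Cfsg.Agent.S3807
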