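import Cfsg.Statements.S3808
import Cfsg.Agent.Lib.PGrp.Extraspecial

set_option autoImplicit false
open Cfsg

namespace Cfsg.Agent.S3808

/-- Let S be a finite p-group with an extraspecial subgroup Q of index p. Then either Z(S) = Z(Q), or S = Q·Z(S) and Z(S) has order p². -/
theorem result {S : Type*} [Group S] [Finite S] (p : ℕ) [Fact p.Prime] (hS : IsPGroup p S) (Q : Subgroup S) (hQ : Cfsg.IsExtraspecial p ↥Q) (hQi : Q.index = p) :
    Subgroup.center S = (Subgroup.center ↥Q).map Q.subtype ∨
      (Q ⊔ Subgroup.center S = ⊤ ∧ Nat.card (Subgroup.center S) = p ^ 2) := by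
  have hn := PGrp.normal_of_index_eq hS hQi
  have h1 : (Subgroup.center Q).map Q.subtype ≤ Subgroup.center S :=
    PGrp.le_center_of_card_eq_prime hS (by rw [Subgroup.card_subtype, hQ.2])
  have h2 : Subgroup.center S ⊓ Q = (Subgroup.center Q).map Q.subtype := by
    refine le_antisymm ?_ (le_inf h1 (Subgroup.map_subtype_le _))
    rw [PGrp.map_center_subtype]
    exact le_inf inf_le_right (inf_le_left.trans (Subgroup.center_le_centralizer _))
  by_cases h : Subgroup.center S ≤ Q
  · exact Or.inl (by rw [← h2, inf_eq_left.mpr h])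
  have h3 : Q ⊔ Subgroup.center S = ⊤ := (PGrp.isCoatom_of_index_eq hQi).2 _ (left_lt_sup.mpr h)
  refine Or.inr ⟨h3, ?_⟩
  rw [← PGrp.card_inf_mul_relIndex Q, inf_comm, h2, Subgroup.card_subtype, hQ.2,
    ← Subgroup.relIndex_sup_left, h3, Subgroup.relIndex_top_right, hQi, sq]

end Cfsg.Agent.S3808
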