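import Cfsg.Statements.S3809
import Cfsg.Agent.Lib.PGrp.Extraspecial

set_option autoImplicit false
open Cfsg

namespace Cfsg.Agent.S3809

/-- Let S be a finite p-group with an extraspecial subgroup of index p. Then S has order p^(2+2n) for some n ≥ 1, derived length at most 3, and exponent dividing p³. -/
theorem result {S : Type*} [Group S] [Finite S] (p : ℕ) [Fact p.Prime] (hS : IsPGroup p S) (Q : Subgroup S) (hQ : Cfsg.IsExtraspecial p ↥Q) (hQi : Q.index = p) :
    (∃ n : ℕ, 1 ≤ n ∧ Nat.card S = p ^ (2 + 2 * n)) ∧ derivedSeries S 3 = ⊥ ∧ ∀ x : S, x ^ (p ^ 3) = 1 := by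
  have hn := PGrp.normal_of_index_eq hS hQi
  obtain ⟨n, h1, h2⟩ := PGrp.IsExtraspecial.exists_card hQ
  refine ⟨⟨n, h1, by rw [← Q.card_mul_index, h2, hQi]; ring⟩, ?_, fun x => ?_⟩
  · have h3 : derivedSeries S 1 ≤ Q := PGrp.commutator_le_of_index_eq hQi
    have h4 : derivedSeries S 2 ≤ Q ⊓ Subgroup.centralizer (Q : Set S) :=
      (Subgroup.commutator_mono h3 h3).trans (PGrp.IsExtraspecial.commutator_eq hQ).le
    rw [derivedSeries_succ, Subgroup.commutator_eq_bot_iff_le_centralizer]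
    exact (h4.trans inf_le_right).trans (Subgroup.centralizer_le (h4.trans inf_le_left))
  · have := congrArg Subtype.val
      (PGrp.IsExtraspecial.pow_sq hQ ⟨x ^ p, PGrp.pow_mem_of_index_eq hQi x⟩)
    rw [pow_succ', pow_mul]
    exact this

end Cfsg.Agent.S3809
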