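import Cfsg.Statements.S3810
import Cfsg.Agent.Lib.PGrp.Symplectic

set_option autoImplicit false
open Cfsg

namespace Cfsg.Agent.S3810

/-- Let S be a finite p-group with an extraspecial subgroup of index p. Then S has an abelian subgroup of index p if and only if S has order p⁴. -/
theorem result {S : Type*} [Group S] [Finite S] (p : ℕ) [Fact p.Prime] (hS : IsPGroup p S) (Q : Subgroup S) (hQ : Cfsg.IsExtraspecial p ↥Q) (hQi : Q.index = p) :
    (∃ A : Subgroup S, IsMulCommutative ↥A ∧ A.index = p) ↔ Nat.card S = p ^ 4 := by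
  have hp : p.Prime := Fact.out
  obtain ⟨n, h1, h2⟩ := PGrp.IsExtraspecial.exists_card hQ
  have h3 : Nat.card S = p ^ (2 * n + 2) := by rw [← Q.card_mul_index, h2, hQi, ← pow_succ]
  constructor
  · rintro ⟨A, hA, hi⟩
    have h4 := PGrp.IsExtraspecial.card_le_of_comm hQ h2 (B := A.subgroupOf Q) inferInstance
    have h5 := (A.subgroupOf Q).card_mul_index
    have hn := PGrp.normal_of_index_eq hS hi
    have h6 : (A.subgroupOf Q).index ≤ p :=
      Nat.le_of_dvd hp.pos (hi ▸ Subgroup.relIndex_dvd_index_of_normal A Q)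
    have h7 : p ^ (2 * n + 1) ≤ p ^ (n + 1 + 1) := by
      rw [← h2, ← h5, pow_succ _ (n + 1)]
      exact Nat.mul_le_mul h4 h6
    rw [Nat.pow_le_pow_iff_right hp.one_lt] at h7
    rw [h3, show n = 1 by omega]
  · intro h
    obtain ⟨A, -, hA, hc⟩ := PGrp.exists_comm_card_cube hS h.ge
    refine ⟨A, hA, Nat.eq_of_mul_eq_mul_left (pow_pos hp.pos 3) ?_⟩
    rw [← hc, A.card_mul_index, h, hc, ← pow_succ]

end Cfsg.Agent.S3810
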