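import Cfsg.Statements.S3814
import Cfsg.Agent.Lib.Wal.FourB

set_option autoImplicit false
open Cfsg

namespace Cfsg.Agent.S3814

open Subgroup Cfsg.Agent.OO Cfsg.Agent.Coprime Cfsg.Agent.Wal.K4

/-- A criterion for nonsolvability from element orders: let G be a finite group and σ a set of at least four primes such that for all distinct p, q ∈ σ the product pq is the order of some element of G, while for all pairwise distinct p, q, r ∈ σ no element of G has order pqr. Then G is not solvable. -/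
theorem result {G : Type*} [Group G] [Finite G]
    (σ : Finset ℕ) (hσ : 4 ≤ σ.card) (hprime : ∀ p ∈ σ, p.Prime)
    (h2 : ∀ p ∈ σ, ∀ q ∈ σ, p ≠ q → ∃ g : G, orderOf g = p * q)
    (h3 : ∀ p ∈ σ, ∀ q ∈ σ, ∀ r ∈ σ, p ≠ q → q ≠ r → p ≠ r → ∀ g : G, orderOf g ≠ p * q * r) :
    ¬ Group.IsSolvable G := by
  intro hG
  obtain ⟨τ, hτ, hc⟩ := Finset.exists_subset_card_eq hσ
  obtain ⟨p, q, r, s, pq, pr, ps, qr, qs, rs, rfl⟩ := Finset.card_eq_four.1 hc
  obtain ⟨H, hH⟩ := exists_hall (↑({p, q, r, s} : Finset ℕ)) (M := (⊤ : Subgroup G))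
    inferInstance
  have hm : ∀ a : ℕ, a.Prime → a ∣ ♯(⊤ : Subgroup H) → a ∈ ({p, q, r, s} : Finset ℕ) :=
    fun a ha hd => hH.piGrp a ha (card_top (G := H) ▸ hd)
  have key : ∀ a ∈ ({p, q, r, s} : Finset ℕ), ∀ b ∈ ({p, q, r, s} : Finset ℕ), a ≠ b →
      ∃ g : H, orderOf g = a * b := fun a ha b hb ab => by
    obtain ⟨g, hg⟩ := h2 a (hτ ha) b (hτ hb) ab
    obtain ⟨x, -, hx⟩ := hH.exists_conj_le inferInstance le_top (piGrp_zpowers.2 (show IsPiNum _ (orderOf g) from hg ▸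
      isPiNum_mul_iff.2 ⟨(isPiNum_prime (hprime a (hτ ha))).2 ha, (isPiNum_prime (hprime b (hτ hb))).2 hb⟩))
    exact ⟨⟨_, hx (conj_mem_conj (mem_zpowers g))⟩, by rw [Subgroup.orderOf_mk, orderOf_conj, hg]⟩
  have hd : ∀ a ∈ ({p, q, r, s} : Finset ℕ), ∀ b ∈ ({p, q, r, s} : Finset ℕ), a ≠ b →
      a ∣ ♯(⊤ : Subgroup H) := fun a ha b hb ab => by
    obtain ⟨g, hg⟩ := key a ha b hb ab
    exact (hg ▸ dvd_mul_right a b : a ∣ orderOf g).trans (OO.orderOf_dvd_card (mem_top g))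
  have := Fact.mk (hprime p (hτ (by simp)))
  have := Fact.mk (hprime q (hτ (by simp)))
  have := Fact.mk (hprime r (hτ (by simp)))
  have := Fact.mk (hprime s (hτ (by simp)))
  refine Cf.main (G := H) (p := p) (q := q) (r := r) (s := s) ⟨fun _ => inferInstance,
    fun {a b c} ha hb hc X Y Z hX hY hZ ab ac bc X0 Y0 Z0 XY XZ YZ => ?_, fun a b ha hb ab h1 h2 => ?_⟩
    ⟨pq, pr, ps, qr, qs, rs, hd p (by simp) q (by simp) pq, hd q (by simp) r (by simp) qr,
      hd r (by simp) s (by simp) rs, hd s (by simp) r (by simp) rs.symm,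
      fun a ha h => by simpa using hm a ha h⟩
  · have e1 := dvd_card_of_isPGroup hX X0
    have e2 := dvd_card_of_isPGroup hY Y0
    have e3 := dvd_card_of_isPGroup hZ Z0
    obtain ⟨x, hx, ox⟩ := OO.cauchy ha.out e1
    obtain ⟨y, hy, oy⟩ := OO.cauchy hb.out e2
    obtain ⟨z, hz, oz⟩ := OO.cauchy hc.out e3
    have c1 : Commute x y := le_cent_iff.1 XY x hx y hy
    have c2 : Commute (x * y) z := Commute.mul_left (le_cent_iff.1 XZ x hx z hz) (le_cent_iff.1 YZ y hy z hz)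
    have o1 : orderOf (x * y) = a * b := by
      rw [c1.orderOf_mul_eq_mul_orderOf_of_coprime (by
        rw [ox, oy]; exact (Nat.coprime_primes ha.out hb.out).2 ab), ox, oy]
    refine h3 a (hτ (hm a ha.out (e1.trans (card_dvd le_top)))) b (hτ (hm b hb.out (e2.trans
      (card_dvd le_top)))) c (hτ (hm c hc.out (e3.trans (card_dvd le_top)))) ab bc ac (x * y * z : H) ?_
    rw [Subgroup.orderOf_coe, c2.orderOf_mul_eq_mul_orderOf_of_coprime (by
      rw [o1, oz]; exact Nat.Coprime.mul_left ((Nat.coprime_primes ha.out hc.out).2 ac)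
        ((Nat.coprime_primes hb.out hc.out).2 bc)), o1, oz]
  · obtain ⟨g, hg⟩ := key a (hm a ha.out h1) b (hm b hb.out h2) ab
    obtain ⟨X, Y, hX, hY, hc⟩ := exists_edge hg
    exact ⟨X, Y, hX.top, hY.top, hc⟩

end Cfsg.Agent.S3814
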