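import Cfsg.Statements.S3817
import Cfsg.Agent.Lib.F2.Red

set_option autoImplicit false
open Cfsg

namespace Cfsg.Agent.S3817

/-- Let G be a finite group and write F₂(X) for the second term of the upper Fitting chain of a finite group X: the preimage in X of the Fitting subgroup of X/F(X). Then an element x of G lies in F₂(G) if and only if x lies in F₂(⟨x, y⟩) for every y ∈ G. -/
theorem result {G : Type*} [Group G] [Finite G]
    [hF : (Cfsg.fittingSubgroup G).Normal]
    (hK : ∀ K : Subgroup G, (Cfsg.fittingSubgroup ↥K).Normal) (x : G) :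
    x ∈ (Cfsg.fittingSubgroup (G ⧸ Cfsg.fittingSubgroup G)).comap (QuotientGroup.mk' (Cfsg.fittingSubgroup G)) ↔
      ∀ y : G, ∀ hx : x ∈ Subgroup.closure ({x, y} : Set G),
        haveI := hK (Subgroup.closure ({x, y} : Set G));
        (⟨x, hx⟩ : ↥(Subgroup.closure ({x, y} : Set G))) ∈
          (Cfsg.fittingSubgroup (↥(Subgroup.closure ({x, y} : Set G)) ⧸ Cfsg.fittingSubgroup ↥(Subgroup.closure ({x, y} : Set G)))).comap
            (QuotientGroup.mk' (Cfsg.fittingSubgroup ↥(Subgroup.closure ({x, y} : Set G)))) := by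
  constructor
  · intro h y hx
    haveI := hK (Subgroup.closure ({x, y} : Set G))
    refine OO.mem_of_forall_constt_mem fun p hp _ => ?_
    haveI := Fact.mk hp
    refine (F2.mem_F2_iff (OO.piElt_constt {p} _)).2 (F2.mem_KK_of_map
      (Subgroup.subtype_injective _) (Subgroup.mem_top _) ?_)
    rw [OO.map_constt, ← MonoidHom.range_eq_map, Subgroup.range_subtype]
    exact F2.mem_KK_of_le le_top ((F2.mem_F2_iff (OO.piElt_constt {p} _)).1 (OO.constt_mem _ h))
      (OO.constt_mem _ hx)
  · intro h
    refine OO.mem_of_forall_constt_mem fun p hp _ => ?_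
    haveI := Fact.mk hp
    refine (F2.mem_F2_iff (OO.piElt_constt {p} _)).2 (F2.Loc.mem_KK (fun y => ?_) (OO.piElt_constt {p} _))
    haveI := hK (Subgroup.closure ({x, y} : Set G))
    have hx := F2.left_mem_pair x y
    have k := F2.map_mem_KK (Subgroup.subtype _)
      ((F2.mem_F2_iff (OO.piElt_constt {p} _)).1 (OO.constt_mem {p} (h y hx)))
    rw [OO.map_constt, ← MonoidHom.range_eq_map, Subgroup.range_subtype] at k
    exact F2.mem_KK_of_le (F2.pair_le (OO.constt_mem _ hx) (F2.right_mem_pair x y)) k
      (F2.left_mem_pair _ y)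

end Cfsg.Agent.S3817
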