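import Cfsg.Statements.S3861
import Mathlib
import Cfsg.Agent.Lib.Core.Zipper
import Cfsg.Agent.Lib.Coprime.Action

set_option autoImplicit false
open Cfsg

namespace Cfsg.Agent.S3861

open Subgroup Cfsg.Agent.Core in
theorem eq_one_of_odd_of_sq {G : Type*} [Group G] {x : G} (h : Odd (orderOf x)) (h2 : x * x = 1) :
    x = 1 := by
  have h1 : orderOf x ∣ 2 := orderOf_dvd_of_pow_eq_one (by rw [pow_two, h2])
  rcases (Nat.dvd_prime Nat.prime_two).1 h1 with h3 | h3
  · exact orderOf_eq_one_iff.1 h3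
  · rw [h3] at h; exact absurd h (by decide)

open Subgroup Cfsg.Agent.Core in
theorem exists_real {G : Type*} [Group G] [Finite G] (P : Sylow 2 G)
    (hP : ¬ (P : Subgroup G).Normal) :
    ∃ x t : G, x ≠ 1 ∧ Odd (orderOf x) ∧ t * x * t⁻¹ = x⁻¹ := by
  set N := Cfsg.pCore 2 G with hN
  have hNP : N ≤ P := pCore_le_sylow P
  have hne : ¬ (P : Subgroup G) ≤ N := fun h => hP (by rw [le_antisymm h hNP]; infer_instance)
  have hbot : Cfsg.pCore 2 (G ⧸ N) = ⊥ := pCore_quotient_pCore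
  have hPb : (P : Subgroup G).map (QuotientGroup.mk' N) ≠ ⊥ := fun h => hne ((map_mk_eq_bot_iff _ _).1 h)
  have h2 : 2 ∣ Nat.card ((P : Subgroup G).map (QuotientGroup.mk' N)) := by
    obtain ⟨k, hk⟩ := (IsPGroup.iff_card).1 (P.2.map (QuotientGroup.mk' N))
    rw [hk]
    refine dvd_pow_self 2 fun h0 => hPb ?_
    rw [h0, pow_zero] at hk
    exact Subgroup.card_eq_one.1 hk
  obtain ⟨s, hs⟩ := exists_prime_orderOf_dvd_card' 2 (h2.trans (card_subgroup_dvd_card _))
  have hs1 : s ≠ 1 := by rintro rfl; simp at hs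
  have hss : s * s = 1 := by
    have := pow_orderOf_eq_one s
    rwa [hs, pow_two] at this
  obtain ⟨xb, hx1, hxo, hsx⟩ := exists_inverted_odd_of_not_mem_pCore_two hss
    (by rw [hbot]; exact hs1)
  obtain ⟨y, rfl⟩ := QuotientGroup.mk'_surjective N xb
  obtain ⟨k, m, hm, hkm⟩ := Nat.exists_eq_two_pow_mul_odd (orderOf_pos y).ne'
  set x := y ^ 2 ^ k with hx
  have hxodd : Odd (orderOf x) := by
    refine hm.of_dvd_nat (orderOf_dvd_of_pow_eq_one ?_)
    rw [hx, ← pow_mul, ← hkm, pow_orderOf_eq_one]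
  have hxb1 : QuotientGroup.mk' N x ≠ 1 := by
    intro h
    rw [hx, map_pow] at h
    have := orderOf_dvd_of_pow_eq_one h
    have h3 : (orderOf (QuotientGroup.mk' N y)).Coprime (2 ^ k) :=
      (Nat.coprime_two_right.2 hxo).pow_right k
    exact hx1 (orderOf_eq_one_iff.1 (Nat.Coprime.eq_one_of_dvd h3 this))
  have hsx' : s * QuotientGroup.mk' N x * s⁻¹ = (QuotientGroup.mk' N x)⁻¹ := by
    rw [hx, map_pow, ← conj_pow, hsx, inv_pow]
  have hcop : (Nat.card (zpowers x)).Coprime (Nat.card (QuotientGroup.mk' N).ker) := by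
    rw [QuotientGroup.ker_mk', Nat.card_zpowers]
    obtain ⟨j, hj⟩ := (IsPGroup.iff_card).1 (isPGroup_pCore (p := 2) (G := G))
    rw [hj]
    exact (Nat.coprime_two_right.2 hxodd).pow_right j
  have hnorm := Cfsg.Agent.Coprime.map_normalizer_eq (QuotientGroup.mk' N)
    (QuotientGroup.mk'_surjective N) (A := zpowers x) hcop (Or.inl inferInstance)
  have hsn : s ∈ normalizer (((zpowers x).map (QuotientGroup.mk' N) : Subgroup (G ⧸ N)) : Set (G ⧸ N)) := by
    rw [MonoidHom.map_zpowers]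
    refine mem_normalizer_fintype ?_
    rintro _ ⟨j, rfl⟩
    refine ⟨-j, ?_⟩
    simp only
    rw [← conj_zpow, hsx', inv_zpow, zpow_neg]
  rw [← hnorm] at hsn
  obtain ⟨t, ht, rfl⟩ := hsn
  refine ⟨x, t, fun h => hxb1 (by rw [h, map_one]), hxodd, ?_⟩
  have h1 : t * x * t⁻¹ ∈ zpowers x := (mem_normalizer_iff.1 ht x).1 (mem_zpowers x)
  have h3 : t * x * t⁻¹ * x ∈ zpowers x ⊓ (QuotientGroup.mk' N).ker := by
    refine ⟨mul_mem h1 (mem_zpowers x), ?_⟩
    show QuotientGroup.mk' N _ = 1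
    rw [map_mul, map_mul, map_mul, map_inv, hsx', inv_mul_cancel]
  rw [(disjoint_of_coprime_natCard hcop).eq_bot, mem_bot] at h3
  exact mul_eq_one_iff_eq_inv.1 h3

/-- A finite group G has no non-identity element of odd order that is conjugate to its inverse if and only if the Sylow 2-subgroups of G are normal. -/
theorem result {G : Type*} [Group G] [Finite G] (P : Sylow 2 G) : (∀ x : G, x ≠ 1 → Odd (orderOf x) → ¬ IsConj x x⁻¹) ↔ (P : Subgroup G).Normal := by
  constructor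
  · intro h
    by_contra hP
    obtain ⟨x, t, h1, h2, h3⟩ := exists_real P hP
    exact h x h1 h2 (isConj_iff.2 ⟨t, h3⟩)
  · intro hP x h1 h2 h3
    obtain ⟨g, hg⟩ := isConj_iff.1 h3
    obtain ⟨k, m, hm, hkm⟩ := Nat.exists_eq_two_pow_mul_odd (orderOf_pos g).ne'
    have hg2 : g * g * x * (g * g)⁻¹ = x := by
      have : g * g * x * (g * g)⁻¹ = g * (g * x * g⁻¹) * g⁻¹ := by group
      rw [this, hg, ← conj_inv, hg, inv_inv]
    have hgm : g ^ m * x * (g ^ m)⁻¹ = x⁻¹ := by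
      obtain ⟨j, rfl⟩ := hm
      have hc : Commute (g * g) x := by
        rw [commute_iff_eq]; exact mul_inv_eq_iff_eq_mul.1 hg2
      have hc' : Commute ((g * g) ^ j) x := hc.pow_left j
      have e : g ^ (2 * j + 1) = g * (g * g) ^ j := by rw [pow_succ', pow_mul, pow_two]
      rw [e, mul_assoc g, hc'.eq, ← hg]; group
    have hmem : g ^ m ∈ (P : Subgroup G) := by
      have hz : IsPGroup 2 (Subgroup.zpowers (g ^ m)) := by
        refine IsPGroup.of_card_dvd_pow (n := k) ?_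
        rw [Nat.card_zpowers]
        refine orderOf_dvd_of_pow_eq_one ?_
        rw [← pow_mul, mul_comm, ← hkm, pow_orderOf_eq_one]
      have := Cfsg.Agent.Core.le_sylow_of_le_normalizer hz P 
        (le_top.trans (Subgroup.normalizer_eq_top_iff.2 hP).ge)
      exact this (Subgroup.mem_zpowers _)
    have hxx : x * x ∈ (P : Subgroup G) := by
      have h4 : g ^ m * (x * (g ^ m)⁻¹ * x⁻¹) ∈ (P : Subgroup G) :=
        mul_mem hmem (hP.conj_mem _ (inv_mem hmem) x)
      have h5 : g ^ m * (x * (g ^ m)⁻¹ * x⁻¹) = (x * x)⁻¹ := by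
        rw [mul_inv_rev]; nth_rewrite 2 [← hgm]; group
      rw [h5] at h4
      exact inv_mem_iff.1 h4
    obtain ⟨j, hj⟩ := P.2 ⟨_, hxx⟩
    have hj' : (x * x) ^ 2 ^ j = 1 := by simpa using congrArg Subtype.val hj
    rw [← pow_two, ← pow_mul, ← pow_succ'] at hj'
    have h6 : (orderOf x).Coprime (2 ^ (j + 1)) := (Nat.coprime_two_right.2 h2).pow_right _
    exact h1 (orderOf_eq_one_iff.1 (Nat.Coprime.eq_one_of_dvd h6 (orderOf_dvd_of_pow_eq_one hj')))

end Cfsg.Agent.S3861
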