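import Mathlib
import Cfsg.Statements.S3868
import Cfsg.Agent.Lib.Transfer.IrredCard
import Cfsg.Agent.Lib.Coprime.Sylow

set_option autoImplicit false
open Cfsg

namespace Cfsg.Agent.S3868



/-- Structure of the non-simple minimal non-p-closed groups. Call a finite group p-closed when its Sylow p-subgroups are normal, and minimal non-p-closed when it is not p-closed but every proper subgroup and every proper quotient is. If such a group G is not simple, then there is a prime q ≠ p such that G has order p · q^e, where e is the multiplicative order of q modulo p, and G has a normal subgroup A of order q^e that is elementary abelian and is a minimal normal subgroup of G (so G is the semidirect product of A by a group of order p acting irreducibly). -/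
theorem result {G : Type*} [Group G] [Finite G] {p : ℕ} [Fact p.Prime]
    (hnc : ¬ Cfsg.IsPClosed p G) (hsub : ∀ H : Subgroup G, H ≠ ⊤ → Cfsg.IsPClosed p ↥H)
    (hquo : ∀ (N : Subgroup G) [N.Normal], N ≠ ⊥ → Cfsg.IsPClosed p (G ⧸ N)) (hns : ¬ IsSimpleGroup G) :
    ∃ q : ℕ, q.Prime ∧ q ≠ p ∧ Nat.card G = p * q ^ orderOf (q : ZMod p) ∧
      ∃ A : Subgroup G, A.Normal ∧ Nat.card ↥A = q ^ orderOf (q : ZMod p) ∧ Cfsg.IsElementaryAbelian q A ∧
        ∀ B : Subgroup G, B.Normal → B ≤ A → B = ⊥ ∨ B = A := by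
  have hp : p.Prime := Fact.out
  obtain ⟨P⟩ : Nonempty (Sylow p G) := inferInstance
  have hPn : ¬ (P : Subgroup G).Normal := fun h => hnc (Transfer.isPClosed_of_normal P h)
  have hcl : ∀ S H : Subgroup G, H ≠ ⊤ → Transfer.IsSylowIn p S H →
      H ≤ Subgroup.normalizer (S : Set G) := fun S H hH hS => hS.le_normalizer_of_isPClosed (hsub H hH)
  have hsup : ∀ N : Subgroup G, N.Normal → N ≠ ⊥ → (P : Subgroup G) ⊔ N = ⊤ := by
    intro N hN hb
    by_contra ht
    have h1 := hquo N hb (P.mapSurjective (QuotientGroup.mk'_surjective N))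
    have h2 : ((P : Subgroup G) ⊔ N).Normal := by
      rw [← Core.comap_map_mk]
      exact h1.comap _
    have h3 := Transfer.isSylowIn_of_sylow_le P (le_sup_left : (P : Subgroup G) ≤ (P : Subgroup G) ⊔ N)
    exact hPn (Core.normal_iff_top_le_normalizer.mpr (Subgroup.le_normalizer_of_normal.trans
      (h3.normalizer_le_normalizer (hcl _ _ ht h3))))
  have hO : ∀ N : Subgroup G, N.Normal → IsPGroup p N → N = ⊥ := fun N hN hNp => by
    by_contra hb
    have h1 := hsup N hN hb
    rw [sup_eq_left.mpr ((Core.le_pCore hNp).trans (Core.pCore_le_sylow P))] at h1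
    exact hPn (h1 ▸ inferInstance)
  have hnt : Nontrivial G := by
    by_contra h
    rw [not_nontrivial_iff_subsingleton] at h
    exact hPn ⟨fun n hn g => by rwa [Subsingleton.elim (g * n * g⁻¹) n]⟩
  obtain ⟨N, hN, hb, ht⟩ : ∃ N : Subgroup G, N.Normal ∧ N ≠ ⊥ ∧ N ≠ ⊤ := by
    by_contra h
    push Not at h
    exact hns ⟨fun N hN => or_iff_not_imp_left.mpr (h N hN)⟩
  obtain ⟨A, hA, hAN⟩ := Core.exists_isMinNormal_le hb
  have hAn := hA.normal
  have hAt : A ≠ ⊤ := fun h => ht (top_le_iff.mp (h ▸ hAN))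
  have hAp : (Nat.card A).Coprime p := by
    obtain ⟨S, hS⟩ := Transfer.exists_isSylowIn (p := p) A
    have h1 := hO S (Core.normal_iff_top_le_normalizer.mpr (Subgroup.le_normalizer_of_normal.trans
      (hS.normalizer_le_normalizer (hcl _ _ hAt hS)))) hS.isPGroup
    exact ((Nat.Prime.coprime_iff_not_dvd hp).mpr fun hd => hS.ne_bot hd h1).symm
  have htop := hsup A hAn hA.ne_bot
  have hcop := Core.coprime_card_of_isPGroup P.2 hAp
  obtain ⟨q, hq, hAq⟩ : ∃ q : ℕ, q.Prime ∧ IsPGroup q A := by
    by_contra hcon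
    push Not at hcon
    refine hPn (Core.normal_iff_top_le_normalizer.mpr (htop ▸ sup_le Subgroup.le_normalizer ?_))
    refine Coprime.le_of_forall_isSylowIn fun q hq _ => ?_
    have := Fact.mk hq
    obtain ⟨Q, hQ, hPQ⟩ := Coprime.exists_invariant_sylow q (A := P) (G := A)
      Subgroup.le_normalizer_of_normal hcop (Or.inl (Coprime.isSolvable_of_isPGroup P.2))
    refine ⟨Q, hQ, le_sup_right.trans (hcl _ ((P : Subgroup G) ⊔ Q) (fun h => hcon q hq ?_)
      (Transfer.isSylowIn_of_sylow_le P le_sup_left))⟩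
    have : A = Q := by
      calc A = ((P : Subgroup G) ⊔ Q) ⊓ A := by rw [h, top_inf_eq]
        _ = Q := by
          rw [Core.sup_inf_eq_inf_sup_of_le_normalizer hPQ hQ.1,
            Core.inf_eq_bot_of_coprime_card hcop, bot_sup_eq]
    exact this ▸ hQ.2.1
  have := Fact.mk hq
  have hAe := hA.isElementaryAbelian_of_isPGroup hAq
  have hqp : q ≠ p := by
    rintro rfl
    exact hA.ne_bot (hO A hAn hAq)
  have hinf : (P : Subgroup G) ⊓ A = ⊥ := Core.inf_eq_bot_of_coprime_card hcop
  have hC : (P : Subgroup G) ⊓ Subgroup.centralizer (A : Set G) = ⊥ := by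
    refine hO _ (Core.normal_iff_top_le_normalizer.mpr (htop ▸ sup_le ?_ ?_)) P.2.to_inf_left
    · exact Core.le_normalizer_inf Subgroup.le_normalizer Subgroup.le_normalizer_of_normal
    · exact (Subgroup.le_centralizer_iff.mp inf_le_right).trans (Subgroup.centralizer_le_normalizer _)
  have hPb : (P : Subgroup G) ≠ ⊥ := fun h => hPn (h ▸ inferInstance)
  obtain ⟨x, hx, hxp⟩ : ∃ x ∈ (P : Subgroup G), orderOf x = p := by
    obtain ⟨r, hr, hd⟩ := Core.exists_prime_dvd_card_of_ne_bot hPb
    exact Core.exists_mem_orderOf_eq_of_dvd_card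
      (Core.isPGroup_iff_forall_prime_dvd.mp P.2 r hr hd ▸ hd)
  have hxc : x ∉ Subgroup.centralizer (A : Set G) := fun h => by
    have : x ∈ (⊥ : Subgroup G) := hC ▸ ⟨hx, h⟩
    rw [Subgroup.mem_bot.mp this, orderOf_one] at hxp
    exact hp.ne_one hxp.symm
  have hxP : Subgroup.zpowers x ≤ P := Subgroup.zpowers_le.mpr hx
  have he : (Subgroup.zpowers x ⊔ A) ⊓ P = Subgroup.zpowers x := by
    rw [Core.sup_inf_assoc_of_le_normalizer Subgroup.le_normalizer_of_normal hxP, inf_comm, hinf,
      sup_bot_eq]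
  have htop' : Subgroup.zpowers x ⊔ A = ⊤ := by
    by_contra hne
    have hS : Transfer.IsSylowIn p (Subgroup.zpowers x) (Subgroup.zpowers x ⊔ A) := by
      refine ⟨le_sup_left, P.2.to_le hxP, ?_⟩
      have h1 := Core.card_mul_relIndex_of_le (le_sup_left : Subgroup.zpowers x ≤ _ ⊔ A)
      rw [Core.card_sup_of_disjoint Subgroup.le_normalizer_of_normal
        (eq_bot_iff.mpr ((inf_le_inf_right A hxP).trans hinf.le))] at h1
      rw [Nat.eq_of_mul_eq_mul_left Nat.card_pos h1]
      exact (Nat.Prime.coprime_iff_not_dvd hp).mp hAp.symm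
    exact hxc (Core.le_centralizer_of_inf_eq_bot' Subgroup.le_normalizer_of_normal
      (le_sup_right.trans (hcl _ _ hne hS))
      (eq_bot_iff.mpr ((inf_le_inf_right A hxP).trans hinf.le)) (Subgroup.mem_zpowers x))
  have hcard := Transfer.card_eq_pow_orderOf_of_irreducible hqp hAe
    (Subgroup.le_normalizer_of_normal (Subgroup.mem_top x))
    (by rw [← hxp, pow_orderOf_eq_one]; exact one_mem _) hxc fun U hU hn =>
      hA.eq_bot_or_eq U (Core.normal_iff_top_le_normalizer.mpr (htop' ▸ sup_le
        (Subgroup.zpowers_le.mpr hn) (((Subgroup.le_centralizer_iff_isMulCommutative.mpr hAe.1).trans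
          (Subgroup.centralizer_le hU)).trans (Subgroup.centralizer_le_normalizer _)))) hU
  refine ⟨q, hq, hqp, ?_, A, hAn, hcard, hAe, hA.eq_bot_or_eq⟩
  rw [← Subgroup.card_top, ← htop', Core.card_sup_of_disjoint Subgroup.le_normalizer_of_normal
    (eq_bot_iff.mpr ((inf_le_inf_right A hxP).trans hinf.le)), Nat.card_zpowers, hxp, hcard]

end Cfsg.Agent.S3868
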