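import Mathlib
import Cfsg.Statements.S3869
import Cfsg.Agent.Lib.Transfer.IrredCard

set_option autoImplicit false
open Cfsg

namespace Cfsg.Agent.S3869



/-- Let p and q be distinct primes and G a finite non-abelian group with a normal elementary abelian q-subgroup A that is a minimal normal subgroup of G and has index p. Then A has order q^e with e the multiplicative order of q modulo p, and G is minimal non-p-closed: its Sylow p-subgroups are not normal, while in every proper subgroup and in every proper quotient of G the Sylow p-subgroups are normal. -/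
theorem result {G : Type*} [Group G] [Finite G] {p q : ℕ} [Fact p.Prime] (hq : q.Prime) (hpq : q ≠ p)
    (hna : ¬ IsMulCommutative G) (A : Subgroup G) [A.Normal] (hA : Cfsg.IsElementaryAbelian q A) (hidx : A.index = p)
    (hmin : ∀ B : Subgroup G, B.Normal → B ≤ A → B = ⊥ ∨ B = A) :
    Nat.card ↥A = q ^ orderOf (q : ZMod p) ∧ ¬ Cfsg.IsPClosed p G ∧ (∀ H : Subgroup G, H ≠ ⊤ → Cfsg.IsPClosed p ↥H) ∧
      ∀ (N : Subgroup G) [N.Normal], N ≠ ⊥ → Cfsg.IsPClosed p (G ⧸ N) := by
  have hp : p.Prime := Fact.out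
  have := Fact.mk hq
  have hAq := Core.isPGroup_of_isElementaryAbelian hA
  have hAp : (Nat.card A).Coprime p :=
    Core.coprime_card_of_isPGroup hAq ((Nat.coprime_primes hp hq).mpr hpq.symm)
  have hco : IsCoatom A := PGrp.isCoatom_of_index_eq hidx
  have hAA : A ≤ Subgroup.centralizer (A : Set G) :=
    Subgroup.le_centralizer_iff_isMulCommutative.mpr hA.1
  have hnot : ∀ y : G, orderOf y = p → y ∉ A := fun y hy h =>
    hp.ne_one (Nat.Coprime.eq_one_of_dvd hAp.symm (hy ▸ A.orderOf_dvd_natCard h))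
  have hsup : ∀ y : G, y ∉ A → Subgroup.zpowers y ⊔ A = ⊤ := fun y hy =>
    hco.2 _ (lt_of_le_of_ne le_sup_right fun he =>
      hy (he ▸ Subgroup.mem_sup_left (Subgroup.mem_zpowers y)))
  have hC : ∀ y : G, y ∈ Subgroup.centralizer (A : Set G) → y ∈ A := fun y hy => by
    by_contra hyA
    refine hna ⟨⟨fun a b => ?_⟩⟩
    have h1 : ⊤ ≤ Subgroup.centralizer (A : Set G) :=
      hsup y hyA ▸ sup_le (Subgroup.zpowers_le.mpr hy) hAA
    have h2 : ⊤ ≤ Subgroup.centralizer (Subgroup.zpowers y : Set G) := hsup y hyA ▸ sup_le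
      (Subgroup.le_centralizer_iff_isMulCommutative.mpr inferInstance)
      (Subgroup.le_centralizer_iff.mp (Subgroup.zpowers_le.mpr hy))
    have h3 : ⊤ ≤ Subgroup.centralizer ((⊤ : Subgroup G) : Set G) := by
      conv_lhs => rw [← hsup y hyA]
      exact sup_le (Subgroup.le_centralizer_iff.mp h2) (Subgroup.le_centralizer_iff.mp h1)
    exact h3 (Subgroup.mem_top b) a (Subgroup.mem_top a)
  have hirr : ∀ y : G, y ∉ A → ∀ U : Subgroup G, U ≤ A → y ∈ Subgroup.normalizer (U : Set G) →
      U = ⊥ ∨ U = A := fun y hy U hU hn =>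
    hmin U (Core.normal_iff_top_le_normalizer.mpr (hsup y hy ▸ sup_le (Subgroup.zpowers_le.mpr hn)
      ((hAA.trans (Subgroup.centralizer_le hU)).trans (Subgroup.centralizer_le_normalizer _)))) hU
  obtain ⟨x, hx⟩ := exists_prime_orderOf_dvd_card' p (hidx ▸ A.index_dvd_card)
  refine ⟨Transfer.card_eq_pow_orderOf_of_irreducible hpq hA
    (Subgroup.le_normalizer_of_normal (Subgroup.mem_top x))
    (by rw [← hx, pow_orderOf_eq_one]; exact one_mem _) (fun h => hnot x hx (hC x h))
    (hirr x (hnot x hx)), fun h => ?_, fun H hH => ?_, fun N _ hN => ?_⟩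
  · obtain ⟨P, hP⟩ := (Core.isPGroup_zpowers_of_orderOf (k := 1)
      (by rw [hx, pow_one])).exists_le_sylow
    have := h P
    exact hnot x hx (hC x (Core.le_centralizer_of_inf_eq_bot
      (Core.inf_eq_bot_of_isPGroup_of_coprime P.2 hAp) (hP (Subgroup.mem_zpowers x))))
  · by_cases hd : p ∣ Nat.card H
    swap
    · exact Transfer.isPClosed_of_not_dvd hd
    obtain ⟨y, hy, hyp⟩ := Core.exists_mem_orderOf_eq_of_dvd_card hd
    rcases hirr y (hnot y hyp) (A ⊓ H) inf_le_left (Core.le_normalizer_inf
      Subgroup.le_normalizer_of_normal Subgroup.le_normalizer hy) with h | h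
    · refine Transfer.isPClosed_of_isPGroup (IsPGroup.of_card_dvd_pow (n := 1) ?_)
      have h1 := Core.card_inf_mul_relIndex A H
      rw [h, Subgroup.card_bot, one_mul] at h1
      rw [← h1, pow_one, ← hidx]
      exact Subgroup.relIndex_dvd_index_of_normal A H
    · exact absurd (top_le_iff.mp (hsup y (hnot y hyp) ▸
        sup_le (Subgroup.zpowers_le.mpr hy) (h ▸ inf_le_right))) hH
  · rcases hmin (A ⊓ N) inferInstance inf_le_left with h | h
    · exfalso
      have h1 : N ≤ A := fun y hy => hC y (Core.le_centralizer_of_inf_eq_bot (inf_comm A N ▸ h) hy)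
      exact hN (by rw [← h, inf_eq_right.mpr h1])
    · refine Transfer.isPClosed_of_isPGroup (IsPGroup.of_card_dvd_pow (n := 1) ?_)
      rw [pow_one, ← hidx]
      exact Subgroup.index_dvd_of_le (h ▸ inf_le_right)

end Cfsg.Agent.S3869
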