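import Cfsg.Statements.S3870
import Mathlib

set_option autoImplicit false
open Cfsg

namespace Cfsg.Agent.S3870

/-- Let G be a finite simple group whose Sylow p-subgroups are not normal but such that every proper subgroup of G has a normal Sylow p-subgroup. Then any two distinct Sylow p-subgroups of G intersect trivially, and for every Sylow p-subgroup P the normalizer of every non-identity subgroup of P lies in the normalizer of P. -/
theorem result {G : Type*} [Group G] [Finite G] [IsSimpleGroup G] {p : ℕ} [Fact p.Prime]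
    (hnc : ¬ Cfsg.IsPClosed p G) (hsub : ∀ H : Subgroup G, H ≠ ⊤ → Cfsg.IsPClosed p ↥H) :
    (∀ P Q : Sylow p G, P ≠ Q → (P : Subgroup G) ⊓ (Q : Subgroup G) = ⊥) ∧
      ∀ (P : Sylow p G) (R : Subgroup G), R ≤ P → R ≠ ⊥ →
        Subgroup.normalizer (R : Set G) ≤ Subgroup.normalizer ((P : Subgroup G) : Set G) := by
  have hp : p.Prime := Fact.out
  have key : ∀ n : ℕ, ∀ P Q : Sylow p G, P ≠ Q →
      Nat.card G - Nat.card ((P : Subgroup G) ⊓ (Q : Subgroup G) : Subgroup G) = n →
      (P : Subgroup G) ⊓ (Q : Subgroup G) = ⊥ := by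
    intro n
    induction n using Nat.strong_induction_on with
    | _ n ih =>
    intro P Q hPQ hn
    by_contra hD
    set D : Subgroup G := (P : Subgroup G) ⊓ (Q : Subgroup G) with hDdef
    have hN : Subgroup.normalizer (D : Set G) ≠ ⊤ := by
      intro h
      rw [Subgroup.normalizer_eq_top_iff] at h
      rcases h.eq_bot_or_eq_top with h | h
      · exact hD h
      · apply hPQ
        have h1 : (P : Subgroup G) = ⊤ := top_le_iff.1 (h ▸ inf_le_left)
        have h2 : (Q : Subgroup G) = ⊤ := top_le_iff.1 (h ▸ inf_le_right)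
        exact Sylow.ext (h1.trans h2.symm)
    set N := Subgroup.normalizer (D : Set G) with hNdef
    obtain ⟨S⟩ : Nonempty (Sylow p N) := inferInstance
    have hS := hsub N hN S
    obtain ⟨R, hR⟩ := (S.isPGroup'.map N.subtype).exists_le_sylow
    have hle : ∀ T : Sylow p G, (T : Subgroup G) ⊓ N ≤ R := by
      intro T x hx
      apply hR
      have h1 : IsPGroup p ((T : Subgroup G).subgroupOf N) := T.isPGroup'.comap_subtype
      obtain ⟨S', hS'⟩ := h1.exists_le_sylow
      have := Sylow.unique_of_normal S hS
      have h2 : S' = S := Subsingleton.elim _ _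
      subst h2
      exact ⟨⟨x, hx.2⟩, hS' hx.1, rfl⟩
    have main : ∀ T : Sylow p G, D < T → R = T := by
      intro T hT
      by_contra hRT
      have h1 : D < (T : Subgroup G) ⊓ N := by
        have := T.isPGroup'.isNilpotent
        have h2 := Group.normalizerCondition_of_isNilpotent (G := T) (D.subgroupOf T) (by
          rw [lt_top_iff_ne_top, Ne, Subgroup.subgroupOf_eq_top]
          exact hT.not_ge)
        obtain ⟨x, hx1, hx2⟩ := SetLike.exists_of_lt h2
        refine lt_of_le_of_ne (le_inf hT.le Subgroup.le_normalizer) ?_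
        intro h
        apply hx2
        rw [Subgroup.mem_subgroupOf, h]
        refine ⟨x.2, ?_⟩
        rw [← Subgroup.subgroupOf_normalizer_eq hT.le] at hx1
        exact hx1
      have h2 : D < (R : Subgroup G) ⊓ T := h1.trans_le (le_inf (hle T) inf_le_left)
      have h3 : Nat.card D < Nat.card ((R : Subgroup G) ⊓ T : Subgroup G) :=
        lt_of_le_of_ne (Subgroup.card_le_of_le h2.le)
          (fun h' => h2.ne (Subgroup.eq_of_le_of_card_ge h2.le h'.ge))
      have h4 := Subgroup.card_le_card_group ((R : Subgroup G) ⊓ T : Subgroup G)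
      have h5 := ih _ (by omega) R T hRT rfl
      rw [h5] at h2
      exact not_lt_bot h2
    have hP : D < P := by
      refine lt_of_le_of_ne inf_le_left (fun h => hPQ ?_)
      have : (P : Subgroup G) ≤ Q := h ▸ inf_le_right
      exact Sylow.ext (P.is_maximal' Q.isPGroup' this).symm
    have hQ : D < Q := by
      refine lt_of_le_of_ne inf_le_right (fun h => hPQ ?_)
      have : (Q : Subgroup G) ≤ P := h ▸ inf_le_left
      exact Sylow.ext (Q.is_maximal' P.isPGroup' this)
    exact hPQ ((main P hP).symm.trans (main Q hQ))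
  have h1 : ∀ P Q : Sylow p G, P ≠ Q → (P : Subgroup G) ⊓ (Q : Subgroup G) = ⊥ :=
    fun P Q h => key _ P Q h rfl
  refine ⟨h1, fun P R hRP hR g hg => ?_⟩
  refine Sylow.smul_eq_iff_mem_normalizer.1 ?_
  by_contra hne
  apply hR
  rw [eq_bot_iff, ← h1 _ _ hne]
  refine le_inf ?_ hRP
  intro x hx
  rw [Sylow.coe_subgroup_smul, Subgroup.mem_pointwise_smul_iff_inv_smul_mem]
  apply hRP
  have := (Subgroup.mem_normalizer_iff.1 (Subgroup.inv_mem _ hg) x).1 hx
  simpa using this

end Cfsg.Agent.S3870
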