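import Cfsg.Statements.S3872
import Mathlib
import Cfsg.Agent.Lib.Reg.Regular2
import Cfsg.Agent.Lib.PGrp.RankOne

set_option autoImplicit false
open Cfsg

namespace Cfsg.Agent.S3872

/-- Say that a finite group is p-exponent closed when its elements of order dividing p form a subgroup. Let G be a finite p-group that is not p-exponent closed, but all of whose proper subgroups and proper quotients are. Then G is generated by two elements, has nilpotency class at least p, has exponent p², has cyclic center, and has order at least p^(p+1). -/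
theorem result {G : Type*} [Group G] [Finite G] {p : ℕ} [Fact p.Prime] (hG : IsPGroup p G)
    (hnc : ¬ (∃ H : Subgroup G, (H : Set G) = {g : G | g ^ p = 1})) (hsub : ∀ K : Subgroup G, K ≠ ⊤ → (∃ H : Subgroup ↥K, (H : Set ↥K) = {g : ↥K | g ^ p = 1}))
    (hquo : ∀ (N : Subgroup G) [N.Normal], N ≠ ⊥ → (∃ H : Subgroup (G ⧸ N), (H : Set (G ⧸ N)) = {g : (G ⧸ N) | g ^ p = 1})) :
    (∃ x y : G, Subgroup.closure ({x, y} : Set G) = ⊤) ∧ (⊤ : Subgroup G).lowerCentralSeries (p - 1) ≠ ⊥ ∧
      Monoid.exponent G = p ^ 2 ∧ IsCyclic ↥(Subgroup.center G) ∧ p ^ (p + 1) ≤ Nat.card G := by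
  have hp := (Fact.out : p.Prime)
  have := hG.isNilpotent
  obtain ⟨x, y, hx, hy, hxy⟩ : ∃ x y : G, x ^ p = 1 ∧ y ^ p = 1 ∧ (x * y) ^ p ≠ 1 := by
    by_contra h
    push Not at h
    exact hnc ⟨{ carrier := {g | g ^ p = 1}
                 one_mem' := one_pow p
                 mul_mem' := fun ha hb => h _ _ ha hb
                 inv_mem' := fun {a} ha => by
                   change a⁻¹ ^ p = 1
                   rw [inv_pow, show a ^ p = 1 from ha, inv_one] }, rfl⟩
  have hgen : Subgroup.closure ({x, y} : Set G) = ⊤ := by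
    by_contra h
    obtain ⟨H, hH⟩ := hsub _ h
    have h1 : (⟨x, Reg.left_mem_closure_pair x y⟩ : Subgroup.closure ({x, y} : Set G)) ∈ H := by
      rw [← SetLike.mem_coe, hH]; exact Subtype.ext hx
    have h2 : (⟨y, Reg.right_mem_closure_pair x y⟩ : Subgroup.closure ({x, y} : Set G)) ∈ H := by
      rw [← SetLike.mem_coe, hH]; exact Subtype.ext hy
    have h3 := H.mul_mem h1 h2
    rw [← SetLike.mem_coe, hH] at h3
    exact hxy (congrArg Subtype.val h3)
  have hnr : ¬ Reg.PowRegOn (p ^ 1) (⊤ : Subgroup G) := by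
    rw [pow_one]
    exact fun h => hxy (h.mul_pow_eq_one trivial trivial hx hy)
  have hpow : ∀ (N : Subgroup G) [N.Normal], N ≠ ⊥ → ∀ g : G, g ^ p ∈ N := by
    intro N _ hN g
    obtain ⟨H, hH⟩ := hquo N hN
    have h1 : Subgroup.closure ({x, y} : Set G) ≤ H.comap (QuotientGroup.mk' N) := by
      refine Reg.closure_pair_le ?_ ?_
      · rw [Subgroup.mem_comap, ← SetLike.mem_coe, hH, Set.mem_ofPred_eq, ← map_pow, hx, map_one]
      · rw [Subgroup.mem_comap, ← SetLike.mem_coe, hH, Set.mem_ofPred_eq, ← map_pow, hy, map_one]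
    have h2 := h1 (hgen ▸ Subgroup.mem_top g)
    rw [Subgroup.mem_comap, ← SetLike.mem_coe, hH, Set.mem_ofPred_eq, ← map_pow] at h2
    exact (QuotientGroup.eq_one_iff _).mp h2
  have hcen : ∀ z ∈ Subgroup.center G, z ≠ 1 → ∀ g : G, g ^ p ∈ Subgroup.zpowers z := by
    intro z hz hz1
    have := PGrp.normal_of_le_center (Subgroup.zpowers_le.mpr hz)
    exact hpow _ (by simpa using hz1)
  have htop : (⊤ : Subgroup G) ≠ ⊥ := fun h => hxy (Subgroup.mem_bot.mp (h ▸ Subgroup.mem_top _))
  obtain ⟨z, -, hz, hzo⟩ := PGrp.exists_mem_center_orderOf_eq hG htop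
  have hz1 : z ≠ 1 := by
    rintro rfl
    exact hp.one_lt.ne (by simpa using hzo)
  have hexp : ∀ g : G, g ^ p ^ 2 = 1 := by
    intro g
    obtain ⟨k, hk⟩ := hcen z hz hz1 g
    simp only at hk
    rw [sq, pow_mul, ← hk, ← zpow_natCast, ← zpow_mul, mul_comm, zpow_mul, zpow_natCast, ← hzo,
      pow_orderOf_eq_one, one_zpow]
  refine ⟨⟨x, y, hgen⟩, fun h => hnr (Reg.powRegOn_of_class_lt hp h 1), ?_, ?_, ?_⟩
  · have h1 := Monoid.exponent_dvd_of_forall_pow_eq_one hexp
    obtain ⟨k, hk, hk'⟩ := (Nat.dvd_prime_pow hp).mp h1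
    rcases hk.eq_or_lt with rfl | hlt
    · exact hk'
    · exfalso
      apply hxy
      refine Monoid.exponent_dvd_iff_forall_pow_eq_one.mp ?_ _
      rw [hk']
      exact (pow_dvd_pow p (by omega : k ≤ 1)).trans (by simp)
  · refine PGrp.isCyclic_of_comm_of_rank_le_one (hG.to_subgroup _) inferInstance ?_
    intro A _ hA
    have hw : orderOf ((x * y) ^ p) = p :=
      orderOf_eq_prime (by rw [← pow_mul, ← sq, hexp]) hxy
    have hle : A.map (Subgroup.center G).subtype ≤ Subgroup.zpowers ((x * y) ^ p) := by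
      rintro _ ⟨a, ha, rfl⟩
      by_cases h1 : (a : G) = 1
      · simp [h1]
      · have h2 : orderOf (a : G) = p := orderOf_eq_prime (congrArg Subtype.val (hA a ha)) h1
        have h3 := Subgroup.eq_of_le_of_card_ge
          (Subgroup.zpowers_le.mpr (hcen a a.2 h1 (x * y)))
          (by rw [Nat.card_zpowers, Nat.card_zpowers, h2, hw])
        rw [h3]
        exact Subgroup.mem_zpowers _
    have := Subgroup.card_le_of_le hle
    rwa [Subgroup.card_map_of_injective (Subgroup.subtype_injective _), Nat.card_zpowers, hw,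
      ← pow_one p] at this
  · obtain ⟨n, hn⟩ := IsPGroup.iff_card.mp hG
    by_contra h
    rw [hn, Nat.pow_le_pow_iff_right hp.one_lt] at h
    refine hnr (Reg.powRegOn_of_card_le (hG.to_subgroup ⊤) ?_ 1)
    rw [Subgroup.card_top, hn]
    exact Nat.pow_le_pow_right hp.pos (by omega)

end Cfsg.Agent.S3872
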