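import Mathlib
import Cfsg.Statements.S3873
import Cfsg.Agent.Lib.Transfer.IrredCard
import Cfsg.Agent.S3868

set_option autoImplicit false
open Cfsg

namespace Cfsg.Agent.S3873



/-- Say that a finite group is p-exponent closed when its elements of order dividing p form a subgroup. Let G be a finite group that is not p-exponent closed, but all of whose proper subgroups and proper quotients are, and suppose G is neither simple nor a p-group. Then there is a prime q ≠ p such that G has order p · q^e, where e is the multiplicative order of q modulo p, and G has a normal elementary abelian subgroup of order q^e that is a minimal normal subgroup of G. -/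
theorem result {G : Type*} [Group G] [Finite G] {p : ℕ} [Fact p.Prime]
    (hnc : ¬ (∃ H : Subgroup G, (H : Set G) = {g : G | g ^ p = 1})) (hsub : ∀ K : Subgroup G, K ≠ ⊤ → (∃ H : Subgroup ↥K, (H : Set ↥K) = {g : ↥K | g ^ p = 1}))
    (hquo : ∀ (N : Subgroup G) [N.Normal], N ≠ ⊥ → (∃ H : Subgroup (G ⧸ N), (H : Set (G ⧸ N)) = {g : (G ⧸ N) | g ^ p = 1}))
    (hns : ¬ IsSimpleGroup G) (hnp : ¬ IsPGroup p G) :
    ∃ q : ℕ, q.Prime ∧ q ≠ p ∧ Nat.card G = p * q ^ orderOf (q : ZMod p) ∧
      ∃ A : Subgroup G, A.Normal ∧ Nat.card ↥A = q ^ orderOf (q : ZMod p) ∧ Cfsg.IsElementaryAbelian q A ∧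
        ∀ B : Subgroup G, B.Normal → B ≤ A → B = ⊥ ∨ B = A := by
  have hp : p.Prime := Fact.out
  have hexp : ∀ (N : Subgroup G) [N.Normal], N ≠ ⊥ → ∀ g : G ⧸ N, g ^ p = 1 := by
    intro N _ hN g
    obtain ⟨K, hK⟩ := hquo N hN
    by_cases ht : K.comap (QuotientGroup.mk' N) = ⊤
    · obtain ⟨g, rfl⟩ := QuotientGroup.mk'_surjective N g
      exact (hK.le (ht ▸ Subgroup.mem_top g : g ∈ K.comap (QuotientGroup.mk' N)) :)
    obtain ⟨H, hH⟩ := hsub _ ht
    refine absurd ⟨H.map (Subgroup.subtype _), Set.Subset.antisymm ?_ fun x hx => ?_⟩ hnc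
    · rintro _ ⟨x, hx, rfl⟩
      exact congrArg Subtype.val (hH.le hx :)
    · have h1 : x ∈ K.comap (QuotientGroup.mk' N) := hK.ge (by
        change (QuotientGroup.mk' N x) ^ p = 1
        rw [← map_pow, hx, map_one])
      exact ⟨⟨x, h1⟩, hH.ge (Subtype.ext hx), rfl⟩
  have hnt : Nontrivial G := by
    by_contra h
    rw [not_nontrivial_iff_subsingleton] at h
    exact hnp fun g => ⟨0, Subsingleton.elim _ _⟩
  obtain ⟨N, hN, hb, ht⟩ : ∃ N : Subgroup G, N.Normal ∧ N ≠ ⊥ ∧ N ≠ ⊤ := by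
    by_contra h
    push Not at h
    exact hns ⟨fun N hN => or_iff_not_imp_left.mpr (h N hN)⟩
  have hNp : ∀ x ∈ N, x ^ p = 1 → x = 1 := by
    obtain ⟨H, hH⟩ := hsub N ht
    have hmem : ∀ x : G, x ∈ H.map N.subtype ↔ x ∈ N ∧ x ^ p = 1 := fun x => by
      constructor
      · rintro ⟨x, hx, rfl⟩
        exact ⟨x.2, congrArg Subtype.val (hH.le hx :)⟩
      · rintro ⟨h1, h2⟩
        exact ⟨⟨x, h1⟩, hH.ge (Subtype.ext h2), rfl⟩
    have hn : (H.map N.subtype).Normal := ⟨fun x hx g => (hmem _).mpr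
      ⟨hN.conj_mem x ((hmem x).mp hx).1 g, by rw [conj_pow, ((hmem x).mp hx).2, mul_one,
        mul_inv_cancel]⟩⟩
    intro x hx hxp
    by_contra hx1
    refine hnp fun g => ⟨2, ?_⟩
    have h1 := hexp (H.map N.subtype) (fun h => hx1 (Subgroup.mem_bot.mp
      (h ▸ (hmem x).mpr ⟨hx, hxp⟩))) g
    rw [← QuotientGroup.mk_pow, QuotientGroup.eq_one_iff] at h1
    rw [sq, pow_mul]
    exact ((hmem _).mp h1).2
  have hpe : ∀ x : G, (∃ k, x ^ p ^ k = 1) → x ^ p = 1 := by
    rintro x ⟨k, hk⟩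
    have h1 : x ^ p ∈ N := by
      rw [← QuotientGroup.eq_one_iff, QuotientGroup.mk_pow]
      exact hexp N hb _
    have key : ∀ (k : ℕ) (y : G), y ∈ N → y ^ p ^ k = 1 → y = 1 := by
      intro k
      induction k with
      | zero => exact fun y _ h => by simpa using h
      | succ k ih =>
        intro y hy h
        rw [pow_succ, pow_mul] at h
        exact ih y hy (hNp _ (pow_mem hy _) h)
    exact key k _ h1 (by rw [← pow_mul, mul_comm, pow_mul, hk, one_pow])
  refine S3868.result (fun h => hnc ?_) (fun K hK P => ?_)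
    (fun M _ hM => Transfer.isPClosed_of_isPGroup fun g => ⟨1, by rw [pow_one, hexp M hM]⟩) hns
  · obtain ⟨P⟩ : Nonempty (Sylow p G) := inferInstance
    have := h P
    refine ⟨P, Set.Subset.antisymm (fun x hx => hpe x ?_) fun x hx => ?_⟩
    · obtain ⟨k, hk⟩ := P.2 ⟨x, hx⟩
      exact ⟨k, congrArg Subtype.val hk⟩
    · exact Core.le_sylow_of_le_normalizer (Core.isPGroup_zpowers_of_pow_eq_one (k := 1)
        (by rw [pow_one]; exact hx)) P Subgroup.le_normalizer_of_normal (Subgroup.mem_zpowers x)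
  · obtain ⟨H, hH⟩ := hsub K hK
    have h1 : H = P := P.3 (Core.isPGroup_of_forall_mem fun x hx =>
      ⟨1, by rw [pow_one]; exact hH.le hx⟩) fun x hx => hH.ge (Subtype.ext (hpe x (by
        obtain ⟨k, hk⟩ := P.2 ⟨x, hx⟩
        exact ⟨k, congrArg (fun y => (Subtype.val (Subtype.val y) : G)) hk⟩)))
    rw [← h1]
    refine ⟨fun x hx g => hH.ge ?_⟩
    change (g * x * g⁻¹) ^ p = 1
    rw [conj_pow, (hH.le hx : x ^ p = 1), mul_one, mul_inv_cancel]

end Cfsg.Agent.S3873
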