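import Cfsg.Statements.S3875
import Mathlib
import Cfsg.Agent.Lib.BR.Red

set_option autoImplicit false
open Cfsg

namespace Cfsg.Agent.S3875

/-- Let p be an odd prime and let m be the least prime power congruent to 1 modulo p. Then the least order of a finite group whose Sylow p-subgroups are not normal is the smaller of p · m and p(p² − 1)/2: every finite group whose Sylow p-subgroups are not normal has at least that order, and some group of exactly that order has non-normal Sylow p-subgroups. -/
theorem result (p : ℕ) [Fact p.Prime] (hp : p ≠ 2) (m : ℕ) (hm : IsPrimePow m) (hm1 : m % p = 1)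
    (hleast : ∀ k : ℕ, IsPrimePow k → k % p = 1 → m ≤ k) :
    (∀ (H : Type) [Group H] [Finite H], ¬ Cfsg.IsPClosed p H → min (p * m) (p * (p ^ 2 - 1) / 2) ≤ Nat.card H) ∧
      ∃ (H : Type) (_ : Group H) (_ : Finite H), Nat.card H = min (p * m) (p * (p ^ 2 - 1) / 2) ∧ ¬ Cfsg.IsPClosed p H := by
  have hp' : p.Prime := Fact.out
  refine ⟨fun H _ _ hH => ?_, ?_⟩
  · obtain ⟨P, hP⟩ := not_forall.1 hH
    have h1 : Nat.card (Sylow p H) ≠ 1 := fun e => by
      have : Subsingleton (Sylow p H) := (Nat.card_eq_one_iff_unique.1 e).1
      exact hP P.normal_of_subsingleton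
    have h2 : p * Nat.card (Sylow p H) ≤ Nat.card H := by
      have h3 : p ≤ Nat.card (Subgroup.normalizer ((P : Subgroup H) : Set H)) := by
        obtain ⟨k, hk⟩ := P.isPGroup'.exists_card_eq
        rcases k with _ | k
        · exact absurd (by rw [Subgroup.card_eq_one.1 hk]; infer_instance) hP
        · exact Nat.le_of_dvd Nat.card_pos (((dvd_pow_self p k.succ_ne_zero).trans hk.symm.dvd).trans
            (Subgroup.card_dvd_of_le Subgroup.le_normalizer))
      rw [P.card_eq_index_normalizer,
        ← (Subgroup.normalizer ((P : Subgroup H) : Set H)).card_mul_index]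
      exact Nat.mul_le_mul_right _ h3
    by_cases hn : Nat.card (Sylow p H) < p ^ 2
    · rcases BR.red H hn with ⟨-, q, k, hq, e⟩ | ⟨-, S, _, _, s, hd, e, hS⟩
      · refine (min_le_left _ _).trans ((Nat.mul_le_mul_left _ (hleast _ ?_ ?_)).trans h2)
        · refine (isPrimePow_nat_iff _).2 ⟨q, k, hq, Nat.pos_of_ne_zero fun e' => h1 ?_, e.symm⟩
          rw [e, e', pow_zero]
        · have := card_sylow_modEq_one p H
          rwa [Nat.ModEq, Nat.mod_eq_of_lt hp'.one_lt] at this
      · obtain ⟨Q⟩ : Nonempty (Sylow p S) := inferInstance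
        have := s.simple
        rw [← e] at hn
        have := s.card_ge Q (Coprime.card_sylow_eq_of_card_sylow_lt s.nc hd hn Q) hn
        refine (min_le_right _ _).trans ?_
        omega
    · refine (min_le_right _ _).trans ((Nat.div_le_self _ _).trans (le_trans ?_ h2))
      exact Nat.mul_le_mul_left _ (by omega)
  · rcases le_total (p * m) (p * (p ^ 2 - 1) / 2) with h | h
    · rw [min_eq_left h]
      exact BR.exists_affine hm hm1
    · rw [min_eq_right h]
      exact BR.exists_psl hp

end Cfsg.Agent.S3875
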