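import Cfsg.Statements.S3889
import Mathlib

set_option autoImplicit false
open Cfsg

namespace Cfsg.Agent.S3889

/-- A finite abelian group that is the union of a family of proper subgroups any two of which intersect trivially is elementary abelian: its exponent is a prime. -/
theorem result {G : Type*} [CommGroup G] [Finite G] (𝓑 : Set (Subgroup G)) (hprop : ∀ B ∈ 𝓑, B ≠ ⊤)
    (hcov : ∀ g : G, ∃ B ∈ 𝓑, g ∈ B) (hdisj : ∀ B ∈ 𝓑, ∀ C ∈ 𝓑, B ≠ C → B ⊓ C = ⊥) :
    (Monoid.exponent G).Prime := by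
  obtain ⟨A, hA, -⟩ := hcov 1
  obtain ⟨y, hy⟩ := SetLike.exists_not_mem_of_ne_top A (hprop A hA)
  have hy1 : orderOf y ≠ 1 := fun h => hy (orderOf_eq_one_iff.1 h ▸ A.one_mem)
  obtain ⟨p, hp, hpy⟩ := Nat.exists_prime_and_dvd hy1
  have := Fact.mk hp
  obtain ⟨x, hx⟩ := exists_prime_orderOf_dvd_card' (G := G) p (hpy.trans (orderOf_dvd_natCard y))
  have hx1 : x ≠ 1 := by rintro rfl; exact hp.ne_one (by simpa using hx.symm)
  have hxp : x ^ p = 1 := hx ▸ pow_orderOf_eq_one x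
  obtain ⟨B, hB, hxB⟩ := hcov x
  have h1 : ∀ g ∉ B, g ^ p = 1 := fun g hg => by
    obtain ⟨C, hC, hgC⟩ := hcov g
    obtain ⟨D, hD, hgD⟩ := hcov (g * x)
    have h2 : C ≠ D := by
      rintro rfl
      have h3 : x ∈ B ⊓ C := ⟨hxB, (C.mul_mem_cancel_left hgC).1 hgD⟩
      rw [hdisj B hB C hC (by rintro rfl; exact hg hgC)] at h3
      exact hx1 h3
    have h3 : g ^ p ∈ C ⊓ D := ⟨C.pow_mem hgC p, by
      have := D.pow_mem hgD p
      rwa [mul_pow, hxp, mul_one] at this⟩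
    rwa [hdisj C hC D hD h2] at h3
  obtain ⟨z, hz⟩ := SetLike.exists_not_mem_of_ne_top B (hprop B hB)
  have h2 : ∀ g : G, g ^ p = 1 := fun g => by
    by_cases hg : g ∈ B
    · have := h1 (g * z) fun h => hz ((B.mul_mem_cancel_left hg).1 h)
      rwa [mul_pow, h1 z hz, mul_one] at this
    · exact h1 g hg
  rwa [Nat.dvd_antisymm (Monoid.exponent_dvd_of_forall_pow_eq_one h2)
    (hx ▸ Monoid.order_dvd_exponent x)]

end Cfsg.Agent.S3889
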