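import Cfsg.Statements.S3890
import Mathlib
import Cfsg.Agent.S3889
import Cfsg.Agent.Lib.Perm.Cover
import Cfsg.Agent.Lib.Cls.Basic

set_option autoImplicit false
open Cfsg

namespace Cfsg.Agent.S3890

open Subgroup
open scoped IsMulCommutative

theorem sup_eq_top {G : Type*} [Group G] {𝓐 : Finset (Subgroup G)}
    (h1 : ∀ A ∈ 𝓐, A ≠ ⊤) (h2 : ∀ g : G, ∃ A ∈ 𝓐, g ∈ A)
    (h3 : ∀ 𝓑 : Finset (Subgroup G), (∀ A ∈ 𝓑, A ≠ ⊤) ∧ (∀ g : G, ∃ A ∈ 𝓑, g ∈ A) →
      𝓐.card ≤ 𝓑.card) {A B M : Subgroup G} (hA : A ∈ 𝓐) (hB : B ∈ 𝓐) (hM : M ≠ ⊤) (hAM : A ≤ M)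
    (hBM : B ≤ M) : A = B := by
  classical
  by_contra hAB
  have h5 := h3 (insert M ((𝓐.erase A).erase B)) ⟨?_, ?_⟩
  · have h6 := Finset.card_insert_le M ((𝓐.erase A).erase B)
    rw [Finset.card_erase_of_mem (Finset.mem_erase.2 ⟨Ne.symm hAB, hB⟩),
      Finset.card_erase_of_mem hA] at h6
    have h7 : 2 ≤ 𝓐.card := Finset.one_lt_card.2 ⟨A, hA, B, hB, hAB⟩
    omega
  · intro C hC
    rcases Finset.mem_insert.1 hC with rfl | hC
    · exact hM
    · exact h1 C (Finset.mem_of_mem_erase (Finset.mem_of_mem_erase hC))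
  · intro g
    obtain ⟨C, hC, hgC⟩ := h2 g
    by_cases hCA : C = A
    · exact ⟨M, Finset.mem_insert_self _ _, hAM (hCA ▸ hgC)⟩
    by_cases hCB : C = B
    · exact ⟨M, Finset.mem_insert_self _ _, hBM (hCB ▸ hgC)⟩
    exact ⟨C, Finset.mem_insert_of_mem (Finset.mem_erase.2 ⟨hCB, Finset.mem_erase.2 ⟨hCA, hC⟩⟩),
      hgC⟩

theorem main {G : Type*} [Group G] [Finite G] (hZ : Subgroup.center G = ⊥)
    {𝓐 : Finset (Subgroup G)} (h1 : ∀ A ∈ 𝓐, A ≠ ⊤) (h2 : ∀ g : G, ∃ A ∈ 𝓐, g ∈ A)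
    (h3 : ∀ 𝓑 : Finset (Subgroup G), (∀ A ∈ 𝓑, A ≠ ⊤) ∧ (∀ g : G, ∃ A ∈ 𝓑, g ∈ A) →
      𝓐.card ≤ 𝓑.card) (h4 : ∀ A ∈ 𝓐, Group.IsNilpotent A) {p : ℕ} [hp : Fact p.Prime]
    (P : Sylow p G) (hab : IsMulCommutative (P : Subgroup G)) (hnn : ¬ (P : Subgroup G).Normal)
    (he : ¬ (Cfsg.IsElementaryAbelian p (P : Subgroup G) ∧ p < Nat.card (P : Subgroup G))) :
    centralizer ((P : Subgroup G) : Set G) ∈ 𝓐 ∧
      (∀ M : Subgroup G, M ≠ ⊤ → centralizer ((P : Subgroup G) : Set G) ≤ M →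
        M ≤ normalizer ((P : Subgroup G) : Set G)) ∧
      ∀ g ∉ normalizer ((P : Subgroup G) : Set G), ∀ x ∈ (P : Subgroup G),
        g⁻¹ * x * g ∈ (P : Subgroup G) → x = 1 := by
  have hcomm : ∀ (Q : Sylow p G), ∀ x ∈ (Q : Subgroup G), ∀ y ∈ (Q : Subgroup G), x * y = y * x := by
    intro Q x hx y hy
    obtain ⟨g, rfl⟩ := MulAction.exists_smul_eq G P Q
    rw [Cls.mem_smul_sylow_iff] at hx hy
    have := congrArg Subtype.val (mul_comm (⟨_, hx⟩ : (P : Subgroup G)) ⟨_, hy⟩)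
    simpa [← mul_assoc] using (by simpa [mul_assoc] using this : x * (y * g) = y * (x * g))
  have hord : ∀ (Q : Sylow p G), ∀ x ∈ (Q : Subgroup G), ∃ k, orderOf x = p ^ k := fun Q x hx =>
    Core.exists_orderOf_eq_pow_of_mem Q.isPGroup' hx
  have h5 : ∀ A ∈ 𝓐, ∀ x ∈ A, (∃ k, orderOf x = p ^ k) → A ≤ centralizer {x} := by
    rintro A hA x hx ⟨k, hk⟩
    obtain ⟨R, -, hR, -, hR'⟩ := Perm.exists_pSubgroup_of_isNilpotent (h4 A hA) p
    obtain ⟨Q, hQ⟩ := hR.exists_le_sylow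
    intro a ha
    obtain ⟨u, hu, v, hv, rfl, ⟨l, hl⟩, hv'⟩ := Cls.exists_p_part hp.out a
    have hu' := (zpowers_le.2 ha) hu
    have hv'' := (zpowers_le.2 ha) hv
    refine mul_mem (mem_centralizer_singleton_iff.2 (hcomm Q _ (hQ (hR' u hu' ⟨l, ?_⟩)) _
      (hQ (hR' x hx ⟨k, ?_⟩)))) (mem_centralizer_singleton_iff.2
      (Perm.commute_of_coprime_of_mem (h4 A hA) hv'' hx ?_))
    · rw [← hl, pow_orderOf_eq_one]
    · rw [← hk, pow_orderOf_eq_one]
    · rw [hk]; exact hv'.pow_right _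
  have h6 : ∀ A ∈ 𝓐, ∀ B ∈ 𝓐, ∀ x ∈ A, x ∈ B → (∃ k, orderOf x = p ^ k) → x ≠ 1 → A = B :=
    fun A hA B hB x hx hx' hk hx1 => sup_eq_top h1 h2 h3 hA hB (fun h => hx1 (by
      rwa [Cls.centralizer_single_eq_top_iff, hZ] at h)) (h5 A hA x hx hk) (h5 B hB x hx' hk)
  have h7 : ∀ Q : Sylow p G, centralizer ((Q : Subgroup G) : Set G) ∈ 𝓐 := by
    intro Q
    obtain ⟨g, rfl⟩ := MulAction.exists_smul_eq G P Q
    obtain ⟨x, hx, hx1⟩ : ∃ x ∈ (P : Subgroup G), x ≠ 1 := by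
      by_contra h
      push Not at h
      exact hnn (by rw [(eq_bot_iff_forall _).2 h]; infer_instance)
    obtain ⟨A, hA, hPA⟩ : ∃ A ∈ 𝓐, ((g • P : Sylow p G) : Subgroup G) ≤ A := by
      by_contra h
      push Not at h
      have hy : ∀ y : (P : Subgroup G), g * y * g⁻¹ ∈ ((g • P : Sylow p G) : Subgroup G) :=
        fun y => Cls.mem_smul_sylow_iff.2 (by simp [mul_assoc])
      let f : (P : Subgroup G) →* G := (MulAut.conj g).toMonoidHom.comp (P : Subgroup G).subtype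
      have h8 : ∀ A ∈ 𝓐, A.comap f ≠ ⊤ := fun A hA h' => h A hA fun y hy => by
        have : (⟨_, Cls.mem_smul_sylow_iff.1 hy⟩ : (P : Subgroup G)) ∈ A.comap f := h' ▸ mem_top _
        simpa [f, mul_assoc] using this
      have h9 := S3889.result (G := (P : Subgroup G)) ((fun A => A.comap f) '' 𝓐)
        (by rintro _ ⟨A, hA, rfl⟩; exact h8 A hA)
        (fun y => (h2 (f y)).elim fun A hA => ⟨_, ⟨A, hA.1, rfl⟩, hA.2⟩) (by
          rintro _ ⟨A, hA, rfl⟩ _ ⟨B, hB, rfl⟩ hAB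
          refine (eq_bot_iff_forall _).2 fun y hy' => ?_
          by_contra hy1
          refine hAB (congrArg _ (h6 A hA B hB (f y) hy'.1 hy'.2 (hord _ _ (hy y)) fun h => hy1 ?_))
          simpa [f] using h)
      obtain ⟨k, hk⟩ := IsPGroup.iff_card.1 P.isPGroup'
      have h10 : Monoid.exponent (P : Subgroup G) = p :=
        (Nat.prime_dvd_prime_iff_eq h9 hp.out).1 (h9.dvd_of_dvd_pow (hk ▸ Group.exponent_dvd_nat_card))
      refine he ⟨⟨hab, fun a ha => by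
        have := Monoid.pow_exponent_eq_one (⟨a, ha⟩ : (P : Subgroup G))
        rw [h10] at this
        exact congrArg Subtype.val this⟩, ?_⟩
      refine (Nat.le_of_dvd Nat.card_pos (h10.symm.dvd.trans Group.exponent_dvd_nat_card)).lt_of_ne fun h => ?_
      obtain ⟨A, hA, hxA⟩ := h2 (f ⟨x, hx⟩)
      refine h8 A hA (top_le_iff.1 ?_)
      rw [← zpowers_eq_top_of_prime_card h.symm (g := ⟨x, hx⟩) (by simpa using hx1), zpowers_le]
      exact hxA
    have hx' : g * x * g⁻¹ ∈ ((g • P : Sylow p G) : Subgroup G) :=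
      Cls.mem_smul_sylow_iff.2 (by simpa [mul_assoc])
    have hx1' : g * x * g⁻¹ ≠ 1 := by simpa using hx1
    generalize g • P = Q at *
    generalize g * x * g⁻¹ = y at *
    convert hA
    refine le_antisymm (fun c hc => ?_) fun a ha z hz =>
      (mem_centralizer_singleton_iff.1 (h5 A hA z (hPA hz) (hord Q z hz) ha)).symm
    obtain ⟨u, hu, v, hv, rfl, hl, hv'⟩ := Cls.exists_p_part hp.out c
    refine mul_mem (hPA (Cls.mem_sylow_of_mem_centralizer Q hl (zpowers_le.2 hc hu))) ?_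
    obtain ⟨B, hB, hyB⟩ := h2 (y * v)
    obtain ⟨k, hk⟩ := hord Q y hx'
    have hc' : Commute y v := zpowers_le.2 hc hv y hx'
    have hcop : (orderOf y).Coprime (orderOf v) :=
      hk ▸ hv'.symm.pow_left _
    rw [h6 A hA B hB y (hPA hx') (zpowers_le.2 hyB (Cls.mem_zpowers_mul_left hc' hcop)) ⟨k, hk⟩ hx1']
    exact zpowers_le.2 hyB (Cls.mem_zpowers_mul_right hc' hcop)
  have h8 : ∀ g : G, centralizer ((P : Subgroup G) : Set G) =
      centralizer (((g • P : Sylow p G) : Subgroup G) : Set G) →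
      g ∈ normalizer ((P : Subgroup G) : Set G) := fun g h => by
    refine Sylow.smul_eq_iff_mem_normalizer.1 (Sylow.ext (P.3 (g • P).isPGroup' fun x hx => ?_))
    exact Cls.mem_sylow_of_mem_centralizer _ (hord P x hx) (h ▸ fun y hy => hcomm P y hy x hx)
  refine ⟨h7 P, fun M hM hPM g hg => h8 g (sup_eq_top h1 h2 h3 (h7 _) (h7 _) hM hPM fun c hc => ?_),
    fun g hg x hx hx' => ?_⟩
  · have h9 : g⁻¹ * c * g ∈ M := hPM fun y hy => by
      have := hc (g * y * g⁻¹) (Cls.mem_smul_sylow_iff.2 (by simpa [mul_assoc]))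
      calc _ = g⁻¹ * (g * y * g⁻¹ * c) * g := by group
        _ = _ := by rw [this]; group
    rwa [M.mul_mem_cancel_right hg, M.mul_mem_cancel_left (M.inv_mem hg)] at h9
  · by_contra hx1
    exact hg (h8 g (h6 _ (h7 _) _ (h7 _) x (fun y hy => hcomm P y hy x hx)
      (fun y hy => hcomm _ y hy x (Cls.mem_smul_sylow_iff.2 hx')) (hord P x hx) hx1))


/-- A cover of a group is a finite set of proper subgroups whose union is the whole group; it is minimal when no cover has fewer members, and nilpotent when all its members are nilpotent. Let G be a finite group with trivial center admitting a nilpotent minimal cover 𝓐, and let P be an abelian Sylow p-subgroup of G that is not normal. Then either P is elementary abelian of order greater than p, or P is a Sylow p-subgroup of some member A of 𝓐, the normalizer N of P is a maximal subgroup of G, N meets each of its conjugates by elements outside N in a subgroup of order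 prime to p, and the centralizer of P equals A. -/
theorem result {G : Type*} [Group G] [Finite G] (hZ : Subgroup.center G = ⊥) (𝓐 : Finset (Subgroup G))
    (h𝓐 : ((∀ A ∈ 𝓐, A ≠ ⊤) ∧ (∀ g : G, ∃ A ∈ 𝓐, g ∈ A)) ∧ (∀ 𝓑 : Finset (Subgroup G), (∀ A ∈ 𝓑, A ≠ ⊤) ∧ (∀ g : G, ∃ A ∈ 𝓑, g ∈ A) → 𝓐.card ≤ 𝓑.card) ∧ (∀ A ∈ 𝓐, Group.IsNilpotent ↥A)) {p : ℕ} [Fact p.Prime] (P : Sylow p G) (hab : IsMulCommutative ↥(P : Subgroup G))
    (hnn : ¬ (P : Subgroup G).Normal) :
    (Cfsg.IsElementaryAbelian p (P : Subgroup G) ∧ p < Nat.card ↥(P : Subgroup G)) ∨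
    (∃ A ∈ 𝓐, (P : Subgroup G) ≤ A ∧ ¬ p ∣ ((P : Subgroup G).subgroupOf A).index ∧
      IsCoatom (Subgroup.normalizer ((P : Subgroup G) : Set G)) ∧
      (∀ g : G, g ∉ Subgroup.normalizer ((P : Subgroup G) : Set G) →
        ¬ p ∣ Nat.card ↥(Subgroup.normalizer ((P : Subgroup G) : Set G) ⊓
          (Subgroup.normalizer ((P : Subgroup G) : Set G)).map (MulAut.conj g).toMonoidHom)) ∧
      Subgroup.centralizer ((P : Subgroup G) : Set G) = A) := by
  obtain ⟨⟨h1, h2⟩, h3, h4⟩ := h𝓐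
  refine or_iff_not_imp_left.2 fun he => ?_
  obtain ⟨h5, h6, h7⟩ := main hZ h1 h2 h3 h4 P hab hnn he
  have h8 : (P : Subgroup G) ≤ centralizer ((P : Subgroup G) : Set G) :=
    le_centralizer_iff_isMulCommutative.2 hab
  refine ⟨_, h5, h8, fun h => P.not_dvd_index (h.trans (relIndex_dvd_index_of_le h8)),
    ⟨fun h => hnn (normalizer_eq_top_iff.1 h), fun M hM => ?_⟩, fun g hg h => ?_, rfl⟩
  · by_contra h
    exact hM.not_ge (h6 M h ((centralizer_le_normalizer _).trans hM.le))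
  · obtain ⟨⟨x, hx⟩, hx'⟩ := exists_prime_orderOf_dvd_card' p h
    rw [orderOf_mk] at hx'
    obtain ⟨hx, y, hy, rfl⟩ := hx
    have h9 := h7 g hg _ (Cls.mem_sylow_of_mem_normalizer P ⟨1, by rw [hx', pow_one]⟩ hx) (by
      simpa [mul_assoc] using Cls.mem_sylow_of_mem_normalizer P
        ⟨1, by rw [pow_one, ← hx']; exact ((MulAut.conj g).orderOf_eq y).symm⟩ hy)
    rw [h9, orderOf_one] at hx'
    exact (Fact.out : p.Prime).ne_one hx'.symm

end Cfsg.Agent.S3890
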