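import Cfsg.Statements.S3891
import Mathlib
import Cfsg.Agent.S3890

set_option autoImplicit false
open Cfsg

namespace Cfsg.Agent.S3891

/-- A cover of a group is a finite set of proper subgroups whose union is the whole group; it is minimal when no cover has fewer members, and nilpotent when all its members are nilpotent. Let G be a finite group with trivial center admitting a nilpotent minimal cover, and let P be a non-normal Sylow p-subgroup of G that is cyclic, or abelian but not elementary abelian. Then the centralizer of P is nilpotent and the normalizer of P is the unique maximal subgroup of G containing the centralizer of P. -/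
theorem result {G : Type*} [Group G] [Finite G] (hZ : Subgroup.center G = ⊥) (𝓐 : Finset (Subgroup G))
    (h𝓐 : ((∀ A ∈ 𝓐, A ≠ ⊤) ∧ (∀ g : G, ∃ A ∈ 𝓐, g ∈ A)) ∧ (∀ 𝓑 : Finset (Subgroup G), (∀ A ∈ 𝓑, A ≠ ⊤) ∧ (∀ g : G, ∃ A ∈ 𝓑, g ∈ A) → 𝓐.card ≤ 𝓑.card) ∧ (∀ A ∈ 𝓐, Group.IsNilpotent ↥A)) {p : ℕ} [Fact p.Prime] (P : Sylow p G)
    (hP : IsCyclic ↥(P : Subgroup G) ∨ (IsMulCommutative ↥(P : Subgroup G) ∧ ¬ Cfsg.IsElementaryAbelian p (P : Subgroup G)))
    (hnn : ¬ (P : Subgroup G).Normal) :
    Group.IsNilpotent ↥(Subgroup.centralizer ((P : Subgroup G) : Set G)) ∧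
      IsCoatom (Subgroup.normalizer ((P : Subgroup G) : Set G)) ∧
      ∀ M : Subgroup G, IsCoatom M → Subgroup.centralizer ((P : Subgroup G) : Set G) ≤ M →
        M = Subgroup.normalizer ((P : Subgroup G) : Set G) := by
  obtain ⟨⟨h1, h2⟩, h3, h4⟩ := h𝓐
  have hab : IsMulCommutative (P : Subgroup G) :=
    hP.elim (fun h => inferInstance) fun h => h.1
  obtain ⟨h5, h6, -⟩ := S3890.main hZ h1 h2 h3 h4 P hab hnn fun he => hP.elim (fun h => by
    have h7 := Monoid.exponent_dvd_of_forall_pow_eq_one (G := (P : Subgroup G)) (n := p)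
      fun a => Subtype.ext (he.1.2 a a.2)
    rw [IsCyclic.exponent_eq_card] at h7
    exact he.2.not_ge (Nat.le_of_dvd (Fact.out : p.Prime).pos h7)) fun h => h.2 he.1
  have h7 : Subgroup.normalizer ((P : Subgroup G) : Set G) ≠ ⊤ :=
    fun h => hnn (Subgroup.normalizer_eq_top_iff.1 h)
  refine ⟨h4 _ h5, ⟨h7, fun M hM => ?_⟩, fun M hM hPM => ?_⟩
  · by_contra h
    exact hM.not_ge (h6 M h ((Subgroup.centralizer_le_normalizer _).trans hM.le))
  · exact (hM.le_iff_eq h7).1 (h6 M hM.1 hPM) |>.symm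

end Cfsg.Agent.S3891
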