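import Cfsg.Statements.S3892
import Mathlib
import Cfsg.Agent.Lib.Perm.Cover

set_option autoImplicit false
open Cfsg

namespace Cfsg.Agent.S3892

open Equiv Equiv.Perm

theorem exists_len {α : Type*} [Fintype α] [DecidableEq α] (g : Perm α) {y : α} (hy : g y ≠ y) :
    ∃ l ∈ g.cycleType, ∀ k : ℕ, (g ^ k) y = y → l ∣ k := by
  have hc := isCycle_cycleOf g hy
  refine ⟨(g.cycleOf y).support.card, ?_, fun k hk => ?_⟩
  · rw [cycleType_def]
    exact Multiset.mem_map.2 ⟨_, cycleOf_mem_cycleFactorsFinset_iff.2 (mem_support.2 hy), rfl⟩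
  · rw [← hc.orderOf, orderOf_dvd_iff_pow_eq_one,
      hc.pow_eq_one_iff' (x := y) (by rwa [cycleOf_apply_self]), cycleOf_pow_apply_self, hk]

theorem exists_pt {α : Type*} [Fintype α] [DecidableEq α] (g : Perm α) {l : ℕ}
    (hl : l ∈ g.cycleType) : ∃ y, ∀ k : ℕ, (g ^ k) y = y → l ∣ k := by
  rw [cycleType_def] at hl
  obtain ⟨c, hc, rfl⟩ := Multiset.mem_map.1 hl
  have hc' := mem_cycleFactorsFinset_iff.1 hc
  obtain ⟨y, hy, -⟩ := id hc'.1
  have h1 : c = g.cycleOf y := cycle_is_cycleOf (mem_support.2 hy) hc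
  refine ⟨y, fun k hk => ?_⟩
  rw [Function.comp_apply, ← hc'.1.orderOf, orderOf_dvd_iff_pow_eq_one,
      hc'.1.pow_eq_one_iff' hy, h1, cycleOf_pow_apply_self, hk]

theorem key {G α : Type*} [Group G] [Finite G] [Fintype α] [DecidableEq α] (φ : G →* Perm α)
    (hφ : Function.Injective φ) (hn : ∀ (g : G) (s : Perm α), ∃ h, φ h = s * φ g * s⁻¹)
    (u : G) {p : ℕ} (hp : p.Prime) (hpn : ¬ p ∣ Fintype.card α)
    (hs : (φ u).cycleType.sum + 1 = Fintype.card α) (hd : ∀ l ∈ (φ u).cycleType, p ∣ l)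
    (h4 : ∃ l ∈ (φ u).cycleType, 4 ≤ l) :
    ¬ ∃ 𝓐 : Finset (Subgroup G), ((∀ A ∈ 𝓐, A ≠ ⊤) ∧ (∀ g : G, ∃ A ∈ 𝓐, g ∈ A)) ∧
      (∀ 𝓑 : Finset (Subgroup G), (∀ A ∈ 𝓑, A ≠ ⊤) ∧ (∀ g : G, ∃ A ∈ 𝓑, g ∈ A) →
        𝓐.card ≤ 𝓑.card) ∧ (∀ A ∈ 𝓐, Group.IsNilpotent ↥A) := by
  have : Fact p.Prime := ⟨hp⟩
  let _ : MulAction G α := MulAction.compHom α φ
  have hsm : ∀ (g : G) (y : α), g • y = φ g y := fun _ _ => rfl
  -- the unique fixed point
  rw [sum_cycleType] at hs
  obtain ⟨x, hx⟩ : ∃ x, (φ u).supportᶜ = {x} := by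
    rw [← Finset.card_eq_one, Finset.card_compl]; omega
  have hx' : ∀ y, φ u y = y ↔ y = x := fun y => by
    rw [← notMem_support, ← Finset.mem_compl, hx, Finset.mem_singleton]
  obtain ⟨l, hl, hl4⟩ := h4
  obtain ⟨a, ha⟩ := exists_pt _ hl
  have ha' : ∀ k : ℕ, 0 < k → k < 4 → (φ u ^ k) a ≠ a := fun k h1 h2 h =>
    absurd (Nat.le_of_dvd h1 (ha k h)) (by omega)
  have h1 : φ u a ≠ a := by simpa using ha' 1 (by norm_num) (by norm_num)
  have h2 : φ u (φ u a) ≠ a := by simpa [pow_succ] using ha' 2 (by norm_num) (by norm_num)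
  have h3 : φ u (φ u (φ u a)) ≠ a := by simpa [pow_succ] using ha' 3 (by norm_num) (by norm_num)
  have hax : a ≠ x := fun h => h1 ((hx' a).2 h)
  have hbx : φ u a ≠ x := fun h => h1 ((φ u).injective ((hx' _).2 h))
  obtain ⟨j, k, hk, hjk⟩ := Nat.exists_eq_pow_mul_and_not_dvd (orderOf_pos u).ne' p hp.ne_one
  have hfix : ∀ y, (φ u ^ k) y = y → y = x := fun y hy => by
    by_contra h
    obtain ⟨l, hl, hl'⟩ := exists_len (φ u) (y := y) (fun h' => h ((hx' y).1 h'))
    exact hk ((hd l hl).trans (hl' k hy))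
  have huk : (φ u ^ k) ^ p ^ j = 1 := by
    rw [← pow_mul, mul_comm, ← hjk, ← map_pow, pow_orderOf_eq_one, map_one]
  obtain ⟨v, hv⟩ := hn u (swap a (φ u a))
  refine Perm.no_nilpotent_minimal_cover u v (MulAction.stabilizer G x) ?_ ?_ ?_ ?_
  · intro h
    obtain ⟨w, hw⟩ := hn u (swap a x)
    have h5 : w ∈ MulAction.stabilizer G x := h ▸ Subgroup.mem_top _
    rw [MulAction.mem_stabilizer_iff, hsm, hw] at h5
    simp only [swap_inv, mul_apply, swap_apply_right] at h5
    rw [swap_apply_of_ne_of_ne h1 hbx] at h5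
    exact hbx h5
  · intro N hN h
    refine Perm.le_stabilizer_of_isNilpotent (p := p) (by rwa [Nat.card_eq_fintype_card])
      (u := u ^ k) ⟨j, hφ (by rw [map_pow, map_pow, huk, map_one])⟩ ?_ hN (N.pow_mem h k)
    intro y hy
    rw [hsm, map_pow] at hy
    exact hfix y hy
  · intro N hN h
    refine Perm.le_stabilizer_of_isNilpotent (p := p) (by rwa [Nat.card_eq_fintype_card])
      (u := v ^ k) ⟨j, hφ ?_⟩ ?_ hN (N.pow_mem h k)
    · rw [map_pow, map_pow, hv, conj_pow, conj_pow, huk, map_one, mul_one, mul_inv_cancel]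
    · intro y hy
      rw [hsm, map_pow, hv, conj_pow, mul_apply, mul_apply, ← eq_inv_iff_eq] at hy
      have h5 := hfix _ hy
      rw [inv_eq_iff_eq, swap_apply_of_ne_of_ne hax.symm hbx.symm] at h5
      exact h5
  · intro N hN hu hv'
    have : Fact (Nat.Prime 3) := ⟨Nat.prime_three⟩
    obtain ⟨P, -, hP, hnorm, hmem⟩ := Perm.exists_pSubgroup_of_isNilpotent hN 3
    set b := φ u a with hb
    set c := φ u b with hc
    set d := φ u c with hd
    have hbc : b ≠ c := fun h => h1 ((φ u).injective h).symm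
    have hbd : b ≠ d := fun h => h2 ((φ u).injective h).symm
    have hcd : c ≠ d := fun h => hbc ((φ u).injective h)
    have ht : φ (v * u⁻¹) = swap a b * swap b c := by
      rw [map_mul, map_inv, hv, swap_inv, mul_assoc, mul_assoc, ← mul_assoc (φ u),
        ← swap_apply_apply]
    have ht3 : (swap a b * swap b c) ^ 3 = 1 := by
      have := (isThreeCycle_swap_mul_swap_same h1 hbc (Ne.symm h2)).orderOf
      rw [swap_comm a b, ← this, pow_orderOf_eq_one]
    have h5 : v * u⁻¹ ∈ P := hmem _ (N.mul_mem hv' (N.inv_mem hu))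
      ⟨1, hφ (by rw [map_pow, ht, pow_one, ht3, map_one])⟩
    have h6 := hnorm u hu _ h5
    have h7 : φ (u * (v * u⁻¹) * u⁻¹) = swap b c * swap c d := by
      have e1 : swap b c = φ u * swap a b * (φ u)⁻¹ := swap_apply_apply _ _ _
      have e2 : swap c d = φ u * swap b c * (φ u)⁻¹ := swap_apply_apply _ _ _
      rw [map_mul, map_mul, ht, map_inv, e2]
      nth_rewrite 2 [e1]
      group
    have h8 : φ (v * u⁻¹ * (u * (v * u⁻¹) * u⁻¹)) = swap a b * swap c d := by
      rw [map_mul, ht, h7, mul_assoc, swap_mul_self_mul]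
    have h9 : (swap a b * swap c d) ^ 2 = 1 := by
      have : Commute (swap a b) (swap c d) := by
        apply Disjoint.commute
        apply disjoint_swap_swap
        simp [h1.symm, h2.symm, h3.symm, hbc, hbd, hcd]
      rw [this.mul_pow, sq, sq, swap_mul_self, swap_mul_self, one_mul]
    obtain ⟨e, he⟩ := hP ⟨_, P.mul_mem h5 h6⟩
    have h10 : (swap a b * swap c d) ^ 3 ^ e = 1 := by
      rw [← h8, ← map_pow, ← map_one φ]
      exact congrArg (fun z : P => φ z) he
    have h11 := Nat.dvd_gcd (orderOf_dvd_of_pow_eq_one h9) (orderOf_dvd_of_pow_eq_one h10)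
    rw [Nat.Coprime.pow_right e (by norm_num : Nat.Coprime 2 3), Nat.dvd_one, orderOf_eq_one_iff] at h11
    have h12 := congrArg (fun z : Perm α => z a) h11
    simp only [mul_apply, one_apply] at h12
    rw [swap_apply_of_ne_of_ne h2.symm h3.symm, swap_apply_left] at h12
    exact h1 h12



/-- A cover of a group is a finite set of proper subgroups whose union is the whole group; it is minimal when no cover has fewer members, and nilpotent when all its members are nilpotent. The alternating groups of degree at least 5 and the symmetric groups of degree at least 4 have no nilpotent minimal cover. -/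
theorem result (n : ℕ) :
    (5 ≤ n → ¬ ∃ 𝓐 : Finset (Subgroup ↥(alternatingGroup (Fin n))), ((∀ A ∈ 𝓐, A ≠ ⊤) ∧ (∀ g : ↥(alternatingGroup (Fin n)), ∃ A ∈ 𝓐, g ∈ A)) ∧ (∀ 𝓑 : Finset (Subgroup ↥(alternatingGroup (Fin n))), (∀ A ∈ 𝓑, A ≠ ⊤) ∧ (∀ g : ↥(alternatingGroup (Fin n)), ∃ A ∈ 𝓑, g ∈ A) → 𝓐.card ≤ 𝓑.card) ∧ (∀ A ∈ 𝓐, Group.IsNilpotent ↥A)) ∧
    (4 ≤ n → ¬ ∃ 𝓐 : Finset (Subgroup (Equiv.Perm (Fin n))), ((∀ A ∈ 𝓐, A ≠ ⊤) ∧ (∀ g : (Equiv.Perm (Fin n)), ∃ A ∈ 𝓐, g ∈ A)) ∧ (∀ 𝓑 : Finset (Subgroup (Equiv.Perm (Fin n))), (∀ A ∈ 𝓑, A ≠ ⊤) ∧ (∀ g : (Equiv.Perm (Fin n)), ∃ A ∈ 𝓑, g ∈ A) → 𝓐.card ≤ 𝓑.card) ∧ (∀ A ∈ 𝓐, Group.IsNilpotent ↥A)) := by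
  have hcyc : ∀ m : Multiset ℕ, m.sum + 1 = n → (∀ a ∈ m, 2 ≤ a) →
      ∃ g : Perm (Fin n), g.cycleType = m := fun m h1 h2 =>
    (exists_with_cycleType_iff (Fin n)).2 ⟨by rw [Fintype.card_fin]; omega, h2⟩
  have : Fact (Nat.Prime 3) := ⟨Nat.prime_three⟩
  constructor
  · intro hn
    have hnorm : ∀ (g : alternatingGroup (Fin n)) (s : Perm (Fin n)),
        ∃ h, (alternatingGroup (Fin n)).subtype h = s * (alternatingGroup (Fin n)).subtype g * s⁻¹ :=
      fun g s => ⟨⟨_, alternatingGroup.normal.conj_mem _ g.2 s⟩, rfl⟩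
    rcases hn.eq_or_lt with rfl | hn
    · refine Perm.no_nilpotent_minimal_cover_of_prime (p := 3) ?_
        ⟨swap 0 1 * swap 0 2, by simp⟩ ⟨swap 0 1 * swap 0 3, by simp⟩ ?_ ?_ ?_
        (MulAction.stabilizer _ (4 : Fin 5)) ?_ ?_ ?_
      · rw [Nat.card_eq_fintype_card, card_alternatingGroup]; decide
      · rw [← Subgroup.orderOf_coe]
        exact (isThreeCycle_swap_mul_swap_same (by decide) (by decide) (by decide)).orderOf
      · rw [← Subgroup.orderOf_coe]
        exact (isThreeCycle_swap_mul_swap_same (by decide) (by decide) (by decide)).orderOf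
      · decide
      · intro h
        have : (⟨swap 0 1 * swap 0 4, by simp⟩ : alternatingGroup (Fin 5)) ∈
          MulAction.stabilizer _ (4 : Fin 5) := h ▸ Subgroup.mem_top _
        revert this
        decide
      · rintro ⟨g, hg⟩ h
        have h1 := congrArg Subtype.val (Subgroup.mem_centralizer_singleton_iff.1 h)
        exact (by decide +kernel : ∀ g : Perm (Fin 5), g * (swap 0 1 * swap 0 2) =
          (swap 0 1 * swap 0 2) * g → sign g = 1 → g 4 = 4) g h1 (mem_alternatingGroup.1 hg)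
      · rintro ⟨g, hg⟩ h
        have h1 := congrArg Subtype.val (Subgroup.mem_centralizer_singleton_iff.1 h)
        exact (by decide +kernel : ∀ g : Perm (Fin 5), g * (swap 0 1 * swap 0 3) =
          (swap 0 1 * swap 0 3) * g → sign g = 1 → g 4 = 4) g h1 (mem_alternatingGroup.1 hg)
    rcases Nat.even_or_odd' n with ⟨k, rfl | rfl⟩
    · obtain ⟨g, hg⟩ := hcyc {2 * k - 1} (by simp; omega) (by simp; omega)
      obtain ⟨p, hp, hpd⟩ := Nat.exists_prime_and_dvd (n := 2 * k - 1) (by omega)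
      refine key _ Subtype.val_injective hnorm ⟨g, ?_⟩ hp ?_ ?_ ?_ ?_
      · rw [mem_alternatingGroup, sign_of_cycleType, hg]
        apply Even.neg_one_pow
        simp only [Multiset.sum_singleton, Multiset.card_singleton]
        exact ⟨k, by omega⟩
      · rw [Fintype.card_fin]
        intro h
        have := Nat.dvd_sub h hpd
        rw [show 2 * k - (2 * k - 1) = 1 by omega, Nat.dvd_one] at this
        exact hp.one_lt.ne' this
      · simp [hg]; omega
      · simpa [hg]
      · simp [hg]; omega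
    · obtain ⟨g, hg⟩ := hcyc {2, 2 * k - 2} (by simp; omega) (by simp; omega)
      refine key _ Subtype.val_injective hnorm ⟨g, ?_⟩ Nat.prime_two ?_ ?_ ?_ ?_
      · rw [mem_alternatingGroup, sign_of_cycleType, hg]
        apply Even.neg_one_pow
        simp only [Multiset.insert_eq_cons, Multiset.sum_cons, Multiset.card_cons,
          Multiset.sum_singleton, Multiset.card_singleton]
        exact ⟨k + 1, by omega⟩
      · rw [Fintype.card_fin]
        omega
      · simp [hg]; omega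
      · simp [hg]
      · simp [hg]; omega
  · intro hn
    rcases hn.eq_or_lt with rfl | hn
    · refine Perm.no_nilpotent_minimal_cover_of_prime (p := 3) ?_
        (swap 0 1 * swap 0 2) (swap 0 1 * swap 0 3) ?_ ?_ ?_
        (alternatingGroup _) ?_ ?_ ?_
      · rw [Nat.card_eq_fintype_card, Fintype.card_perm]; decide
      · exact (isThreeCycle_swap_mul_swap_same (by decide) (by decide) (by decide)).orderOf
      · exact (isThreeCycle_swap_mul_swap_same (by decide) (by decide) (by decide)).orderOf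
      · decide
      · intro h
        have : swap 0 1 ∈ alternatingGroup (Fin 4) := h ▸ Subgroup.mem_top _
        simp at this
      · rintro g h
        have h1 := Subgroup.mem_centralizer_singleton_iff.1 h
        rw [mem_alternatingGroup]
        clear h
        revert g
        decide +kernel
      · rintro g h
        have h1 := Subgroup.mem_centralizer_singleton_iff.1 h
        rw [mem_alternatingGroup]
        clear h
        revert g
        decide +kernel
    · obtain ⟨g, hg⟩ := hcyc {n - 1} (by simp; omega) (by simp; omega)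
      obtain ⟨p, hp, hpd⟩ := Nat.exists_prime_and_dvd (n := n - 1) (by omega)
      refine key (MonoidHom.id _) Function.injective_id (fun g s => ⟨_, rfl⟩) g hp ?_ ?_ ?_ ?_
      · rw [Fintype.card_fin]
        intro h
        have := Nat.dvd_sub h hpd
        rw [show n - (n - 1) = 1 by omega, Nat.dvd_one] at this
        exact hp.one_lt.ne' this
      · simp [hg]; omega
      · simpa [hg]
      · simp [hg]; omega

end Cfsg.Agent.S3892
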