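import Cfsg.Statements.S3893
import Mathlib
import Cfsg.Agent.Lib.Perm.Cover
import Cfsg.Agent.Lib.Lin.Proj

set_option autoImplicit false
open Cfsg

namespace Cfsg.Agent.S3893

theorem inj4 {α : Type*} {a b c d : α} (h1 : a ≠ b) (h2 : a ≠ c) (h3 : a ≠ d) (h4 : b ≠ c)
    (h5 : b ≠ d) (h6 : c ≠ d) : Function.Injective ![a, b, c, d] := by
  intro i j hij
  fin_cases i <;> fin_cases j <;> simp_all [eq_comm]

/-- A cover of a group is a finite set of proper subgroups whose union is the whole group; it is minimal when no cover has fewer members, and nilpotent when all its members are nilpotent. The Suzuki groups Sz(q), q = 2^(2m+1) with m ≥ 1, have no nilpotent minimal cover. -/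
theorem result {F : Type*} [Field F] [Fintype F] (m : ℕ) (hm : 1 ≤ m) (hF : Fintype.card F = 2 ^ (2 * m + 1)) :
    ¬ ∃ 𝓐 : Finset (Subgroup ↥(Cfsg.Lie.Sz F (2 ^ (m + 1)))), ((∀ A ∈ 𝓐, A ≠ ⊤) ∧ (∀ g : ↥(Cfsg.Lie.Sz F (2 ^ (m + 1))), ∃ A ∈ 𝓐, g ∈ A)) ∧ (∀ 𝓑 : Finset (Subgroup ↥(Cfsg.Lie.Sz F (2 ^ (m + 1)))), (∀ A ∈ 𝓑, A ≠ ⊤) ∧ (∀ g : ↥(Cfsg.Lie.Sz F (2 ^ (m + 1))), ∃ A ∈ 𝓑, g ∈ A) → 𝓐.card ≤ 𝓑.card) ∧ (∀ A ∈ 𝓐, Group.IsNilpotent ↥A) := by
  classical
  obtain ⟨p, hchar, n, hp, hn⟩ := FiniteField.card' F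
  have hp2 : p = 2 := by
    have h1 : p ∣ 2 ^ (2 * m + 1) := by rw [← hF, hn]; exact dvd_pow_self p n.ne_zero
    exact (Nat.prime_dvd_prime_iff_eq hp Nat.prime_two).1 (hp.dvd_of_dvd_pow h1)
  subst hp2
  set e := 2 ^ (m + 1) with he
  have he0 : e ≠ 0 := by positivity
  have hq8 : 8 ≤ Fintype.card F := by
    rw [hF]
    calc 8 = 2 ^ 3 := by norm_num
      _ ≤ _ := Nat.pow_le_pow_right (by norm_num) (by omega)
  obtain ⟨r, hr, hrd⟩ := Nat.exists_prime_and_dvd (n := Fintype.card F - 1) (by omega)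
  have : Fact r.Prime := ⟨hr⟩
  have hr5 : 4 < r := by
    have h2 : r ≠ 2 := by
      rintro rfl
      have : 2 ∣ Fintype.card F := by rw [hF]; exact dvd_pow_self 2 (by omega)
      omega
    have h3 : r ≠ 3 := by
      rintro rfl
      have : Fintype.card F % 3 = 2 := by
        rw [hF, pow_succ, pow_mul, Nat.mul_mod, Nat.pow_mod]; simp
      omega
    have h4 : r ≠ 4 := by rintro rfl; exact absurd hr (by norm_num)
    have := hr.two_le
    omega
  obtain ⟨κ, hκ⟩ := exists_prime_orderOf_dvd_card (G := Fˣ) r (by rwa [Fintype.card_units])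
  set k : F := κ.val with hk
  have hk0 : k ≠ 0 := κ.ne_zero
  have hkr : k ^ r = 1 := by
    rw [hk, ← Units.val_pow_eq_pow_val, ← hκ, pow_orderOf_eq_one, Units.val_one]
  have hk1 : k ≠ 1 := by
    intro h
    have : κ = 1 := Units.ext h
    rw [this, orderOf_one] at hκ
    omega
  have hθ : ∀ x : F, (x ^ e) ^ e = x ^ 2 := by
    intro x
    rw [← pow_mul, he, ← pow_add, show m + 1 + (m + 1) = 2 * m + 1 + 1 by ring, pow_succ, ← hF,
      pow_mul, FiniteField.pow_card]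
  have hsq : ∀ x : F, x ^ 2 = 1 → x = 1 := by
    intro x hx
    rcases mul_self_eq_one_iff.1 (sq x ▸ hx) with h | h
    · exact h
    · rw [h, CharTwo.neg_eq]
  have h1 : k ^ e ≠ 1 := fun h => hk1 (hsq k (by rw [← hθ, h, one_pow]))
  have h2 : k ^ e ≠ k := fun h => hk1 (by
    have := hθ k
    rw [h, h, sq] at this
    exact (mul_left_cancel₀ hk0 (by rw [← this, mul_one])).symm)
  have h3 : k ^ e ≠ k ^ 2 := fun h => h2 (by
    have h4 := hθ k
    rw [h, ← pow_mul, mul_comm, pow_mul] at h4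
    have h5 : (k ^ e / k) ^ 2 = 1 := by rw [div_pow, h4, div_self (pow_ne_zero _ hk0)]
    have := hsq _ h5
    rwa [div_eq_one_iff_eq hk0] at this)
  have hke : k ^ e ≠ 0 := pow_ne_zero _ hk0
  let d : Fin 4 → F := ![k, k ^ e / k, k / k ^ e, 1 / k]
  have hd0 : ∀ i, d i ≠ 0 := by
    intro i; fin_cases i <;> simp [d, hk0, hke]
  have hd : Function.Injective d := by
    have a01 : k ≠ k ^ e / k := fun h => h3 (by rw [eq_div_iff hk0] at h; rw [← h, sq])
    have a02 : k ≠ k / k ^ e := fun h => h1 (by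
      rw [eq_div_iff hke] at h; exact mul_left_cancel₀ hk0 (by rw [h, mul_one]))
    have a03 : k ≠ 1 / k := fun h => hk1 (hsq k (by rw [eq_div_iff hk0] at h; rw [← h, sq]))
    have a12 : k ^ e / k ≠ k / k ^ e := fun h => h2 (by
      have h5 : (k ^ e / k) ^ 2 = 1 := by
        rw [sq]; nth_rewrite 2 [h]; field_simp
      have := hsq _ h5
      rwa [div_eq_one_iff_eq hk0] at this)
    have a13 : k ^ e / k ≠ 1 / k := fun h => h1 (by rwa [div_left_inj' hk0] at h)
    have a23 : k / k ^ e ≠ 1 / k := fun h => h3 (by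
      rw [div_eq_div_iff hke hk0, one_mul] at h; rw [← h, sq])
    exact inj4 a01 a02 a03 a12 a13 a23
  have h2F : (2 : F) = 0 := CharTwo.two_eq_zero
  -- the three elements
  let t0 : GL (Fin 4) F := Matrix.GeneralLinearGroup.mkOfDetNeZero (Matrix.diagonal d) (by
    rw [Matrix.det_diagonal]; exact Finset.prod_ne_zero_iff.2 (fun i _ => hd0 i))
  have ht0 : (t0 : Matrix (Fin 4) (Fin 4) F) = Matrix.diagonal d := rfl
  let U : Matrix (Fin 4) (Fin 4) F := !![1, 0, 1, 1; 0, 1, 0, 1; 0, 0, 1, 0; 0, 0, 0, 1]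
  have hUU : U * U = 1 := by
    ext i j; fin_cases i <;> fin_cases j <;> simp [U, Matrix.mul_apply, Fin.sum_univ_four,
      CharTwo.add_self_eq_zero]
  let u0 : GL (Fin 4) F := ⟨U, U, hUU, hUU⟩
  let W : Matrix (Fin 4) (Fin 4) F := !![0, 0, 0, 1; 0, 0, 1, 0; 0, 1, 0, 0; 1, 0, 0, 0]
  have hWW : W * W = 1 := by
    ext i j; fin_cases i <;> fin_cases j <;> simp [W, Matrix.mul_apply, Fin.sum_univ_four]
  let w0 : GL (Fin 4) F := ⟨W, W, hWW, hWW⟩
  have htS : t0 ∈ Cfsg.Lie.Sz F e := by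
    refine Subgroup.subset_closure ⟨?_, ?_⟩
    · intro a b
      simp only [Units.coeHom_apply, ht0, Cfsg.Lie.altForm4, Matrix.mulVec_diagonal, d]
      simp
      field_simp
    · rw [ht0]
      ext i j
      fin_cases i <;> fin_cases j <;>
        simp [Cfsg.Lie.star4, Cfsg.Lie.pairOf, d, Matrix.diagonal, he0, div_pow, hθ] <;> field_simp
  have huS : u0 ∈ Cfsg.Lie.Sz F e := by
    refine Subgroup.subset_closure ⟨?_, ?_⟩
    · intro a b
      simp only [Units.coeHom_apply, u0, U, Cfsg.Lie.altForm4]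
      simp [Matrix.mulVec, dotProduct, Fin.sum_univ_four]
      linear_combination (a 3 * b 3 + a 2 * b 3 + a 3 * b 2) * h2F
    · ext i j
      fin_cases i <;> fin_cases j <;>
        simp [Cfsg.Lie.star4, Cfsg.Lie.pairOf, u0, U, he0, CharTwo.neg_eq]
  have hwS : w0 ∈ Cfsg.Lie.Sz F e := by
    refine Subgroup.subset_closure ⟨?_, ?_⟩
    · intro a b
      simp only [Units.coeHom_apply, w0, W, Cfsg.Lie.altForm4]
      simp [Matrix.mulVec, dotProduct, Fin.sum_univ_four]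
      ring
    · ext i j
      fin_cases i <;> fin_cases j <;>
        simp [Cfsg.Lie.star4, Cfsg.Lie.pairOf, w0, W, he0, CharTwo.neg_eq]
  let t : Cfsg.Lie.Sz F e := ⟨t0, htS⟩
  let u : Cfsg.Lie.Sz F e := ⟨u0, huS⟩
  let w : Cfsg.Lie.Sz F e := ⟨w0, hwS⟩
  have htr : t ^ r ^ 1 = 1 := by
    rw [pow_one]
    ext1
    ext1
    simp only [t, SubmonoidClass.mk_pow, Units.val_pow_eq_pow_val, ht0, Matrix.diagonal_pow,
      OneMemClass.coe_one, Units.val_one]
    rw [← Matrix.diagonal_one]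
    congr 1
    funext i
    have : (k ^ e) ^ r = 1 := by rw [← pow_mul, mul_comm, pow_mul, hkr, one_pow]
    fin_cases i <;> simp [d, div_pow, hkr, this]
  have key : ∀ N : Subgroup (Cfsg.Lie.Sz F e), Group.IsNilpotent N → t ∈ N → ∀ i : Fin 4,
      N ≤ MulAction.stabilizer _ (Lin.pt F i) := by
    intro N hN htN i
    refine Perm.le_stabilizer_of_isNilpotent' (p := r) ⟨1, htr⟩ (Finset.univ.image (Lin.pt F))
      ?_ ?_ ?_ (by simp) ?_ hN htN
    · intro x hx
      obtain ⟨j, rfl⟩ := Lin.exists_eq_pt_of_diagonal ht0 hd hx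
      simp
    · rw [Finset.card_image_of_injective _ Lin.pt_injective, Finset.card_univ]
      exact Lin.card_proj_modEq (by rwa [Nat.card_eq_fintype_card])
    · rw [Finset.card_image_of_injective _ Lin.pt_injective]
      simpa using hr5
    · intro g hg
      refine (Lin.smul_pt_eq_pt_iff (g : GL (Fin 4) F) i i).2 (fun j hj => ?_)
      refine Lin.apply_eq_zero_of_commute_diagonal (d := d) ?_ (fun h => hj (hd h))
      exact congrArg (fun x : Cfsg.Lie.Sz F e => ((x : GL (Fin 4) F) : Matrix (Fin 4) (Fin 4) F)) hg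
  have hu0 : u • Lin.pt F (0 : Fin 4) = Lin.pt F 0 := by
    refine (Lin.smul_pt_eq_pt_iff u0 0 0).2 (fun j hj => ?_)
    fin_cases j <;> simp_all [u0, U]
  refine Perm.no_nilpotent_minimal_cover t (u * t * u⁻¹)
    (MulAction.stabilizer _ (Lin.pt F (0 : Fin 4))) ?_ (fun N hN h => key N hN h 0) ?_ ?_
  · intro h
    have : w ∈ MulAction.stabilizer _ (Lin.pt F (0 : Fin 4)) := h ▸ Subgroup.mem_top _
    have := (Lin.smul_pt_eq_pt_iff w0 0 0).1 this 3 (by decide)
    simp [w0, W] at this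
  · intro N hN h n hn
    have h4 := key (N.map (MulAut.conj u⁻¹).toMonoidHom)
      (Group.nilpotent_of_mulEquiv (N.equivMapOfInjective _ (MulAut.conj u⁻¹).injective))
      ⟨_, h, by simp [mul_assoc]⟩ 0 ⟨n, hn, rfl⟩
    rw [MulAction.mem_stabilizer_iff] at h4 ⊢
    simp only [MulEquiv.toMonoidHom_eq_coe, MonoidHom.coe_coe, MulAut.conj_apply, inv_inv,
      mul_smul, hu0] at h4
    rw [inv_smul_eq_iff, hu0] at h4
    exact h4
  · intro N hN h h'
    have h4 := key N hN h 2 h'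
    have h5 := (Lin.smul_pt_eq_pt_iff (u0 * t0 * u0⁻¹) 2 2).1 h4 0 (by decide)
    have h6 : ((u0⁻¹ : GL (Fin 4) F) : Matrix (Fin 4) (Fin 4) F) = U := rfl
    rw [Units.val_mul, Units.val_mul, h6, ht0] at h5
    rw [Matrix.mul_apply] at h5
    simp only [Matrix.mul_diagonal] at h5
    simp [u0, U, Fin.sum_univ_four] at h5
    have h7 : d 0 = d 2 := by linear_combination h5 - d 2 * h2F
    exact absurd (hd h7) (by decide)

end Cfsg.Agent.S3893
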