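import Cfsg.Statements.S3894
import Mathlib
import Cfsg.Agent.Lib.Perm.Cover
import Cfsg.Agent.Lib.Lin.Proj
import Cfsg.Agent.Lib.Cls.Basic

set_option autoImplicit false
open Cfsg

namespace Cfsg.Agent.S3894

open scoped LinearAlgebra.Projectivization Matrix MatrixGroups
open Matrix.ProjGenLinGroup

theorem cover2 {G X : Type*} [Group G] [Finite G] [Finite X] [Nontrivial X] [MulAction G X]
    [MulAction.IsPretransitive G X] {p : ℕ} [Fact p.Prime] (hX : ¬ p ∣ Nat.card X) {u : G}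
    (hu : ∃ k, u ^ p ^ k = 1) {x0 : X} (hx : ∀ y, u • y = y → y = x0) (t : G)
    (h1 : ∀ N : Subgroup G, Group.IsNilpotent N → t ∈ N → ∀ g, g * u * g⁻¹ ∉ N)
    (h2 : ∀ N : Subgroup G, Group.IsNilpotent N → t ∈ N → ∀ g ∈ N, (∀ x : X, g • x ≠ x) →
      ∃ z, z ∉ N ∧ g ∈ Subgroup.zpowers z) :
    ¬ ∃ 𝓐 : Finset (Subgroup G), ((∀ A ∈ 𝓐, A ≠ ⊤) ∧ (∀ g : G, ∃ A ∈ 𝓐, g ∈ A)) ∧
      (∀ 𝓑 : Finset (Subgroup G), (∀ A ∈ 𝓑, A ≠ ⊤) ∧ (∀ g : G, ∃ A ∈ 𝓑, g ∈ A) →
        𝓐.card ≤ 𝓑.card) ∧ (∀ A ∈ 𝓐, Group.IsNilpotent ↥A) := by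
  classical
  have := Fintype.ofFinite X
  rintro ⟨𝓐, ⟨ha1, ha2⟩, ha3, ha4⟩
  choose s hs using fun x : X => MulAction.exists_smul_eq G x0 x
  choose A hA hA' using fun x : X => ha2 (s x * u * (s x)⁻¹)
  have hfix : ∀ x y, (s x * u * (s x)⁻¹) • y = y → y = x := fun x y h => by
    rw [mul_smul, mul_smul, ← eq_inv_smul_iff] at h
    rw [← hs x, ← hx _ h, smul_inv_smul]
  have hle : ∀ x, A x ≤ MulAction.stabilizer G x := fun x => by
    obtain ⟨k, hk⟩ := hu
    exact Perm.le_stabilizer_of_isNilpotent hX ⟨k, by rw [conj_pow, hk, mul_one, mul_inv_cancel]⟩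
      (hfix x) (ha4 _ (hA x)) (hA' x)
  have hinj : Function.Injective A := fun x y h =>
    (hfix x y (hle y (h ▸ hA' x))).symm
  obtain ⟨T, hT, htT⟩ := ha2 t
  have hT' : T ∉ Finset.univ.image A := fun h => by
    obtain ⟨x, -, rfl⟩ := Finset.mem_image.1 h
    exact h1 _ (ha4 _ hT) htT _ (hA' x)
  have hsub : Finset.univ.image A ⊆ 𝓐 := fun B hB => by
    obtain ⟨x, -, rfl⟩ := Finset.mem_image.1 hB
    exact hA x
  have h5 := ha3 (Finset.univ.image (fun x : X => MulAction.stabilizer G x) ∪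
    (𝓐 \ Finset.univ.image A).erase T) ⟨?_, ?_⟩
  · have h6 := Finset.card_union_le (Finset.univ.image (fun x : X => MulAction.stabilizer G x))
      ((𝓐 \ Finset.univ.image A).erase T)
    have h7 := Finset.card_image_le (s := Finset.univ) (f := fun x : X => MulAction.stabilizer G x)
    have h8 : T ∈ 𝓐 \ Finset.univ.image A := Finset.mem_sdiff.2 ⟨hT, hT'⟩
    have h9 := Finset.card_pos.2 ⟨_, h8⟩
    have h10 := Finset.card_le_card hsub
    rw [Finset.card_erase_of_mem h8] at h6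
    rw [Finset.card_sdiff_of_subset hsub] at h6 h9
    rw [Finset.card_image_of_injective _ hinj] at h6 h9 h10
    omega
  · intro C hC
    rcases Finset.mem_union.1 hC with hC | hC
    · obtain ⟨x, -, rfl⟩ := Finset.mem_image.1 hC
      intro h
      obtain ⟨y, hy⟩ := exists_ne x
      obtain ⟨g, hg⟩ := MulAction.exists_smul_eq G x y
      have : g ∈ MulAction.stabilizer G x := h ▸ Subgroup.mem_top _
      exact hy (hg.symm.trans this)
    · exact ha1 C (Finset.mem_sdiff.1 (Finset.mem_of_mem_erase hC)).1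
  · intro g
    by_cases hg : ∃ x : X, g • x = x
    · obtain ⟨x, hx⟩ := hg
      exact ⟨_, Finset.mem_union_left _ (Finset.mem_image.2 ⟨x, Finset.mem_univ _, rfl⟩), hx⟩
    push Not at hg
    obtain ⟨C, hC, hgC, hCT⟩ : ∃ C ∈ 𝓐, g ∈ C ∧ C ≠ T := by
      obtain ⟨C, hC, hgC⟩ := ha2 g
      by_cases hCT : C = T
      · subst hCT
        obtain ⟨z, hz, hgz⟩ := h2 C (ha4 _ hC) htT g hgC hg
        obtain ⟨D, hD, hzD⟩ := ha2 z
        exact ⟨D, hD, Subgroup.zpowers_le.2 hzD hgz, fun h => hz (h ▸ hzD)⟩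
      · exact ⟨C, hC, hgC, hCT⟩
    refine ⟨C, Finset.mem_union_right _ (Finset.mem_erase.2 ⟨hCT, Finset.mem_sdiff.2 ⟨hC, ?_⟩⟩), hgC⟩
    intro h
    obtain ⟨x, -, rfl⟩ := Finset.mem_image.1 h
    exact hg x (hle x hgC)

section
variable {F : Type*} [Field F] {ι : Type*} [Fintype ι] [DecidableEq ι]

theorem mk_smul' (g : GL ι F) (x : ℙ F (ι → F)) : mk g • x = g • x := rfl

theorem exists_unip [Nonempty ι] {p : ℕ} [Fact p.Prime] [CharP F p] {J : Matrix ι ι F}
    (hJ : IsNilpotent J) : ∃ u : GL ι F, (u : Matrix ι ι F) = 1 + J ∧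
      (u : Matrix ι ι F).det = 1 ∧ ∃ k, u ^ p ^ k = 1 := by
  have hp : p.Prime := Fact.out
  obtain ⟨u, hu⟩ := hJ.isUnit_one_add
  obtain ⟨m, hm⟩ := hJ
  have h1 : u ^ p ^ m = 1 := by
    ext1
    rw [Units.val_pow_eq_pow_val, hu, add_pow_char_pow_of_commute _ _ (Commute.one_left _),
      one_pow, pow_eq_zero_of_le (Nat.lt_pow_self hp.one_lt).le hm, add_zero, Units.val_one]
  refine ⟨u, hu, ?_, m, h1⟩
  have h2 : ((u : Matrix ι ι F).det - 1) ^ p ^ m = 0 := by
    rw [sub_pow_char_pow, ← Matrix.det_pow, ← Units.val_pow_eq_pow_val, h1]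
    simp
  exact sub_eq_zero.1 (pow_eq_zero_iff (pow_pos hp.pos m).ne' |>.1 h2)

theorem fix_unip {J : Matrix ι ι F} (hJ : IsNilpotent J) {u : GL ι F}
    (hu : (u : Matrix ι ι F) = 1 + J) {i : ι} (hi : ∀ v, J *ᵥ v = 0 → ∀ j, j ≠ i → v j = 0)
    (y : ℙ F (ι → F)) (hy : u • y = y) : y = Lin.pt F i := by
  induction y using Projectivization.ind with
  | _ v hv =>
  rw [Lin.smul_mk_eq_mk_iff, hu] at hy
  obtain ⟨c, hc⟩ := hy
  have h1 : J *ᵥ v = (c - 1) • v := by
    rw [sub_smul, ← hc, Matrix.add_mulVec, Matrix.one_mulVec, one_smul]; abel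
  have h2 : ∀ k : ℕ, (J ^ k) *ᵥ v = (c - 1) ^ k • v := by
    intro k
    induction k with
    | zero => simp
    | succ k ih => rw [pow_succ, ← Matrix.mulVec_mulVec, h1, Matrix.mulVec_smul, ih, smul_smul,
        ← pow_succ']
  obtain ⟨m, hm⟩ := hJ
  have h3 := h2 m
  rw [hm, Matrix.zero_mulVec, eq_comm, smul_eq_zero] at h3
  have h4 : c - 1 = 0 := pow_eq_zero_iff' |>.1 (h3.resolve_right hv) |>.1
  rw [h4, zero_smul] at h1
  rw [Lin.pt, Projectivization.mk_eq_mk_iff']
  refine ⟨v i, ?_⟩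
  funext j
  by_cases hj : j = i
  · subst hj; simp
  · simp [hj, hi v h1 j hj]

theorem trans (G : Subgroup PGL(ι, F))
    (hG : ∀ g : GL ι F, (g : Matrix ι ι F).det = 1 → mk g ∈ G) :
    MulAction.IsPretransitive G (ℙ F (ι → F)) := by
  constructor
  intro x y
  obtain ⟨g, hg⟩ := MulAction.exists_smul_eq (Matrix.SpecialLinearGroup ι F) x y
  refine ⟨⟨mk (Matrix.SpecialLinearGroup.toGL g), hG _ g.2⟩, ?_⟩
  rw [← hg]
  induction x using Projectivization.ind with
  | _ v hv => rfl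

end

/-- The shift matrix. -/
def J (F : Type*) [Field F] (n : ℕ) : Matrix (Fin n) (Fin n) F :=
  Matrix.of fun i j => if (i : ℕ) + 1 = j then 1 else 0

theorem J_nil (F : Type*) [Field F] (n : ℕ) : IsNilpotent (J F n) := by
  have : ∀ k : ℕ, ∀ i j : Fin n, (j : ℕ) < i + k → (J F n ^ k) i j = 0 := by
    intro k
    induction k with
    | zero =>
      intro i j h
      rw [pow_zero, Matrix.one_apply_ne]
      rintro rfl; omega
    | succ k ih =>
      intro i j h
      rw [pow_succ, Matrix.mul_apply]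
      refine Finset.sum_eq_zero fun l _ => ?_
      by_cases hl : (l : ℕ) + 1 = j
      · rw [ih i l (by omega), zero_mul]
      · simp [J, hl]
  refine ⟨n, ?_⟩
  ext i j
  exact this n i j (by omega)

theorem J_ker (F : Type*) [Field F] (n : ℕ) (v : Fin (n + 1) → F) (hv : J F (n + 1) *ᵥ v = 0)
    (j : Fin (n + 1)) (hj : j ≠ 0) : v j = 0 := by
  obtain ⟨i, rfl⟩ := Fin.exists_succ_eq.2 hj
  have := congrFun hv i.castSucc
  rw [Matrix.mulVec, dotProduct, Finset.sum_eq_single i.succ] at this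
  · simpa [J] using this
  · intro b _ hb
    have : ¬ ((i : ℕ) + 1 = b) := fun h => hb (Fin.ext (by simpa using h.symm))
    simp [J, this]
  · simp

theorem case3 {F : Type*} [Field F] [Finite F] (n : ℕ) (G : Subgroup PGL(Fin (n + 3), F))
    (hG : ∀ g : GL (Fin (n + 3)) F, g.val.det = 1 → mk g ∈ G) :
    ¬ ∃ 𝓐 : Finset (Subgroup G), ((∀ A ∈ 𝓐, A ≠ ⊤) ∧ (∀ g : G, ∃ A ∈ 𝓐, g ∈ A)) ∧
      (∀ 𝓑 : Finset (Subgroup G), (∀ A ∈ 𝓑, A ≠ ⊤) ∧ (∀ g : G, ∃ A ∈ 𝓑, g ∈ A) →
        𝓐.card ≤ 𝓑.card) ∧ (∀ A ∈ 𝓐, Group.IsNilpotent ↥A) := by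
  classical
  have := Fintype.ofFinite F
  obtain ⟨p, hchar, -, hp, -⟩ := FiniteField.card' F
  have : Fact p.Prime := ⟨hp⟩
  have : Finite PGL(Fin (n + 3), F) := Finite.of_surjective _ mk_surjective
  have := trans G hG
  set σ : Equiv.Perm (Fin (n + 3)) := Equiv.swap 1 2 with hσ
  have hσ0 : σ 0 = 0 := Equiv.swap_apply_of_ne_of_ne (by simp) (by
    intro h; have := congrArg Fin.val h; rw [Fin.val_zero, Fin.val_two] at this; omega)
  set J1 := J F (n + 3) with hJ1
  set J2 := J1.submatrix σ σ with hJ2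
  have hn1 : IsNilpotent J1 := J_nil _ _
  have hn2 : IsNilpotent J2 := hn1.map (Matrix.reindexAlgEquiv F F σ.symm)
  obtain ⟨u, hu, hud, k, hk⟩ := exists_unip (p := p) hn1
  obtain ⟨v, hv, hvd, l, hl⟩ := exists_unip (p := p) hn2
  have hu1 : ∃ k, (⟨mk u, hG u hud⟩ : G) ^ p ^ k = 1 :=
    ⟨k, Subtype.ext (by simp only [SubmonoidClass.mk_pow, ← map_pow, hk, map_one]; rfl)⟩
  have hv1 : ∃ k, (⟨mk v, hG v hvd⟩ : G) ^ p ^ k = 1 :=
    ⟨l, Subtype.ext (by simp only [SubmonoidClass.mk_pow, ← map_pow, hl, map_one]; rfl)⟩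
  refine Perm.no_nilpotent_minimal_cover ⟨mk u, hG u hud⟩ ⟨mk v, hG v hvd⟩
    (MulAction.stabilizer _ (Lin.pt F (0 : Fin (n + 3)))) ?_ ?_ ?_ ?_
  · intro h
    obtain ⟨g, hg⟩ := MulAction.exists_smul_eq G (Lin.pt F (0 : Fin (n + 3))) (Lin.pt F 1)
    have : g ∈ MulAction.stabilizer G (Lin.pt F (0 : Fin (n + 3))) := h ▸ Subgroup.mem_top _
    exact absurd (Lin.pt_injective (hg.symm.trans this)) (by simp)
  · intro N hN h
    exact Perm.le_stabilizer_of_isNilpotent (Lin.not_dvd_card_proj hp) hu1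
      (fix_unip hn1 hu (J_ker F _)) hN h
  · intro N hN h
    refine Perm.le_stabilizer_of_isNilpotent (Lin.not_dvd_card_proj hp) hv1
      (fix_unip hn2 hv ?_) hN h
    intro w hw j hj
    rw [hJ2, Matrix.submatrix_mulVec_equiv] at hw
    have h1 : J1 *ᵥ (w ∘ σ.symm) = 0 := by
      funext i
      simpa using congrFun hw (σ.symm i)
    have := J_ker F _ _ h1 (σ j) (fun h => hj (σ.injective (h.trans hσ0.symm)))
    simpa using this
  · intro N hN h1 h2
    obtain ⟨P, -, hP, -, hmem⟩ := Perm.exists_pSubgroup_of_isNilpotent hN p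
    obtain ⟨e, he⟩ := hP ⟨_, P.mul_mem (hmem _ h1 hu1) (hmem _ h2 hv1)⟩
    have h3 : mk ((u * v) ^ p ^ e) = 1 := by
      rw [map_pow, map_mul]
      exact congrArg (fun z : P => ((z : G) : PGL(Fin (n + 3), F))) he
    rw [mk_eq_one, Matrix.GeneralLinearGroup.mem_center_iff_val_mem_range_scalar] at h3
    obtain ⟨c, hc⟩ := h3
    rw [Units.val_pow_eq_pow_val, Units.val_mul, hu, hv] at hc
    set e0 : Fin (n + 3) → F := Pi.single 0 1 with he0
    have h4 : J1 *ᵥ e0 = 0 := by
      funext i; simp [he0, hJ1, J]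
    have h5 : J2 *ᵥ e0 = 0 := by
      funext i; simp [he0, hJ2, hσ0, hJ1, J]
    have h6 : ∀ k : ℕ, (((1 + J1) * (1 + J2)) ^ k) *ᵥ e0 = e0 := by
      intro k
      induction k with
      | zero => simp
      | succ k ih =>
        rw [pow_succ, ← Matrix.mulVec_mulVec, ← Matrix.mulVec_mulVec, Matrix.add_mulVec 1 J2, h5,
          add_zero, Matrix.one_mulVec, Matrix.add_mulVec, h4, add_zero, Matrix.one_mulVec, ih]
    have h7 : c = 1 := by
      have := congrFun (h6 (p ^ e)) 0
      rw [← hc] at this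
      simpa [he0] using this
    have h8 : IsNilpotent ((1 + J1) * (1 + J2) - 1) := ⟨p ^ e, by
      rw [sub_pow_char_pow_of_commute _ _ (Commute.one_right _), ← hc, h7]; simp⟩
    have h9 := (Matrix.isNilpotent_trace_of_isNilpotent h8).eq_zero
    have h10 := (Matrix.isNilpotent_trace_of_isNilpotent hn1).eq_zero
    have h11 := (Matrix.isNilpotent_trace_of_isNilpotent hn2).eq_zero
    rw [show (1 + J1) * (1 + J2) - 1 = J1 + J2 + J1 * J2 by noncomm_ring, Matrix.trace_add,
      Matrix.trace_add, h10, h11, zero_add, zero_add] at h9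
    have h12 : ∀ i j : Fin (n + 3), J1 i j * J2 j i = if i = 1 ∧ j = 2 then 1 else 0 := by
      intro i j
      have hs : ∀ i : Fin (n + 3), (σ i).val =
          if i.val = 1 then 2 else if i.val = 2 then 1 else i.val := by
        intro i
        simp only [hσ, Equiv.swap_apply_def, Fin.ext_iff, Fin.val_one, Fin.val_two]
        split_ifs <;> simp only [Fin.val_one, Fin.val_two]
      simp only [hJ2, hJ1, J, Matrix.submatrix_apply, Matrix.of_apply, hs,
        Fin.ext_iff, Fin.val_one, Fin.val_two, mul_ite, mul_one, mul_zero]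
      split_ifs <;> first | rfl | (exfalso; omega)
    simp only [Matrix.trace, Matrix.diag, Matrix.mul_apply, h12] at h9
    simp [ite_and] at h9



theorem comm2 {F : Type*} [Field F] {y t : GL (Fin 2) F} {a b : F}
    (ht : t.val = Matrix.diagonal ![a, b]) (hab : a ≠ b) (ha : a ≠ 0) (hb : b ≠ 0)
    (h : Commute (mk y) (mk t)) :
    (y.val 0 1 = 0 ∧ y.val 1 0 = 0) ∨ (y.val 0 0 = 0 ∧ y.val 1 1 = 0 ∧ a ^ 2 = b ^ 2) := by
  have h1 : mk (y * t) = mk (t * y) := by rw [map_mul, map_mul, h.eq]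
  obtain ⟨c, hc⟩ := mk_eq_mk_iff.1 h1
  have hc' : y.val * t.val * Matrix.scalar (Fin 2) c.val = t.val * y.val := congrArg Units.val hc
  have h2 : ∀ i j, y.val i j * ![a, b] j * c = ![a, b] i * y.val i j := fun i j => by
    have := congrFun (congrFun hc' i) j
    rwa [ht, Matrix.scalar_apply, Matrix.mul_diagonal, Matrix.mul_diagonal,
      Matrix.diagonal_mul] at this
  have h00 : y.val 0 0 * a * c = a * y.val 0 0 := h2 0 0
  have h01 : y.val 0 1 * b * c = a * y.val 0 1 := h2 0 1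
  have h10 : y.val 1 0 * a * c = b * y.val 1 0 := h2 1 0
  have h11 : y.val 1 1 * b * c = b * y.val 1 1 := h2 1 1
  have hab' := sub_ne_zero.2 hab
  by_cases hc1 : c.val = 1
  · rw [hc1] at h01 h10
    exact Or.inl ⟨mul_left_cancel₀ hab' (by linear_combination -h01),
      mul_left_cancel₀ hab' (by linear_combination h10)⟩
  · have hc2 := sub_ne_zero.2 hc1
    have e0 : y.val 0 0 = 0 := mul_left_cancel₀ (mul_ne_zero ha hc2) (by linear_combination h00)
    have e1 : y.val 1 1 = 0 := mul_left_cancel₀ (mul_ne_zero hb hc2) (by linear_combination h11)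
    have h3 := y.det_ne_zero
    rw [Matrix.det_fin_two, e0, zero_mul, zero_sub, neg_ne_zero] at h3
    have e2 : b * c = a := mul_left_cancel₀ (left_ne_zero_of_mul h3) (by linear_combination h01)
    have e3 : a * c = b := mul_left_cancel₀ (right_ne_zero_of_mul h3) (by linear_combination h10)
    exact Or.inr ⟨e0, e1, by linear_combination b * e3 - a * e2⟩

theorem dvd_card_centralizer {F : Type*} [Field F] [Finite F] (g : GL (Fin 2) F)
    (hg : ∀ x : ℙ F (Fin 2 → F), g • x ≠ x) :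
    Nat.card F + 1 ∣ Nat.card (Subgroup.centralizer {g}) := by
  have hev : ∀ (v : Fin 2 → F) (c : F), g.val *ᵥ v = c • v → v = 0 := fun v c h => by
    by_contra hv
    exact hg _ ((Lin.smul_mk_eq_mk_iff g hv hv).2 ⟨c, h⟩)
  have : MulAction.IsPretransitive (Subgroup.centralizer {g}) (ℙ F (Fin 2 → F)) := by
    constructor
    intro x y
    induction x using Projectivization.ind with
    | _ v hv =>
    induction y using Projectivization.ind with
    | _ w hw =>
    set z := g.val *ᵥ v with hz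
    have hD : v 0 * z 1 - v 1 * z 0 ≠ 0 := by
      intro h
      by_cases h0 : v 0 = 0
      · have h1 : v 1 ≠ 0 := fun h1 => hv (by funext i; fin_cases i <;> simp [h0, h1])
        apply hv (hev v (z 1 / v 1) ?_)
        rw [← hz]
        funext i
        fin_cases i
        · simp only [h0, zero_mul, zero_sub, neg_eq_zero, mul_eq_zero, h1, false_or] at h
          simp [h0, h]
        · simp [h1]
      · apply hv (hev v (z 0 / v 0) ?_)
        rw [← hz]
        funext i
        fin_cases i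
        · simp [h0]
        · simp only [Fin.mk_one, Fin.isValue, Pi.smul_apply, smul_eq_mul]
          field_simp
          linear_combination h
    set a := (w 0 * z 1 - w 1 * z 0) / (v 0 * z 1 - v 1 * z 0) with ha
    set b := (v 0 * w 1 - v 1 * w 0) / (v 0 * z 1 - v 1 * z 0) with hb
    have h1 : (a • (1 : Matrix (Fin 2) (Fin 2) F) + b • g.val) *ᵥ v = w := by
      rw [Matrix.add_mulVec, Matrix.smul_mulVec, Matrix.smul_mulVec, Matrix.one_mulVec, ← hz]
      funext i
      have hD' := mul_inv_cancel₀ hD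
      fin_cases i <;> simp only [Fin.mk_one, Fin.zero_eta, Fin.isValue, Pi.add_apply, Pi.smul_apply,
        smul_eq_mul, ha, hb, div_eq_mul_inv]
      · linear_combination w 0 * hD'
      · linear_combination w 1 * hD'
    have h2 : (a • (1 : Matrix (Fin 2) (Fin 2) F) + b • g.val).det ≠ 0 := by
      intro h
      obtain ⟨s, hs, hs'⟩ := Matrix.exists_mulVec_eq_zero_iff.2 h
      rw [Matrix.add_mulVec, Matrix.smul_mulVec, Matrix.smul_mulVec, Matrix.one_mulVec] at hs'
      by_cases hb0 : b = 0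
      · rw [hb0, zero_smul, add_zero, smul_eq_zero] at hs'
        rw [hb0, hs'.resolve_right hs] at h1
        simp at h1
        exact hw h1.symm
      · apply hs (hev s (-a / b) ?_)
        have := congrArg (fun x => b⁻¹ • x) hs'
        simp only [smul_add, smul_smul, inv_mul_cancel₀ hb0, one_smul, smul_zero] at this
        rw [eq_neg_of_add_eq_zero_right this, ← neg_smul]
        congr 1
        field_simp
    refine ⟨⟨Matrix.GeneralLinearGroup.mkOfDetNeZero _ h2, ?_⟩, ?_⟩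
    · rw [Subgroup.mem_centralizer_singleton_iff]
      ext1
      change (a • (1 : Matrix (Fin 2) (Fin 2) F) + b • g.val) * g.val =
        g.val * (a • (1 : Matrix (Fin 2) (Fin 2) F) + b • g.val)
      simp [add_mul, mul_add]
    · exact (Lin.smul_mk_eq_mk_iff _ hv hw).2 ⟨1, by rw [one_smul]; exact h1⟩
  have h1 := MulAction.index_stabilizer_of_transitive (Subgroup.centralizer {g})
    (Lin.pt F (0 : Fin 2))
  have h2 := Subgroup.index_dvd_card
    (MulAction.stabilizer (Subgroup.centralizer {g}) (Lin.pt F (0 : Fin 2)))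
  rw [h1, Lin.card_proj] at h2
  simpa [Finset.sum_range_succ, add_comm] using h2

theorem case2 {F : Type*} [Field F] [Fintype F] (hq : 4 ≤ Fintype.card F)
    (G : Subgroup PGL(Fin 2, F))
    (hG : ∀ g : GL (Fin 2) F, g.val.det = 1 → mk g ∈ G) :
    ¬ ∃ 𝓐 : Finset (Subgroup G), ((∀ A ∈ 𝓐, A ≠ ⊤) ∧ (∀ g : G, ∃ A ∈ 𝓐, g ∈ A)) ∧
      (∀ 𝓑 : Finset (Subgroup G), (∀ A ∈ 𝓑, A ≠ ⊤) ∧ (∀ g : G, ∃ A ∈ 𝓑, g ∈ A) →
        𝓐.card ≤ 𝓑.card) ∧ (∀ A ∈ 𝓐, Group.IsNilpotent ↥A) := by
  classical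
  obtain ⟨p, hchar, n, hp, hn⟩ := FiniteField.card' F
  have : Fact p.Prime := ⟨hp⟩
  have : Finite PGL(Fin 2, F) := Finite.of_surjective _ mk_surjective
  have := trans G hG
  have h01 : Lin.pt F (0 : Fin 2) ≠ Lin.pt F 1 := fun h => absurd (Lin.pt_injective h) (by simp)
  have : Nontrivial (ℙ F (Fin 2 → F)) := ⟨_, _, h01⟩
  obtain ⟨u, hu, hud, k, hk⟩ := exists_unip (p := p) (J_nil F 2)
  have hu1 : (⟨mk u, hG u hud⟩ : G) ^ p ^ k = 1 :=
    Subtype.ext (by simp only [SubmonoidClass.mk_pow, ← map_pow, hk, map_one]; rfl)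
  have hfix : ∀ y : ℙ F (Fin 2 → F), (⟨mk u, hG u hud⟩ : G) • y = y → y = Lin.pt F 0 :=
    fix_unip (J_nil F 2) hu (J_ker F _)
  have hfix2 : ∀ g : G, ¬ ∀ i : Fin 2, (g * ⟨mk u, hG u hud⟩ * g⁻¹) • Lin.pt F i = Lin.pt F i := by
    intro g h
    have h1 : ∀ i : Fin 2, g⁻¹ • Lin.pt F i = Lin.pt F 0 := fun i => hfix _ (by
      have := h i
      rwa [mul_smul, mul_smul, ← eq_inv_smul_iff] at this)
    exact h01 (MulAction.injective g⁻¹ ((h1 0).trans (h1 1).symm))
  have hdiag : ∀ a : F, a ≠ 0 → ∃ t : GL (Fin 2) F, t.val = Matrix.diagonal ![a, a⁻¹] ∧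
      t.val.det = 1 := fun a ha => by
    have : (Matrix.diagonal ![a, a⁻¹]).det = 1 := by simp [Matrix.det_diagonal, ha]
    exact ⟨Matrix.GeneralLinearGroup.mkOfDetNeZero _ (this ▸ one_ne_zero), rfl, this⟩
  by_cases hr : ∃ r, r.Prime ∧ r ∣ Fintype.card F - 1 ∧ r ≠ 2
  · obtain ⟨r, hr, hrd, hr2⟩ := hr
    have : Fact r.Prime := ⟨hr⟩
    obtain ⟨κ, hκ⟩ := exists_prime_orderOf_dvd_card (G := Fˣ) r (by rwa [Fintype.card_units])
    have hκ4 : κ.val ^ 4 ≠ 1 := by
      intro h
      have h1 : r ∣ 2 ^ 2 := by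
        rw [← hκ, orderOf_dvd_iff_pow_eq_one]
        exact Units.ext (by simpa using h)
      exact hr2 ((Nat.prime_dvd_prime_iff_eq hr Nat.prime_two).1 (hr.dvd_of_dvd_pow h1))
    have hκ0 := κ.ne_zero
    have hκr : κ.val ^ r = 1 := by
      rw [← Units.val_pow_eq_pow_val, ← hκ, pow_orderOf_eq_one, Units.val_one]
    obtain ⟨t, ht, htd⟩ := hdiag κ.val hκ0
    have hκ2 : κ.val ^ 2 ≠ κ.val⁻¹ ^ 2 := fun h => hκ4 (by
      rw [show 4 = 2 + 2 from rfl, pow_add]; nth_rewrite 2 [h]; field_simp)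
    have hκ1 : κ.val ≠ κ.val⁻¹ := fun h => hκ2 (by rw [← h])
    have hd : Function.Injective ![κ.val, κ.val⁻¹] := by
      intro i j hij
      fin_cases i <;> fin_cases j
      · rfl
      · exact absurd hij hκ1
      · exact absurd hij.symm hκ1
      · rfl
    have htr : t ^ r = 1 := by
      ext1
      rw [Units.val_pow_eq_pow_val, ht, Matrix.diagonal_pow, Units.val_one, ← Matrix.diagonal_one]
      congr 1
      funext i
      fin_cases i <;> simp [hκr]
    have key : ∀ N : Subgroup G, Group.IsNilpotent N → ⟨mk t, hG t htd⟩ ∈ N → ∀ i : Fin 2,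
        N ≤ MulAction.stabilizer _ (Lin.pt F i) := by
      intro N hN htN i
      refine Perm.le_stabilizer_of_isNilpotent' (p := r) ⟨1, Subtype.ext ?_⟩
        (Finset.univ.image (Lin.pt F)) ?_ ?_ ?_ (by simp) ?_ hN htN
      · simp only [SubmonoidClass.mk_pow, ← map_pow, pow_one, htr, map_one]; rfl
      · intro x hx
        obtain ⟨j, rfl⟩ := Lin.exists_eq_pt_of_diagonal ht hd hx
        simp
      · rw [Finset.card_image_of_injective _ Lin.pt_injective, Finset.card_univ]
        exact Lin.card_proj_modEq (by rwa [Nat.card_eq_fintype_card])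
      · rw [Finset.card_image_of_injective _ Lin.pt_injective]
        have := hr.two_le
        simp only [Finset.card_univ, Fintype.card_fin]
        omega
      · rintro ⟨g, hgG⟩ hg
        obtain ⟨g, rfl⟩ := mk_surjective g
        refine (Lin.smul_pt_eq_pt_iff g i i).2 (fun j hj => ?_)
        rcases comm2 ht hκ1 hκ0 (inv_ne_zero hκ0) (congrArg Subtype.val hg) with h | h
        · fin_cases i <;> fin_cases j
          · exact absurd rfl hj
          · exact h.2
          · exact h.1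
          · exact absurd rfl hj
        · exact absurd h.2.2 hκ2
    refine cover2 (Lin.not_dvd_card_proj hp) ⟨k, hu1⟩ hfix ⟨mk t, hG t htd⟩ ?_ ?_
    · intro N hN htN g hg
      exact hfix2 g (fun i => key N hN htN i hg)
    · intro N hN htN g hg h
      exact absurd (key N hN htN 0 hg) (h _)
  · push Not at hr
    set e := (Fintype.card F - 1).primeFactorsList.length
    have he : Fintype.card F - 1 = 2 ^ e :=
      Nat.eq_prime_pow_of_unique_prime_dvd (by omega) (fun h1 h2 => hr _ h1 h2)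
    obtain ⟨f, hf⟩ : ∃ f, e = f + 2 := by
      refine ⟨e - 2, ?_⟩
      have : 2 ≤ e := by
        by_contra h
        have : 2 ^ e ≤ 2 ^ 1 := Nat.pow_le_pow_right (by norm_num) (by omega)
        omega
      omega
    have hq4 : Fintype.card F = 4 * 2 ^ f + 1 := by
      rw [hf, pow_add] at he; omega
    have hpo : Odd p := by
      refine hp.odd_of_ne_two ?_
      rintro rfl
      have : 2 ∣ Fintype.card F := by rw [hn]; exact dvd_pow_self 2 n.ne_zero
      omega
    have h2F : (2 : F) ≠ 0 := by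
      intro h
      have h1 : p ∣ 2 := (CharP.cast_eq_zero_iff F p 2).1 h
      rw [(Nat.prime_dvd_prime_iff_eq hp Nat.prime_two).1 h1] at hpo
      exact absurd hpo (by decide)
    obtain ⟨a, ha⟩ : IsSquare (-1 : F) := FiniteField.isSquare_neg_one_iff.2 (by omega)
    have ha0 : a ≠ 0 := by rintro rfl; simp at ha
    have hai : a⁻¹ = -a := by
      rw [inv_eq_iff_eq_inv, eq_comm, inv_eq_iff_eq_inv, eq_comm]
      exact inv_eq_of_mul_eq_one_right (by linear_combination ha)
    obtain ⟨t, ht, htd⟩ := hdiag a ha0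
    have ha1 : a ≠ a⁻¹ := by
      rw [hai]
      intro h
      exact mul_ne_zero h2F ha0 (by linear_combination h)
    have hanti : ∀ y : GL (Fin 2) F, y.val * y.val ∈ Set.range (Matrix.scalar (Fin 2)) →
        mk y ^ 2 = 1 := fun y hy => by
      rw [← map_pow, mk_eq_one, Matrix.GeneralLinearGroup.mem_center_iff_val_mem_range_scalar, sq]
      exact hy
    have ht2 : (⟨mk t, hG t htd⟩ : G) ^ 2 = 1 := Subtype.ext (hanti t ⟨-1, by
      rw [ht, hai, Matrix.diagonal_mul_diagonal, Matrix.scalar_apply]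
      congr 1
      funext i
      fin_cases i <;> simp [ha]⟩)
    have key : ∀ N : Subgroup G, Group.IsNilpotent N → ⟨mk t, hG t htd⟩ ∈ N → ∀ y ∈ N,
        Odd (orderOf y) → y = 1 := by
      intro N hN htN y hy hyo
      have h1 := Perm.commute_of_coprime_of_mem hN hy htN
        (Nat.Coprime.coprime_dvd_right (orderOf_dvd_of_pow_eq_one ht2)
          ((Nat.coprime_two_right).2 hyo))
      have h2 : y ^ 2 ^ e = 1 := by
        obtain ⟨y, hyG⟩ := y
        obtain ⟨y, rfl⟩ := mk_surjective y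
        apply Subtype.ext
        change mk y ^ 2 ^ e = 1
        rcases comm2 ht ha1 ha0 (inv_ne_zero ha0) (congrArg Subtype.val h1) with h | h
        · have h3 := y.det_ne_zero
          rw [Matrix.det_fin_two, h.1, zero_mul, sub_zero] at h3
          have h4 : y.val = Matrix.diagonal ![y.val 0 0, y.val 1 1] := by
            ext i j
            fin_cases i <;> fin_cases j <;> simp [h.1, h.2]
          have h5 : y ^ 2 ^ e = 1 := by
            ext1
            rw [Units.val_pow_eq_pow_val, h4, Matrix.diagonal_pow, Units.val_one,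
              ← Matrix.diagonal_one, ← he]
            congr 1
            funext i
            fin_cases i
            · simpa using FiniteField.pow_card_sub_one_eq_one _ (left_ne_zero_of_mul h3)
            · simpa using FiniteField.pow_card_sub_one_eq_one _ (right_ne_zero_of_mul h3)
          rw [← map_pow, h5, map_one]
        · rw [hf, pow_succ', pow_mul, hanti y ⟨y.val 0 1 * y.val 1 0, ?_⟩, one_pow]
          ext i j
          fin_cases i <;> fin_cases j <;> simp [Matrix.mul_apply, h.1, h.2.1, mul_comm]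
      have h3 := Nat.Coprime.eq_one_of_dvd (Nat.Coprime.pow_right e
        ((Nat.coprime_two_right).2 hyo)) (orderOf_dvd_of_pow_eq_one h2)
      exact orderOf_eq_one_iff.1 h3
    refine cover2 (Lin.not_dvd_card_proj hp) ⟨k, hu1⟩ hfix ⟨mk t, hG t htd⟩ ?_ ?_
    · intro N hN htN g hg
      have h1 := key N hN htN _ hg (Odd.of_dvd_nat (hpo.pow (n := k))
        (orderOf_dvd_of_pow_eq_one (by rw [conj_pow, hu1, mul_one, mul_inv_cancel])))
      exact hfix2 g (fun i => by rw [h1, one_smul])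
    · rintro N hN htN ⟨g, hgG⟩ hg h
      obtain ⟨g, rfl⟩ := mk_surjective g
      obtain ⟨r, hr, hrd⟩ := Nat.exists_prime_and_dvd (n := 2 * 2 ^ f + 1)
        (by have := Nat.two_pow_pos f; omega)
      have : Fact r.Prime := ⟨hr⟩
      have hro : Odd r := Odd.of_dvd_nat ⟨2 ^ f, rfl⟩ hrd
      have h1 := dvd_card_centralizer g h
      rw [Nat.card_eq_fintype_card, hq4] at h1
      obtain ⟨⟨s, hs⟩, hsr⟩ := exists_prime_orderOf_dvd_card' (G := Subgroup.centralizer {g}) r
        ((hrd.trans ⟨2, by ring⟩).trans h1)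
      rw [← Subgroup.orderOf_coe] at hsr
      change orderOf s = r at hsr
      have hsr' : s ^ r = 1 := by rw [← hsr, pow_orderOf_eq_one]
      have hone : ∀ c : F, c ^ r = 1 → c = 1 := fun c hc => by
        have hc0 : c ≠ 0 := by rintro rfl; simp [hr.ne_zero] at hc
        have h2 := FiniteField.pow_card_sub_one_eq_one c hc0
        rw [he] at h2
        have h3 := Nat.dvd_gcd (orderOf_dvd_of_pow_eq_one hc) (orderOf_dvd_of_pow_eq_one h2)
        rw [Nat.Coprime.pow_right e ((Nat.coprime_two_right).2 hro), Nat.dvd_one] at h3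
        exact orderOf_eq_one_iff.1 h3
      have hsd : s.val.det = 1 := hone _ (by
        rw [← Matrix.det_pow, ← Units.val_pow_eq_pow_val, hsr']; simp)
      have hs1 : (⟨mk s, hG s hsd⟩ : G) ≠ 1 := by
        intro h2
        have h3 : mk s = 1 := congrArg Subtype.val h2
        rw [mk_eq_one, Matrix.GeneralLinearGroup.mem_center_iff_val_mem_range_scalar] at h3
        obtain ⟨c, hc⟩ := h3
        have h4 : Matrix.scalar (Fin 2) (c ^ r) = 1 := by
          rw [map_pow, hc, ← Units.val_pow_eq_pow_val, hsr', Units.val_one]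
        have h5 : c = 1 := hone c (by simpa using congrFun (congrFun h4 0) 0)
        have h6 : s = 1 := Units.ext (by rw [← hc, h5, map_one, Units.val_one])
        rw [h6, orderOf_one] at hsr
        exact hr.one_lt.ne hsr
      have hs2 : orderOf (⟨mk s, hG s hsd⟩ : G) = r := orderOf_eq_prime (Subtype.ext (by
        simp only [SubmonoidClass.mk_pow, ← map_pow, hsr', map_one]; rfl)) hs1
      refine ⟨⟨mk g, hgG⟩ * ⟨mk s, hG s hsd⟩, fun h2 => hs1 (key N hN htN _ ?_ (hs2 ▸ hro)),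
        Cls.mem_zpowers_mul_left ?_ ?_⟩
      · exact (N.mul_mem_cancel_left hg).1 h2
      · apply Subtype.ext
        change mk g * mk s = mk s * mk g
        rw [← map_mul, ← map_mul, Subgroup.mem_centralizer_singleton_iff.1 hs]
      · rw [hs2, Nat.coprime_comm, hr.coprime_iff_not_dvd]
        intro h2
        have h3 := orderOf_pow_orderOf_div (orderOf_pos (⟨mk g, hgG⟩ : G)).ne' h2
        have h4 := key N hN htN _ (N.pow_mem hg _) (h3.symm ▸ hro)
        rw [h4, orderOf_one] at h3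
        exact hr.one_lt.ne h3

/-- A cover of a group is a finite set of proper subgroups whose union is the whole group; it is minimal when no cover has fewer members, and nilpotent when all its members are nilpotent. Let F be a finite field with q elements and n ≥ 3, or n = 2 and q ≥ 4. Then no subgroup of PGL_n(F) = GL_n(F)/Z(GL_n(F)) containing the image of SL_n(F) has a nilpotent minimal cover. -/
theorem result {F : Type*} [Field F] [Fintype F] (n : ℕ) (hn : 3 ≤ n ∨ (n = 2 ∧ 4 ≤ Fintype.card F))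
    (G : Subgroup (GL (Fin n) F ⧸ Subgroup.center (GL (Fin n) F)))
    (hG : ((Matrix.SpecialLinearGroup.toGL : Matrix.SpecialLinearGroup (Fin n) F →* GL (Fin n) F).range).map
      (QuotientGroup.mk' (Subgroup.center (GL (Fin n) F))) ≤ G) :
    ¬ ∃ 𝓐 : Finset (Subgroup ↥G), ((∀ A ∈ 𝓐, A ≠ ⊤) ∧ (∀ g : ↥G, ∃ A ∈ 𝓐, g ∈ A)) ∧ (∀ 𝓑 : Finset (Subgroup ↥G), (∀ A ∈ 𝓑, A ≠ ⊤) ∧ (∀ g : ↥G, ∃ A ∈ 𝓑, g ∈ A) → 𝓐.card ≤ 𝓑.card) ∧ (∀ A ∈ 𝓐, Group.IsNilpotent ↥A) := by
  have hG' : ∀ g : GL (Fin n) F, g.val.det = 1 → mk g ∈ G := fun g hg =>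
    hG ⟨g, ⟨⟨g.val, hg⟩, Units.ext rfl⟩, rfl⟩
  rcases hn with hn | ⟨rfl, hq⟩
  · obtain ⟨m, rfl⟩ := Nat.exists_eq_add_of_le' hn
    exact case3 m G hG'
  · exact case2 hq G hG'

end Cfsg.Agent.S3894
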