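import Cfsg.Statements.S3896
import Cfsg.Agent.Lib.E8.Half2
import Cfsg.Agent.Lib.GW.Main

set_option autoImplicit false
open Cfsg

namespace Cfsg.Agent.S3896

open Subgroup Cfsg.Agent.Coprime Cfsg.Agent.OO Cfsg.Agent.E8

/-- Let G be a finite group whose largest normal subgroup of odd order is trivial, let P be a Sylow 2-subgroup of G, and suppose the number of conjugacy classes of G consisting of 2-elements (elements of 2-power order, the identity included) is exactly |P|/2. Then G/Z(G) is isomorphic to the alternating or the symmetric group of degree 4, or G/Z(G) has a normal non-abelian simple subgroup with trivial centralizer that is isomorphic to PSL₂(q) for some prime power q > 3 with q ≡ 3 or 5 (mod 8). -/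
theorem result {G : Type*} [Group G] [Finite G] (P : Sylow 2 G) (hO : Cfsg.pPrimeCore 2 G = ⊥)
    (hk : 2 * Nat.card {c : ConjClasses G // ∀ x ∈ c.carrier, ∃ k : ℕ, orderOf x = 2 ^ k} = Nat.card ↥(P : Subgroup G)) :
    Nonempty (G ⧸ Subgroup.center G ≃* ↥(alternatingGroup (Fin 4))) ∨ Nonempty (G ⧸ Subgroup.center G ≃* Equiv.Perm (Fin 4)) ∨
    ∃ S : Subgroup (G ⧸ Subgroup.center G), S.Normal ∧ IsSimpleGroup ↥S ∧ ¬ IsMulCommutative ↥S ∧
      Subgroup.centralizer (S : Set (G ⧸ Subgroup.center G)) = ⊥ ∧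
      ∃ (F : Type) (_ : Field F) (_ : Fintype F), 3 < Fintype.card F ∧ (Fintype.card F % 8 = 3 ∨ Fintype.card F % 8 = 5) ∧
        Nonempty (↥S ≃* Matrix.ProjectiveSpecialLinearGroup (Fin 2) F) := by
  have hP : Syl 2 (P : Subgroup G) ⊤ := ⟨le_top, P.2, by
    rw [relIndex_top_right]; exact P.not_dvd_index⟩
  refine half_main R1.gw4 hO hP (Eq.trans (congrArg (2 * Set.ncard ·) (Set.ext fun c => ⟨?_, ?_⟩)) hk)
  · rintro ⟨x, hx, rfl⟩ y hy
    obtain ⟨g, rfl⟩ := isConj_iff.1 (ConjClasses.mk_eq_mk_iff_isConj.1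
      (ConjClasses.mem_carrier_iff_mk_eq.1 hy)).symm
    rw [orderOf_conj]
    exact Core.exists_orderOf_eq_pow_of_mem P.2 hx
  · intro h
    obtain ⟨x, rfl⟩ := ConjClasses.mk_surjective c
    obtain ⟨k, hk⟩ := h x ConjClasses.mem_carrier_mk
    obtain ⟨g, -, hg⟩ := hP.exists_conj_le le_top (Core.isPGroup_zpowers_of_orderOf hk)
    exact ⟨_, hg (conj_mem_conj (mem_zpowers x)),
      ConjClasses.mk_eq_mk_iff_isConj.2 (isConj_iff.2 ⟨g, rfl⟩).symm⟩

end Cfsg.Agent.S3896
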