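import Cfsg.Statements.S3900
import Cfsg.Agent.Lib.OO.Final
import Cfsg.Agent.Lib.Cls.RealOdd
import Cfsg.Agent.Lib.Mod.TwoPrimes
import Cfsg.Agent.Lib.Transfer.MaxCent
import Cfsg.Agent.Lib.Transfer.NilpMax
import Cfsg.Agent.Lib.Transfer.MinNonNilp
import Cfsg.Agent.Lib.Coprime.SylowCount

set_option autoImplicit false
open Cfsg

namespace Cfsg.Agent.S3900

open Subgroup
open scoped commutatorElement

universe u v

/-- left-normed commutator values -/
def Val {G : Type*} [Group G] : ℕ → G → Prop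
  | 0, _ => True
  | k + 1, x => ∃ v y : G, Val k v ∧ x = ⁅v, y⁆

section basic
variable {G H : Type*} [Group G] [Group H]

theorem val_foldl (l : List G) : ∀ (j : ℕ) (a : G), Val j a →
    Val (j + l.length) (l.foldl (fun a b => a * b * a⁻¹ * b⁻¹) a) := by
  induction l with
  | nil => intro j a h; simpa using h
  | cons b l ih =>
    intro j a h
    have := ih (j + 1) (a * b * a⁻¹ * b⁻¹) ⟨a, b, h, rfl⟩
    rw [List.foldl_cons, List.length_cons, ← add_assoc, add_right_comm]
    exact this

theorem exists_list_of_val : ∀ (k : ℕ) (x : G), Val k x → ∃ (a : G) (l : List G), l.length = k ∧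
    x = l.foldl (fun a b => a * b * a⁻¹ * b⁻¹) a
  | 0, x, _ => ⟨x, [], rfl, rfl⟩
  | k + 1, x, ⟨v, y, hv, hx⟩ => by
    obtain ⟨a, l, hl, e⟩ := exists_list_of_val k v hv
    refine ⟨a, l ++ [y], by simp [hl], ?_⟩
    rw [List.foldl_append, ← e, hx]; rfl

theorem val_iff (k : ℕ) (x : G) : (∃ f : Fin (k + 1) → G,
    x = ((List.ofFn f).tail).foldl (fun a b => a * b * a⁻¹ * b⁻¹) (f 0)) ↔ Val k x := by
  constructor
  · rintro ⟨f, rfl⟩
    have := val_foldl (List.ofFn f).tail 0 (f 0) trivial
    simpa using this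
  · intro h
    obtain ⟨a, l, rfl, rfl⟩ := exists_list_of_val k x h
    refine ⟨Fin.cons a l.get, ?_⟩
    rw [List.ofFn_succ]
    simp

theorem Val.map (f : G →* H) : ∀ {k : ℕ} {x : G}, Val k x → Val k (f x)
  | 0, _, _ => trivial
  | _ + 1, _, ⟨v, y, hv, hx⟩ => ⟨f v, f y, hv.map f, by rw [hx, map_commutatorElement]⟩

theorem Val.conj {k : ℕ} {x : G} (h : Val k x) (g : G) : Val k (g * x * g⁻¹) :=
  h.map (MulAut.conj g).toMonoidHom

theorem Val.of_succ : ∀ {k : ℕ} {x : G}, Val (k + 1) x → Val k x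
  | 0, _, _ => trivial
  | _ + 1, _, ⟨v, y, hv, hx⟩ => ⟨v, y, hv.of_succ, hx⟩

theorem Val.comm {k : ℕ} {x : G} (h : Val k x) (y : G) : Val k ⁅x, y⁆ :=
  Val.of_succ ⟨x, y, h, rfl⟩

theorem Val.mem : ∀ {k : ℕ} {x : G}, Val k x → x ∈ (⊤ : Subgroup G).lowerCentralSeries k
  | 0, _, _ => mem_top _
  | _ + 1, _, ⟨_, y, hv, hx⟩ => hx ▸ commutator_mem_commutator hv.mem (mem_top y)

theorem lcs_le_closure (k : ℕ) :
    (⊤ : Subgroup G).lowerCentralSeries k ≤ Subgroup.closure {x | Val k x} := by
  induction k with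
  | zero => exact fun x _ => Subgroup.subset_closure trivial
  | succ k ih =>
    have hN : (Subgroup.closure {x : G | Val (k + 1) x}).Normal := by
      refine ⟨fun n hn g => ?_⟩
      have : (Subgroup.closure {x : G | Val (k + 1) x}).map (MulAut.conj g).toMonoidHom ≤
          Subgroup.closure {x : G | Val (k + 1) x} := by
        rw [MonoidHom.map_closure]
        refine Subgroup.closure_mono ?_
        rintro _ ⟨x, hx, rfl⟩
        exact Val.conj hx g
      exact this ⟨n, hn, rfl⟩
    set N := Subgroup.closure {x : G | Val (k + 1) x}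
    rw [Subgroup.lowerCentralSeries_succ, commutator_le]
    intro v hv y _
    have h1 : Subgroup.closure {x : G | Val k x} ≤ (centralizer {QuotientGroup.mk' N y}).comap
        (QuotientGroup.mk' N) := by
      rw [Subgroup.closure_le]
      intro x hx
      have : ⁅x, y⁆ ∈ N := Subgroup.subset_closure ⟨x, y, hx, rfl⟩
      rw [← QuotientGroup.eq_one_iff, ← QuotientGroup.mk'_apply, map_commutatorElement,
        commutatorElement_eq_one_iff_mul_comm] at this
      exact mem_centralizer_singleton_iff.2 this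
    have h2 := mem_centralizer_singleton_iff.1 (h1 (ih hv))
    rw [← QuotientGroup.eq_one_iff, ← QuotientGroup.mk'_apply, map_commutatorElement,
      commutatorElement_eq_one_iff_mul_comm]
    exact h2

theorem lcs_le_of_forall {k : ℕ} {P C : Subgroup G} (h : ∀ x ∈ P, Val k x → x ∈ C) :
    P.lowerCentralSeries k ≤ C := by
  rw [← top_subtype_lowerCentralSeries, map_le_iff_le_comap]
  refine (lcs_le_closure k).trans ((Subgroup.closure_le _).2 fun x hx => ?_)
  exact h x x.2 (Val.map P.subtype hx)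

end basic

/-- the consequence of the hypothesis that is used -/
def Hyp (k : ℕ) (G : Type*) [Group G] : Prop :=
  ∀ x n : G, Val k x → (orderOf ⁅x, n⁆).Coprime (orderOf x) → ⁅x, n⁆ = 1

section main
variable {G : Type u} {H : Type v} [Group G] [Group H] {k : ℕ}

theorem Hyp.subgroup (h : Hyp k G) (L : Subgroup G) : Hyp k L := fun x n hx hc => by
  have := h x n (hx.map L.subtype) (by
    rw [← Subgroup.orderOf_coe, ← Subgroup.orderOf_coe] at hc
    exact hc)
  exact Subtype.ext this

theorem Hyp.mem_centralizer [Finite G] (h : Hyp k G) {N : Subgroup G} [N.Normal] {x : G}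
    (hx : Val k x) (hc : (Nat.card N).Coprime (orderOf x)) : x ∈ centralizer (N : Set G) := by
  intro n hn
  have hm : ⁅x, n⁆ ∈ N := by
    rw [commutatorElement_def]
    exact N.mul_mem (‹N.Normal›.conj_mem n hn x) (N.inv_mem hn)
  exact (commutatorElement_eq_one_iff_mul_comm.1
    (h x n hx (Nat.Coprime.coprime_dvd_left (Subgroup.orderOf_dvd_natCard _ hm) hc))).symm

theorem exists_lift [Finite G] {p : ℕ} [Fact p.Prime] {f : G →* H} (hf : Function.Surjective f)
    {X : Subgroup H} (hX : IsPGroup p X) {g : H} (hg : g ∈ normalizer (X : Set H)) :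
    ∃ Y : Subgroup G, IsPGroup p Y ∧ Y.map f = X ∧ ∃ u ∈ normalizer (Y : Set G), f u = g := by
  have : Finite H := Finite.of_surjective f hf
  obtain ⟨Y, hY⟩ := Coprime.exists_isSylowIn p (X.comap f)
  have h1 : Y.map f = X := by
    have h2 := hY.map f
    rw [map_comap_eq_self_of_surjective hf] at h2
    exact (h2.eq_of_le h2.1 le_rfl hX).symm
  refine ⟨Y, hY.2.1, h1, ?_⟩
  obtain ⟨g₀, rfl⟩ := hf g
  have hg₀ : g₀ ∈ normalizer ((X.comap f : Subgroup G) : Set G) := by
    rw [← comap_normalizer_eq_of_surjective _ hf]; exact hg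
  have h3 := hY.frattini_argument (G := normalizer ((X.comap f : Subgroup G) : Set G))
    le_normalizer le_rfl
  have h4 : (normalizer ((X.comap f : Subgroup G) : Set G)).map f ≤
      (normalizer (Y : Set G)).map f := by
    rw [← h3, Subgroup.map_sup, map_comap_eq_self_of_surjective hf, ← h1]
    exact sup_le (map_mono le_normalizer) (map_mono inf_le_right)
  exact h4 ⟨g₀, hg₀, rfl⟩

theorem exists_val [Finite G] {p : ℕ} [hp : Fact p.Prime] {f : G →* H}
    (hf : Function.Surjective f) (h : ¬ HasNormalPComplement p H) (k : ℕ) :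
    ∃ a : G, Val k a ∧ (∃ m, orderOf a = p ^ m) ∧ f a ≠ 1 ∧ f a ^ p = 1 := by
  have : Finite H := Finite.of_surjective f hf
  obtain ⟨P⟩ : Nonempty (Sylow p H) := inferInstance
  obtain ⟨X, -, q, g, hI⟩ := Transfer.exists_itoPair h P
  obtain ⟨Y, hY, hYX, u, hu, rfl⟩ := exists_lift hf hI.isPGroup hI.mem_normalizer
  have hmem : ∀ y ∈ Y, f y ∈ X := fun y hy => hYX ▸ mem_map_of_mem f hy
  have hord : ∀ y ∈ Y, ∃ m, orderOf y = p ^ m := fun y hy => by
    obtain ⟨m, hm⟩ := IsPGroup.iff_orderOf.1 hY ⟨y, hy⟩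
    exact ⟨m, by rw [← hm, Subgroup.orderOf_mk]⟩
  have key : ∀ j, ∃ a ∈ Y, Val j a ∧ f a ∉ ⁅X, X⁆ := by
    intro j
    induction j with
    | zero =>
      obtain ⟨x, hx, hx'⟩ := SetLike.exists_of_lt hI.commutator_lt
      obtain ⟨a, ha, rfl⟩ := hYX.ge hx
      exact ⟨a, ha, trivial, hx'⟩
    | succ j ih =>
      obtain ⟨a, ha, hv, hn⟩ := ih
      refine ⟨⁅a, u⁆, ?_, ⟨a, u, hv, rfl⟩, fun hc => hn ?_⟩
      · rw [commutatorElement_def, mul_assoc, mul_assoc, ← mul_assoc u]
        exact Y.mul_mem ha ((mem_normalizer_iff.1 hu _).1 (Y.inv_mem ha))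
      · rw [map_commutatorElement] at hc
        exact hI.mem_commutator_of_commutatorElement_mem (hmem a ha) hc
  obtain ⟨a, ha, hv, hn⟩ := key k
  by_cases hc : ⁅X, X⁆ = ⊥
  · refine ⟨a, hv, hord a ha, fun h1 => hn (h1 ▸ one_mem _), ?_⟩
    have := hI.pow_mem_commutator (hmem a ha)
    rwa [hc, mem_bot] at this
  · have hlt : X ⊓ centralizer (X : Set H) < X :=
      lt_of_le_of_ne inf_le_left fun h1 => hc
        (commutator_eq_bot_iff_le_centralizer.2 (h1.ge.trans inf_le_right))
    have hle := hI.le_commutator hlt (Subgroup.inf_normalizer_le_normalizer_inf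
      ⟨hI.mem_normalizer, Core.le_normalizer_centralizer le_rfl hI.mem_normalizer⟩)
    have : f a ∉ centralizer (X : Set H) := fun h1 => hn (hle ⟨hmem a ha, h1⟩)
    rw [mem_centralizer_iff] at this
    push Not at this
    obtain ⟨b, hb, hab⟩ := this
    obtain ⟨b, hb', rfl⟩ := hYX.ge hb
    have hm : ⁅a, b⁆ ∈ Y := by
      rw [commutatorElement_def]
      exact Y.mul_mem (Y.mul_mem (Y.mul_mem ha hb') (Y.inv_mem ha)) (Y.inv_mem hb')
    refine ⟨⁅a, b⁆, hv.comm b, hord _ hm, ?_, ?_⟩
    · rw [map_commutatorElement, Ne, commutatorElement_eq_one_iff_mul_comm]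
      exact fun h1 => hab h1.symm
    · rw [map_commutatorElement]
      exact hI.pow_eq_one_of_mem_commutator (commutator_mem_commutator (hmem a ha) hb)

theorem Hyp.not_isQuasisimple [Finite G] (h : Hyp k G) : ¬ IsQuasisimple G := by
  intro hq
  have hs := hq.2
  let f := QuotientGroup.mk' (center G)
  have hf : Function.Surjective f := QuotientGroup.mk'_surjective _
  have hq' : IsQuasisimple (G ⧸ center G) := Core.isQuasisimple_of_surjective hq hf
  have hc := Core.not_isMulCommutative_of_isQuasisimple hq'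
  have h2 : 2 ∣ Nat.card (G ⧸ center G) := by
    by_contra h2
    exact Core.not_isSolvable_of_isQuasisimple hq' (OO.Feit_Thompson
      (Nat.not_even_iff_odd.1 fun h3 => h2 (even_iff_two_dvd.1 h3)))
  obtain ⟨a, hv, ⟨m, hm⟩, ha1, ha2⟩ :=
    exists_val hf (Coprime.not_hasNormalPComplement_of_isSimpleGroup hc h2) k
  obtain ⟨y, hy1, hyo, hty⟩ := Core.exists_inverted_odd_of_not_mem_pCore_two (t := f a)
    (by rw [← pow_two, ha2])
    (by rw [Coprime.pCore_eq_bot_of_isSimpleGroup hc]; exact fun h => ha1 (mem_bot.mp h))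
  obtain ⟨y, rfl⟩ := hf y
  obtain ⟨x, -, hxy, hx⟩ := Cls.exists_coprime_lift (n := 2) f y (Nat.coprime_two_right.mpr hyo)
  rw [← hxy] at hy1 hty hyo
  have hz : x * (a * x * a⁻¹) ∈ center G := by
    rw [← QuotientGroup.eq_one_iff, ← QuotientGroup.mk'_apply]
    change f _ = 1
    rw [map_mul, map_mul, map_mul, map_inv, hty, mul_inv_cancel]
  have hcomm : Commute x (a * x * a⁻¹) := by
    have := mem_center_iff.1 hz x
    rw [mul_assoc x] at this
    exact mul_left_cancel this
  have hpow : ⁅a, x⁆ ^ orderOf x = 1 := by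
    rw [commutatorElement_def, hcomm.symm.inv_right.mul_pow, conj_pow, inv_pow, pow_orderOf_eq_one]
    simp
  have h1 := h a x hv (by
    rw [hm]
    exact Nat.Coprime.pow_right _ (Nat.Coprime.coprime_dvd_left (orderOf_dvd_of_pow_eq_one hpow) hx))
  have h3 : f a * f x * (f a)⁻¹ = f x := by
    rw [← map_inv, ← map_mul, ← map_mul, commutatorElement_eq_one_iff_mul_comm.1 h1,
      mul_inv_cancel_right]
  exact hy1 (Cls.eq_one_of_odd_of_eq_inv hyo (h3.symm.trans hty))

theorem lcs_eq_bot_of_sylow [Finite G] [Group.IsNilpotent G]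
    (h : ∀ (p : ℕ) (_ : Fact p.Prime) (P : Sylow p G), (P : Subgroup G).lowerCentralSeries k = ⊥) :
    (⊤ : Subgroup G).lowerCentralSeries k = ⊥ := by
  let e := Sylow.directProductOfNormal (G := G) (fun P => inferInstance)
  have h1 := map_lowerCentralSeries ⊤ e.toMonoidHom k
  rw [map_top_of_surjective _ e.surjective] at h1
  rw [← h1, map_eq_bot_iff_of_injective _ e.injective, top_lowerCentralSeries_pi_of_finite,
    pi_eq_bot_iff]
  intro p
  have : Fact (p : ℕ).Prime := ⟨Nat.prime_of_mem_primeFactors p.2⟩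
  rw [top_lowerCentralSeries_pi_of_finite, pi_eq_bot_iff]
  intro P
  rw [← map_subtype_inj, Subgroup.map_bot, top_subtype_lowerCentralSeries]
  exact h p this P

theorem Hyp.exists_le_sup [Finite G] (h : Hyp k G) (t : ℕ) [ht : Fact t.Prime] :
    ∃ T : Subgroup G, IsPGroup t T ∧
      (⊤ : Subgroup G).lowerCentralSeries k ≤ T ⊔ centralizer (pCore t G : Set G) := by
  set C := centralizer (pCore t G : Set G)
  have hC : ∀ (p : ℕ), p.Prime → p ≠ t → ∀ a : G, Val k a → (∃ m, orderOf a = p ^ m) → a ∈ C := by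
    rintro p hp hpt a hv ⟨m, hm⟩
    obtain ⟨n, hn⟩ := (Core.isPGroup_pCore (G := G) t).exists_card_eq
    exact h.mem_centralizer hv (by
      rw [hm, hn]; exact Nat.coprime_pow_primes _ _ ht.out hp (Ne.symm hpt))
  let f := QuotientGroup.mk' C
  have hf : Function.Surjective f := QuotientGroup.mk'_surjective _
  have h1 : ∀ (p : ℕ) (_ : Fact p.Prime), p ≠ t → p ∣ Nat.card (G ⧸ C) →
      HasNormalPComplement p (G ⧸ C) := by
    intro p hp hpt _
    by_contra hn
    obtain ⟨a, hv, hm, ha1, -⟩ := exists_val hf hn k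
    exact ha1 ((QuotientGroup.eq_one_iff a).2 (hC p hp.out hpt a hv hm))
  obtain ⟨T⟩ : Nonempty (Sylow t G) := inferInstance
  obtain ⟨hn, hnil⟩ := Transfer.sylow_normal_of_forall_ne_hasNormalPComplement h1
    (T.mapSurjective hf)
  refine ⟨T, T.2, ?_⟩
  let f₂ := QuotientGroup.mk' ((T.mapSurjective hf : Sylow t (G ⧸ C)) : Subgroup (G ⧸ C))
  have hf₂ : Function.Surjective f₂ := QuotientGroup.mk'_surjective _
  have hφ : Function.Surjective (f₂.comp f) := hf₂.comp hf
  have hker : (f₂.comp f).ker = (T : Subgroup G) ⊔ C := by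
    rw [← MonoidHom.comap_ker, QuotientGroup.ker_mk', Sylow.coe_mapSurjective, comap_map_eq,
      QuotientGroup.ker_mk']
  rw [← hker, ← Subgroup.map_eq_bot_iff, map_lowerCentralSeries, map_top_of_surjective _ hφ]
  refine lcs_eq_bot_of_sylow fun p hp P => ?_
  obtain ⟨Q, rfl⟩ := Sylow.mapSurjective_surjective hφ p P
  rw [Sylow.coe_mapSurjective hφ, ← map_lowerCentralSeries, Subgroup.map_eq_bot_iff, hker]
  by_cases hpt : p = t
  · subst hpt
    obtain ⟨g, rfl⟩ := MulAction.exists_smul_eq G T Q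
    refine (lowerCentralSeries_le_self _ _).trans ?_
    rintro _ ⟨x, hx, rfl⟩
    rw [← hker]
    exact (MonoidHom.normal_ker _).conj_mem x (hker.ge (mem_sup_left hx)) g
  · refine le_sup_of_le_right (lcs_le_of_forall fun x hx hv => hC p hp.out hpt x hv ?_)
    obtain ⟨m, hm⟩ := IsPGroup.iff_orderOf.1 Q.2 ⟨x, hx⟩
    exact ⟨m, by rw [← hm, Subgroup.orderOf_mk]⟩

theorem Hyp.isNilpotent [Finite G] (h : Hyp k G) :
    Group.IsNilpotent ((⊤ : Subgroup G).lowerCentralSeries k) := by
  set Γ := (⊤ : Subgroup G).lowerCentralSeries k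
  have h1 : Mod.nres Γ ≤ centralizer (fittingSubgroup G : Set G) := by
    refine le_centralizer_iff.1 (Core.fitting_le_of_forall_pCore_le fun t ht =>
      le_centralizer_iff.1 ?_)
    obtain ⟨T, hT, hle⟩ := h.exists_le_sup t
    rw [← QuotientGroup.ker_mk' (centralizer (pCore t G : Set G)), Mod.nres_le_ker_iff]
    refine (IsPGroup.to_le (hT.map (QuotientGroup.mk' (centralizer (pCore t G : Set G)))) ?_).isNilpotent
    refine (map_mono hle).trans ?_
    rw [Subgroup.map_sup, (Core.map_mk_eq_bot_iff _ _).2 le_rfl, sup_bot_eq]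
  have h2 : centralizer (fittingSubgroup G : Set G) ≤ fittingSubgroup G := by
    by_contra hn
    obtain ⟨K, hK, -⟩ := Core.exists_component_le_of_not_le_fitting
      (Subgroup.Normal.isSubnormal inferInstance) le_rfl hn
    exact (h.subgroup K).not_isQuasisimple hK.2
  have hsol : Group.IsSolvable Γ := by
    have h3 : Group.IsNilpotent (Γ.map (QuotientGroup.mk' (fittingSubgroup G))) := by
      rw [← Mod.nres_le_ker_iff, QuotientGroup.ker_mk']; exact h1.trans h2
    refine Core.isSolvable_of_le (Core.isSolvable_comap (f := QuotientGroup.mk' (fittingSubgroup G))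
      (K := Γ.map _) ?_ inferInstance) (le_comap_map _ _)
    rw [QuotientGroup.ker_mk']; exact Core.isSolvable_fitting
  refine Mod.isNilpotent_of_forall_le_sup hsol fun t _ => ?_
  obtain ⟨T, hT, hle⟩ := h.exists_le_sup t
  exact ⟨T, hT, hle.trans (sup_le_sup_left (centralizer_le inf_le_left) _)⟩

end main

/-- A criterion of Baumslag–Wiegold type for a term of the lower central series. Let G be a finite group and k ≥ 0; call an element a left-normed commutator value of length k + 1 when it has the form [[…[x₀, x₁], …], x_k] with k + 1 entries (for k = 0, any element), where [a, b] = aba⁻¹b⁻¹. Then the (k+1)-st term γ_{k+1}(G) of the lower central series (γ₁(G) = G) is nilpotent if and only if for every two such values x, y of coprime orders, either every prime dividing o(x)·o(y) divides o(xy), or o(x)·o(y) ≤ o(xy). -/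
theorem result {G : Type*} [Group G] [Finite G] (k : ℕ) :
    Group.IsNilpotent ↥((⊤ : Subgroup G).lowerCentralSeries k) ↔
      ∀ x y : G, (∃ f : Fin (k + 1) → G, x = ((List.ofFn f).tail).foldl (fun a b => a * b * a⁻¹ * b⁻¹) (f 0)) → (∃ f : Fin (k + 1) → G, y = ((List.ofFn f).tail).foldl (fun a b => a * b * a⁻¹ * b⁻¹) (f 0)) → (orderOf x).Coprime (orderOf y) →
        (∀ r : ℕ, r.Prime → r ∣ orderOf x * orderOf y → r ∣ orderOf (x * y)) ∨ orderOf x * orderOf y ≤ orderOf (x * y) := by
  simp only [val_iff]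
  constructor
  · intro hn x y hx hy hc
    right
    rw [(Transfer.commute_of_coprime_of_isNilpotent hn hx.mem hy.mem hc).orderOf_mul_eq_mul_orderOf_of_coprime hc]
  · intro h
    refine Hyp.isNilpotent fun x n hx hc => ?_
    have ho : orderOf (n * x * n⁻¹) = orderOf x := by
      simpa using (MulAut.conj n).orderOf_eq x
    have e : ⁅x, n⁆ * (n * x * n⁻¹) = x := by rw [commutatorElement_def]; group
    have := h ⁅x, n⁆ (n * x * n⁻¹) (hx.comm n) (hx.conj n) (by rw [ho]; exact hc)
    rw [e, ho] at this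
    rw [← orderOf_eq_one_iff]
    rcases this with h1 | h1
    · refine Nat.eq_one_iff_not_exists_prime_dvd.2 fun r hr hd => ?_
      exact hr.one_lt.ne' (Nat.dvd_one.1 (hc ▸ Nat.dvd_gcd hd (h1 r hr (hd.mul_right _))))
    · have := orderOf_pos x
      have := orderOf_pos ⁅x, n⁆
      nlinarith

end Cfsg.Agent.S3900
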