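import Cfsg.Statements.S3901
import Cfsg.Agent.Lib.OO.BG3
import Cfsg.Agent.Lib.Coprime.FTFinal
import Cfsg.Agent.Lib.Char.Burnside

set_option autoImplicit false
set_option linter.unusedSectionVars false
open Cfsg

namespace Cfsg.Agent.S3901

open Subgroup Cfsg.Agent.Coprime Cfsg.Agent.OO
open scoped Pointwise

section
variable {G : Type*} [Group G] [Finite G] {N : Subgroup G} [N.Normal]

theorem eq_one_of_commute (h : ∀ x : G, x ∉ N → IsPrimePow (orderOf x)) {x n : G} (hx : x ∉ N)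
    (hn : n ∈ N) (hc : Commute x n) (hcop : (orderOf x).Coprime (orderOf n)) : n = 1 := by
  have h1 := h (x * n) fun e => hx (by simpa using N.mul_mem e (N.inv_mem hn))
  rw [hc.orderOf_mul_eq_mul_orderOf_of_coprime hcop] at h1
  rcases (hcop.isPrimePow_dvd_mul h1).1 dvd_rfl with h2 | h2
  · exact orderOf_eq_one_iff.1 (Nat.dvd_one.1 ((Nat.mul_dvd_mul_iff_left (orderOf_pos x)).1
      (by simpa using h2)))
  · have : orderOf x = 1 := Nat.dvd_one.1 ((Nat.mul_dvd_mul_iff_right (orderOf_pos n)).1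
      (by simpa using h2))
    exact absurd (orderOf_eq_one_iff.1 this ▸ N.one_mem) hx

theorem exists_lift (h : ∀ x : G, x ∉ N → IsPrimePow (orderOf x)) {T : Subgroup G}
    (hT : T ⊔ N = ⊤) {r : ℕ} (hr : r.Prime) (hd : r ∣ Nat.card (G ⧸ N)) :
    ∃ x ∈ T, orderOf (x : G ⧸ N) = r ∧ x ∉ N ∧ x ^ r ∈ N ∧ ∃ k, orderOf x = r ^ k := by
  have := Fact.mk hr
  obtain ⟨a, ha⟩ := exists_prime_orderOf_dvd_card' r hd
  obtain ⟨g, rfl⟩ := QuotientGroup.mk_surjective a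
  have hg : g ∈ T ⊔ N := hT ▸ mem_top g
  rw [← SetLike.mem_coe, mul_normal] at hg
  obtain ⟨t, ht, n, hn, rfl⟩ := hg
  have e : ((t * n : G) : G ⧸ N) = t := by
    rw [QuotientGroup.mk_mul, (QuotientGroup.eq_one_iff n).2 hn, mul_one]
  have ha' : orderOf (t : G ⧸ N) = r := by rw [← e]; exact ha
  have htN : t ∉ N := fun e => by
    rw [(QuotientGroup.eq_one_iff t).2 e, orderOf_one] at ha'
    exact hr.one_lt.ne ha'
  refine ⟨t, ht, ha', htN, ?_, ?_⟩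
  · rw [← QuotientGroup.eq_one_iff, QuotientGroup.mk_pow, ← ha', pow_orderOf_eq_one]
  · obtain ⟨p, k, hp, -, hk⟩ := (isPrimePow_nat_iff _).1 (h t htN)
    have h1 : r ∣ p ^ k := hk ▸ ha' ▸ orderOf_map_dvd (QuotientGroup.mk' N) t
    rw [(Nat.prime_dvd_prime_iff_eq hr hp).1 (hr.dvd_of_dvd_pow h1)]
    exact ⟨k, hk.symm⟩

theorem exists_third (hs : ¬ Group.IsSolvable (G ⧸ N)) {s : ℕ} (hp : s.Prime) :
    ∃ r : ℕ, r.Prime ∧ r ∣ Nat.card (G ⧸ N) ∧ r ≠ 2 ∧ r ≠ s := by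
  by_contra hc
  refine hs (Char.solvable_of_two_primes Nat.prime_two hp fun r h1 h2 => ?_)
  by_contra h3
  push Not at h3
  exact hc ⟨r, h1, h2, h3.1, h3.2⟩

theorem key (h : ∀ x : G, x ∉ N → IsPrimePow (orderOf x)) {T W : Subgroup G}
    (hT : T ⊔ N = ⊤) (hTW : T ≤ 𝐍(W)) (hWN : W ≤ N) (hW : W ≠ ⊥) (hab : Ab W) {s : ℕ}
    (hs : s.Prime) (hs2 : s ≠ 2) (hWs : IsPGroup s W) (hc : T ⊓ N ≤ 𝐂(W)) :
    Group.IsSolvable (G ⧸ N) := by
  by_contra hns
  have := Fact.mk hs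
  have hfix : ∀ {r : ℕ}, r.Prime → r ≠ s → ∀ x, x ∉ N → (∃ k, orderOf x = r ^ k) →
      ∀ w ∈ W, Commute x w → w = 1 := by
    rintro r hr hrs x hx ⟨k, hk⟩ w hw hxw
    refine eq_one_of_commute h hx (hWN hw) hxw ?_
    obtain ⟨j, hj⟩ := (IsPGroup.iff_orderOf.1 hWs) ⟨w, hw⟩
    rw [← Subgroup.orderOf_coe] at hj
    rw [hk, show orderOf w = s ^ j from hj]
    exact Nat.Coprime.pow _ _ ((Nat.coprime_primes hr hs).2 hrs)
  obtain ⟨y, hyT, hy, hyN, hy2, hyk⟩ := exists_lift h hT Nat.prime_two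
    (by by_contra e; exact hns (ft.solvable_of_not_dvd e))
  obtain ⟨r, hr, hrd, hr2, hrs⟩ := exists_third hns hs
  obtain ⟨x, hxT, hx, hxN, hxr, hxk⟩ := exists_lift h hT hr hrd
  have hinv : ∀ w ∈ W, y * w * y⁻¹ = w⁻¹ := by
    intro w hw
    have h1 : y * w * y⁻¹ ∈ W := conj_mem_of_norm (hTW hyT) hw
    have h2 : y ^ 2 ∈ 𝐂(W) := hc ⟨T.pow_mem hyT 2, hy2⟩
    have h3 := mem_centralizer_iff.1 h2 w hw
    have h4 := ab_iff.1 hab w hw _ h1
    have h5 := hfix Nat.prime_two hs2.symm y hyN hyk _ (W.mul_mem hw h1) (by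
      change y * (w * (y * w * y⁻¹)) = w * (y * w * y⁻¹) * y
      calc y * (w * (y * w * y⁻¹)) = (y * w * y⁻¹) * (y ^ 2 * w) * y⁻¹ := by rw [pow_two]; group
        _ = (y * w * y⁻¹) * w * y := by rw [← h3, pow_two]; group
        _ = _ := by rw [← h4])
    exact eq_inv_of_mul_eq_one_right h5
  -- the action on `W`
  let φ : T →* MulAut W := W.normalizerMonoidHom.comp (inclusion hTW)
  have hφ : ∀ (t : T) (w : W), ((φ t w : W) : G) = t * w * (t : G)⁻¹ := fun _ _ => rfl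
  have hφ1 : ∀ t : T, φ t = 1 ↔ (t : G) ∈ 𝐂(W) := by
    intro t
    constructor
    · intro e
      refine mem_centralizer_iff.2 fun w hw => ?_
      have := hφ t ⟨w, hw⟩
      rw [e] at this
      change w = t * w * (t : G)⁻¹ at this
      conv_lhs => rw [this]
      group
    · intro e
      ext w
      rw [hφ, ← mem_centralizer_iff.1 e w w.2]
      simp
  obtain ⟨w, hw, hw1⟩ := (W.bot_or_exists_ne_one).resolve_left hW
  have hord : ∀ {r : ℕ}, r.Prime → r ≠ s → ∀ x (hx : x ∈ T), x ∉ N → x ^ r ∈ N →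
      (∃ k, orderOf x = r ^ k) → orderOf (φ ⟨x, hx⟩) = r := by
    intro r hr hrs x hx hxN hxr hk
    have := Fact.mk hr
    refine orderOf_eq_prime ?_ fun e => hw1 (hfix hr hrs x hxN hk w hw ?_)
    · rw [← map_pow, hφ1]
      exact hc ⟨T.pow_mem hx r, hxr⟩
    · exact (mem_centralizer_iff.1 ((hφ1 _).1 e) w hw).symm
  have h1 := hord Nat.prime_two hs2.symm y hyT hyN hy2 hyk
  have h2 := hord hr hrs x hxT hxN hxr hxk
  have hcomm : Commute (φ ⟨y, hyT⟩) (φ ⟨x, hxT⟩) := by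
    ext v
    rw [MulAut.mul_apply, MulAut.mul_apply, hφ, hφ ⟨x, hxT⟩ (φ _ v), hinv _ (φ _ v).2, hφ, hφ,
      hinv _ v.2]
    simp [mul_assoc]
  have h3 := hcomm.orderOf_mul_eq_mul_orderOf_of_coprime
    (by rw [h1, h2]; exact (Nat.coprime_primes Nat.prime_two hr).2 hr2.symm)
  rw [h1, h2, ← map_mul] at h3
  have h4 : 2 * r ∣ orderOf (y * x) := by
    have := orderOf_map_dvd φ (⟨y, hyT⟩ * ⟨x, hxT⟩)
    rwa [h3, ← Subgroup.orderOf_coe] at this
  have h5 : y * x ∉ N := by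
    intro e
    rw [← QuotientGroup.eq_one_iff, QuotientGroup.mk_mul] at e
    rw [eq_inv_of_mul_eq_one_left e, orderOf_inv, hx] at hy
    exact hr2 hy
  obtain ⟨p, k, hp, -, hk⟩ := (isPrimePow_nat_iff _).1 (h _ h5)
  rw [← hk] at h4
  have h6 := (Nat.prime_dvd_prime_iff_eq Nat.prime_two hp).1
    (Nat.prime_two.dvd_of_dvd_pow ((Dvd.intro _ rfl).trans h4))
  have h7 := (Nat.prime_dvd_prime_iff_eq hr hp).1
    (hr.dvd_of_dvd_pow ((Dvd.intro_left _ rfl).trans h4))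
  exact hr2 (h7.trans h6.symm)

end

/-- Let N be a non-trivial normal subgroup of the finite group G such that every element of G outside N has prime power order. If N is not solvable, then G/N is solvable. -/
theorem result {G : Type*} [Group G] [Finite G] (N : Subgroup G) [N.Normal] (hN : N ≠ ⊥) (hns : ¬ Group.IsSolvable ↥N)
    (h : ∀ x : G, x ∉ N → IsPrimePow (orderOf x)) : Group.IsSolvable (G ⧸ N) := by
  by_contra hq
  obtain ⟨q, hq1, hq2, hq3⟩ : ∃ q : ℕ, q.Prime ∧ q ∣ ♯N ∧ q ≠ 2 := by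
    by_contra hc
    refine hns (Char.solvable_of_two_primes Nat.prime_two Nat.prime_two fun r h1 h2 => ?_)
    by_contra h3
    exact hc ⟨r, h1, h2, fun e => h3 (Or.inl e)⟩
  have := Fact.mk hq1
  obtain ⟨Q, hQ⟩ := exists_syl q N
  have hNt : N ⊴ ⊤ := ⟨le_top, le_normalizer_of_normal⟩
  have hfr : 𝐍(Q) ⊔ N = ⊤ := by
    have := (hQ.frattini hNt).sup_eq
    rwa [top_inf_eq, sup_comm] at this
  obtain ⟨T, ⟨hTQ, hT⟩, hmin⟩ := WellFounded.has_min (wellFounded_lt (α := Subgroup G))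
    {T | T ≤ 𝐍(Q) ∧ T ⊔ N = ⊤} ⟨_, le_rfl, hfr⟩
  have hnil : Nil (T ⊓ N) := by
    refine nil_of_le (Phi_nil T) ((le_Phi_iff inf_le_left).2 fun L hL hL2 => ?_)
    by_contra hne
    refine hmin L ⟨hL.trans hTQ, ?_⟩ (lt_of_le_of_ne hL hne)
    rw [eq_top_iff, ← hT]
    exact sup_le (hL2.trans (sup_le_sup_left inf_le_right _)) le_sup_right
  have hTn : T ≤ 𝐍(T ⊓ N) := le_norm_inf le_normalizer le_normalizer_of_normal
  by_cases hA : ∃ s : ℕ, s.Prime ∧ s ∣ ♯(T ⊓ N) ∧ s ≠ 2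
  · obtain ⟨s, hs1, hs2, hs3⟩ := hA
    have := Fact.mk hs1
    have hZ : Nil (Zc (T ⊓ N)) := nil_of_le hnil inf_le_left
    have hsZ : s ∣ ♯(Zc (T ⊓ N)) := by
      have : s ∈ piOf (Zc (T ⊓ N)) := by rw [piOf_Zc_of_nil hnil]; exact ⟨hs1, hs2⟩
      exact this.2
    have hS := syl_Op_of_nil s hZ
    refine hq (key h hT (le_norm_Op s (hTn.trans (norm_le_norm_Zc _)))
      (hS.le.trans (inf_le_left.trans inf_le_right)) (hS.ne_bot hsZ) (ab_of_le (Zc_ab _) hS.le) hs1 hs3 hS.isPGroup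
      (le_centralizer_iff.1 (hS.le.trans inf_le_right)))
  · have h2 : IsPGroup 2 (T ⊓ N : Subgroup G) := by
      refine PiGrp.isPGroup (piGrp_iff_piOf_subset.2 fun s hs => ?_)
      by_contra e
      exact hA ⟨s, hs.1, hs.2, e⟩
    obtain ⟨r, hr, hrd, hr2, hrq⟩ := exists_third hq hq1
    obtain ⟨x, hxT, hx, hxN, hxr, k, hxk⟩ := exists_lift h hT hr hrd
    have hK : PiGrp ({r} : Set ℕ)ᶜ (Q ⊔ T ⊓ N) :=
      (piGrp_compl_of_isPGroup hQ.isPGroup hrq.symm).sup (piGrp_compl_of_isPGroup h2 hr2.symm)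
        (Or.inr (inf_le_left.trans hTQ))
    have hcop : ∀ n ∈ Q ⊔ T ⊓ N, r.Coprime (orderOf n) := fun n hn =>
      (Nat.Prime.coprime_iff_not_dvd hr).2 fun e => (piGrp_compl_singleton hr).1 hK
        (e.trans (orderOf_dvd_natCard _ hn))
    have hxo : orderOf x = r := by
      have h3 := hcop (x ^ r) (mem_sup_right ⟨T.pow_mem hxT r, hxr⟩)
      have h4 : orderOf (x ^ r) ∣ r ^ k := hxk ▸ orderOf_pow_dvd r
      have h5 : orderOf (x ^ r) = 1 := Nat.eq_one_of_dvd_coprimes (h3.symm.pow_right k) dvd_rfl h4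
      have := Fact.mk hr
      exact orderOf_eq_prime (orderOf_eq_one_iff.1 h5) fun e => hxN (e ▸ N.one_mem)
    have hnK : Nil (Q ⊔ T ⊓ N) := by
      refine prime_Frobenius_sol_kernel_nil (R := zpowers x)
        ((zpowers_le.2 hxT).trans (le_norm_sup hTQ hTn)) (by rwa [Nat.card_zpowers, hxo]) ?_
      refine eq_bot_iff.2 fun n hn => ?_
      exact eq_one_of_commute h hxN (sup_le hQ.le inf_le_right hn.1)
        (mem_centralizer_iff.1 hn.2 x (mem_zpowers x)) (hxo ▸ hcop n hn.1)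
    have hc : T ⊓ N ≤ 𝐂(Q) := le_cent_of_nil_of_coprime hnK le_sup_right le_sup_left
      (coprime_of_isPGroup h2 (piGrp_compl_of_isPGroup hQ.isPGroup hq3))
    exact hq (key h hT (hTQ.trans (norm_le_norm_Zc _)) (inf_le_left.trans hQ.le)
      (Zc_ne_bot hQ.nil (hQ.ne_bot hq2)) (Zc_ab _) hq1 hq3 (hQ.isPGroup.to_le inf_le_left)
      (hc.trans (centralizer_le inf_le_left)))

end Cfsg.Agent.S3901
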