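import Cfsg.Statements.S3914
import Cfsg.Agent.Lib.WF.DG
import Cfsg.Agent.Lib.WF.J1
import Cfsg.Agent.Lib.SEA.Walter
import Cfsg.Agent.Lib.JR.Main

set_option autoImplicit false
open Cfsg

namespace Cfsg.Agent.S3914



/-- Let G be a finite group in which any two abelian subgroups of the same order are conjugate. If M is a non-abelian simple normal subgroup of G, then M is isomorphic to SL₂(2^f) with f ∈ {2, 3, 5}, or to PSL₂(q) for a prime power q ≥ 5 with q ≡ 3 or 5 (mod 8), or to the first Janko group J₁. -/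
theorem result {G : Type*} [Group G] [Finite G] (hB : ∀ A B : Subgroup G, IsMulCommutative ↥A → IsMulCommutative ↥B → Nat.card ↥A = Nat.card ↥B → ∃ g : G, B = A.map (MulAut.conj g).toMonoidHom) (M : Subgroup G) [M.Normal] (hs : IsSimpleGroup ↥M) (hna : ¬ IsMulCommutative ↥M) :
    (∃ (F : Type) (_ : Field F) (_ : Fintype F), (Fintype.card F = 2 ^ 2 ∨ Fintype.card F = 2 ^ 3 ∨ Fintype.card F = 2 ^ 5) ∧
        Nonempty (↥M ≃* Matrix.SpecialLinearGroup (Fin 2) F)) ∨
    (∃ (F : Type) (_ : Field F) (_ : Fintype F), 5 ≤ Fintype.card F ∧ (Fintype.card F % 8 = 3 ∨ Fintype.card F % 8 = 5) ∧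
        Nonempty (↥M ≃* Matrix.ProjectiveSpecialLinearGroup (Fin 2) F)) ∨
    Cfsg.Spor.IsoJ1 ↥M := by
  have h : WF.DG M := ⟨fun p _ => PGrp.ConjAb.conjAbP hB p, hs, hna⟩
  obtain ⟨S⟩ : Nonempty (Sylow 2 G) := inferInstance
  rcases h.cases (SEA.walter JR.jr) JR.jr with ⟨-, n, hn, ⟨e⟩⟩ | e | e
  · have := Fintype.ofFinite (GaloisField 2 (n + 1))
    refine .inl ⟨GaloisField 2 (n + 1), _, this, .inr ?_, ⟨e.trans BSW.pslEquiv⟩⟩
    rw [← Nat.card_eq_fintype_card, GaloisField.card 2 _ n.succ_ne_zero]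
    rcases (h.even hn e S).2.2.2.1 with rfl | rfl <;> simp
  · exact .inr (.inl e)
  · exact .inr (.inr (WF.isoJ1 e.1))

end Cfsg.Agent.S3914
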