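import Cfsg.Statements.S3916
import Cfsg.Agent.Lib.CY.Main

set_option autoImplicit false
open Cfsg

namespace Cfsg.Agent.S3916

open Subgroup Cfsg.Agent.OO Cfsg.Agent.CY

/-- Let G be a finite group in which, for every prime p, any two cyclic p-subgroups of the same order are conjugate. If G is not solvable, then G has normal subgroups K ≤ L such that K is solvable, L/K is a non-abelian simple group, and G/L is solvable. -/
theorem result {G : Type*} [Group G] [Finite G] (hP : ∀ (p : ℕ), p.Prime → ∀ A B : Subgroup G, IsCyclic ↥A → IsCyclic ↥B → IsPGroup p ↥A → Nat.card ↥A = Nat.card ↥B → ∃ g : G, B = A.map (MulAut.conj g).toMonoidHom) (hns : ¬ Group.IsSolvable G) :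
    ∃ (K L : Subgroup G) (_ : K.Normal) (_ : L.Normal), K ≤ L ∧ Group.IsSolvable ↥K ∧ Group.IsSolvable (G ⧸ L) ∧
      IsSimpleGroup (↥L ⧸ K.subgroupOf L) ∧ ¬ IsMulCommutative (↥L ⧸ K.subgroupOf L) := by
  have h : CP G := fun p hp a b ha e => by
    have := Fact.mk hp
    exact hP p hp _ _ inferInstance inferInstance (isPGroup_zpowers_iff.2 ha) (by simpa using e)
  have hπ := QuotientGroup.mk'_surjective (solvableRadical G)
  have h' := h.map _ hπ
  obtain ⟨S, hS, sS, cS⟩ := soc h' Core.solvableRadical_quotient_solvableRadical fun e =>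
    hns (Cls.isSolvable_of_normal_of_quotient _ Core.isSolvable_solvableRadical e)
  have h1 := sol_quo_soc h' sS cS
  let φ := (QuotientGroup.mk' S).comp (QuotientGroup.mk' (solvableRadical G))
  have h2 : ∀ z, z ∈ φ.ker ↔ QuotientGroup.mk' (solvableRadical G) z ∈ S := fun z =>
    QuotientGroup.eq_one_iff _
  let ψ : φ.ker →* S := ((QuotientGroup.mk' (solvableRadical G)).comp φ.ker.subtype).codRestrict S
    fun z => (h2 z).1 z.2
  have h3 : Function.Surjective ψ := fun ⟨z, hz⟩ => by
    obtain ⟨z, rfl⟩ := hπ z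
    exact ⟨⟨z, (h2 z).2 hz⟩, rfl⟩
  have h4 : (solvableRadical G).subgroupOf φ.ker = ψ.ker := by
    ext z
    rw [MonoidHom.mem_ker, Subtype.ext_iff, mem_subgroupOf]
    exact (QuotientGroup.eq_one_iff _).symm
  have e := (QuotientGroup.quotientMulEquivOfEq h4).trans
    (QuotientGroup.quotientKerEquivOfSurjective ψ h3)
  refine ⟨solvableRadical G, φ.ker, inferInstance, inferInstance, fun z hz => (h2 z).2 ?_,
    Core.isSolvable_solvableRadical,
    Group.isSolvable_of_isSolvable_injective (QuotientGroup.kerLift_injective φ), e.isSimpleGroup,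
    fun hc => not_ab sS cS ⟨⟨fun a b => e.symm.injective ?_⟩⟩⟩
  · rw [show QuotientGroup.mk' _ z = 1 from (QuotientGroup.eq_one_iff z).2 hz]
    exact one_mem S
  · rw [map_mul, map_mul]
    exact hc.is_comm.comm _ _

end Cfsg.Agent.S3916
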