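import Cfsg.Statements.S4189
import Cfsg.Agent.Lib.PGrp.MaxClass

set_option autoImplicit false
open Cfsg

namespace Cfsg.Agent.S4189

/-- Let P be a finite non-abelian 2-group whose commutator subgroup has index 4 and whose automorphism group is not a 2-group (some automorphism has order that is not a power of 2). Then P is isomorphic to the quaternion group of order 8. -/
theorem result {P : Type*} [Group P] [Finite P] (hP : IsPGroup 2 P) (hna : ¬ IsMulCommutative P) (h4 : (commutator P).index = 4) (haut : ¬ IsPGroup 2 (MulAut P)) : Nonempty (P ≃* QuaternionGroup 2) := by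
  obtain ⟨n, x, y, h⟩ := PGrp.dqs_of_index_commutator hP hna h4
  by_cases h1 : ∀ g ∉ Subgroup.zpowers x, orderOf g ≠ 2 ^ n
  · refine absurd (PGrp.isPGroup_mulAut_of_characteristic hP (hM := ?_) h.index ?_) haut
    · rw [Subgroup.characteristic_iff_map_le]
      intro α
      rw [MonoidHom.map_zpowers, Subgroup.zpowers_le]
      by_contra h2
      exact h1 _ h2 ((α.orderOf_eq x).trans h.2.2.1)
    · have h2 : Subgroup.zpowers (x ^ 2) ≤ Subgroup.zpowers x :=
        Subgroup.zpowers_le.mpr (pow_mem (Subgroup.mem_zpowers x) 2)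
      have h3 := Subgroup.relIndex_mul_index h2
      rw [h.index, ← h.commutator_eq, h4] at h3
      rw [h.frattini_eq, ← h.commutator_eq]
      omega
  push Not at h1
  obtain ⟨g, hg, ho⟩ := h1
  have h2 := orderOf_dvd_of_pow_eq_one (h.pow_four hg)
  rw [ho, show 4 = 2 ^ 2 from rfl, Nat.pow_dvd_pow_iff_le_right one_lt_two] at h2
  obtain rfl : n = 2 := le_antisymm h2 h.1
  have h3 : g * x * g⁻¹ = x⁻¹ := by
    rw [h.conj_eq hg]
    rcases h.2.2.2.2 with h | h | h
    exacts [h.1, h.1, absurd h.1 (by norm_num)]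
  refine PGrp.nonempty_mulEquiv_quaternion h.2.2.1 h.2.1 hg ?_ h3
  refine PGrp.eq_of_mem_of_card_two h.card_center (h.sq_mem_center hg)
    (h.center_eq ▸ Subgroup.mem_zpowers _) (iff_of_false ?_ ?_)
  · exact pow_ne_one_of_lt_orderOf two_ne_zero (by rw [ho]; norm_num)
  · exact pow_ne_one_of_lt_orderOf two_ne_zero (by rw [h.2.2.1]; norm_num)

end Cfsg.Agent.S4189
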