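import Cfsg.Statements.S3921
import Cfsg.Agent.Lib.CIT.Dih
import Cfsg.Agent.Lib.CIT.PSL2
import Cfsg.Agent.Lib.R1.ZStar
import Cfsg.Agent.Lib.OO.Final
import Cfsg.Agent.S4189

set_option autoImplicit false
open Cfsg

namespace Cfsg.Agent.S3921

open Subgroup Cfsg.Agent.Coprime Cfsg.Agent.OO Cfsg.Agent.CIT
open scoped Pointwise MatrixGroups

universe u

def SCN (G : Type*) [Group G] : Prop := ∀ H : Subgroup G, ¬ IsCyclic H → 𝐂(H) ≤ H

section
variable {G : Type u} [Group G] [Finite G] {A Q : Subgroup G} {s t x : G}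

theorem four (t1 : t ≠ 1) (t2 : t * t = 1) (s1 : s ≠ 1) (s2 : s * s = 1) (hne : t ≠ s)
    (hc : s * t = t * s) (ht : t ∈ Q) (hs : s ∈ Q) : IsEp 2 2 (zpowers t ⊔ zpowers s) Q :=
  (isEp_zpowers ht (orderOf_inv' t1 t2)).sup_two (isEp_zpowers hs (orderOf_inv' s1 s2))
    (by rw [cent_zpowers]; exact zpowers_le.2 (mem_cent1.2 hc)) fun e =>
      ((ZN.mem_zpowers_inv (orderOf_inv' s1 s2)).1 (e ▸ mem_zpowers t)).elim t1 hne

theorem cent_of_odd (hQ : IsPGroup 2 Q) (hA : IsEp 2 2 A Q) (hc : 𝐂(A) ≤ A) (ht : t ∈ A) (t1 : t ≠ 1)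
    (hx : x ∈ 𝐍(Q)) (ho : Odd (orderOf x)) (e : x ∈ 𝐂[t]) : x ∈ 𝐂(A) := by
  have t2 := orderOf_eq_of_abelem hA.abelem ht t1
  by_cases hab : Ab Q
  · obtain rfl : A = Q := le_antisymm hA.le ((le_cent_mono hab.le_cent le_rfl hA.le).trans hc)
    refine mem_cent_iff_conj.2 fun w hw => ?_
    by_cases hw' : w ∈ zpowers t
    · exact mem_cent1_iff_conj.1 (cent1_le_of_mem_zpowers hw' e)
    have h1 : x * w * x⁻¹ ∉ zpowers t := fun h => hw' (by
      have := conj_mem_of_norm' (cent_le_norm _ (cent_zpowers t ▸ e)) h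
      rwa [show x⁻¹ * (x * w * x⁻¹) * x = w by group] at this)
    refine (ZN.four_cases hA.card t2 ht hw (conj_mem_of_norm hx hw) hw' h1).elim id fun h => ?_
    have h2 : x ^ 2 ∈ 𝐂[w] := mem_cent1_iff_conj.2 (by
      rw [show x ^ 2 * w * (x ^ 2)⁻¹ = x * (x * w * x⁻¹) * x⁻¹ by rw [sq]; group, h,
        show x * (w * t) * x⁻¹ = x * w * x⁻¹ * (x * t * x⁻¹) by group, h, mem_cent1_iff_conj.1 e,
        mul_assoc, ZN.mul_self_of_inv t2, mul_one])
    exact mem_cent1_iff_conj.1 (zpowers_le.2 h2 (mem_zpowers_pow_iff.2 (Nat.coprime_two_left.2 ho)))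
  obtain ⟨n, hn⟩ := hQ.exists_card_eq
  have h4 := card_le hA.le
  rw [hA.card, hn, Nat.pow_le_pow_iff_right one_lt_two] at h4
  obtain ⟨n, rfl⟩ := Nat.exists_eq_add_of_le' h4
  have h5 := PGrp.index_commutator_of_maxClass hn (PGrp.nilpotencyClass_eq_of_centralizer_le
    hn (A := A.subgroupOf Q) (by rw [Core.card_subgroupOf_of_le hA.le, hA.card])
    (Core.centralizer_le_iff_map_subtype.2 (by
      rw [map_subgroupOf_eq_of_le hA.le]; exact inf_le_right.trans hc)))
  by_cases h6 : IsPGroup 2 (MulAut Q)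
  · have h7 := zpowers_le.2 hx
    refine cent_anti hA.le ((mem_ker_conjHom h7 ⟨x, mem_zpowers x⟩).1
      (Transfer.eq_one_of_coprime_of_mem_isPGroup (h6.to_subgroup ⊤) (Nat.Coprime.of_dvd_left
        (orderOf_map_dvd _ _) (by rw [orderOf_mk]; exact Nat.coprime_two_right.2 ho)) (mem_top _)))
  obtain ⟨e⟩ := S4189.result hQ hab h5 h6
  refine absurd (isCyclic_of_injective ((e.toMonoidHom.comp (inclusion hA.le)).codRestrict
    (zpowers (QuaternionGroup.a 1)) fun a => ?_) fun a b hab => inclusion_injective _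
      (e.injective (congrArg Subtype.val hab))) (hA.not_isCyclic le_rfl)
  have h5 : (e.toMonoidHom.comp (inclusion hA.le)) a ^ 2 = 1 := by
    rw [← map_pow, show a ^ 2 = 1 from Subtype.ext (hA.abelem.2 a a.2), map_one]
  generalize (e.toMonoidHom.comp (inclusion hA.le)) a = q at h5
  rcases q with i | i
  · exact ⟨(i.val : ℤ), by simp only [zpow_natCast, QuaternionGroup.a_one_pow]; simp⟩
  · have := orderOf_dvd_of_pow_eq_one h5
    rw [QuaternionGroup.orderOf_xa] at this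
    omega

theorem SCN.isCIT (h : SCN G) (hs : ∀ t : G, t ≠ 1 → t * t = 1 →
    ∃ s, s ≠ 1 ∧ s * s = 1 ∧ t ≠ s ∧ s * t = t * s) : IsCIT G := fun t x t1 t2 e ho => by
  obtain ⟨s, s1, s2, hne, hc⟩ := hs t t1 t2
  have h1 : s ∈ Op 2 𝐂[t] := by
    by_contra hn
    obtain ⟨⟨y, hy⟩, y1, h2, h3⟩ := Core.exists_inverted_odd_of_not_mem_pCore_two
      (t := (⟨s, mem_cent1.2 hc⟩ : 𝐂[t])) (Subtype.ext s2) fun e => hn ⟨_, e, rfl⟩
    have h3 : s * y * s⁻¹ = y⁻¹ := congrArg Subtype.val h3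
    rw [orderOf_mk] at h2
    have y1 : y ≠ 1 := fun e => y1 (Subtype.ext e)
    have h4 : ∀ w ∈ zpowers y, w * w = 1 → w = 1 := fun w hw w2 => by_contra fun w1 =>
      h2.not_two_dvd_nat (orderOf_inv' w1 w2 ▸ orderOf_dvd_of_mem_zpowers hw)
    have hn : zpowers s ≤ 𝐍(zpowers y) := zpowers_le.2 (mem_norm_of_conj_le (by
      rw [conj_zpowers, h3, zpowers_inv]))
    obtain ⟨a, ha, b, hb, e⟩ := (mem_sup_norm_left hn).1 (h _ (fun hh => y1 (h4 y (mem_zpowers y) (by
      rw [ab_iff.1 (ab_of_isCyclic hh) s (mem_sup_right (mem_zpowers s)) y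
        (mem_sup_left (mem_zpowers y)), mul_inv_cancel_right] at h3
      exact mul_eq_one_iff_eq_inv.2 h3))) (le_cent1_iff.1 (sup_le (zpowers_le.2 hy)
        (zpowers_le.2 (mem_cent1.2 hc)))))
    rcases (ZN.mem_zpowers_inv (orderOf_inv' s1 s2)).1 hb with rfl | rfl
    · exact t1 (h4 t (by simpa [← e] using ha) t2)
    · have : a = t * b := by rw [← e, mul_assoc, s2, mul_one]
      rw [h4 a ha (by rw [this, mul_assoc, ← mul_assoc b, hc, mul_assoc, s2, mul_one, t2]),
        one_mul] at e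
      exact hne e.symm
  have h2 : t ∈ Op 2 𝐂[t] := le_Op (normalIn_of_le_Zc (zpowers_le.2 ⟨mem_cent1_self t,
    le_cent1_iff.1 le_rfl⟩)) (ZN.isPGroup_zpowers_inv (orderOf_inv' t1 t2)) (mem_zpowers t)
  have hA := four t1 t2 s1 s2 hne hc h2 h1
  have h3 := h _ (hA.not_isCyclic le_rfl)
  exact Transfer.eq_one_of_coprime_of_mem_isPGroup hA.isPGroup (Nat.coprime_two_right.2 ho)
    (h3 (cent_of_odd (Op_isPGroup _ _) hA h3 (mem_sup_left (mem_zpowers t)) t1
      ((Op_normal _ _).norm (mem_cent1.2 e)) ho (mem_cent1.2 e)))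

theorem forward [IsSimpleGroup G] (hna : ¬ IsMulCommutative G) (h : SCN G) : IsFM G := by
  have hns : ¬ Group.IsSolvable G := fun hs =>
    hna ⟨⟨IsSimpleGroup.comm_iff_isSolvable.2 hs⟩⟩
  have hn : ∀ N : Subgroup G, N.Normal → Sol N → N = ⊥ := fun N hN hs =>
    (hN.eq_bot_or_eq_top).resolve_right fun e => hns (by
      subst e; exact Group.isSolvable_of_surjective (f := (⊤ : Subgroup G).subtype) topEquiv.surjective)
  have h0 := hn _ inferInstance (Feit_Thompson (Nat.coprime_two_right.1 (Core.coprime_card_pPrimeCore (G := G) 2)))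
  have h2 := hn _ inferInstance (sol_of_isPGroup (Core.isPGroup_pCore (G := G) 2))
  have h3 : pResidual 2 G = ⊤ := (Normal.eq_bot_or_eq_top inferInstance).resolve_left fun e => by
    have := (Transfer.isPGroup_iff_pResidual_eq_bot.2 e).isNilpotent
    exact hns inferInstance
  have hs : ∀ t : G, t ≠ 1 → t * t = 1 → ∃ s, s ≠ 1 ∧ s * s = 1 ∧ t ≠ s ∧ s * t = t * s :=
    fun t t1 t2 => by
      by_contra! hh
      have h4 := R1.zstar G t t2 fun g e => by_contra fun hne =>
        hh _ (BSW.conj_ne_one t1) (BSW.conj_mul_self t2) (Ne.symm hne) e.symm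
      rw [h0] at h4
      exact t1 (mem_bot.1 (hn (center G) inferInstance (sol_of_ab inferInstance) ▸ (mem_center_iff.2 fun g =>
        mul_inv_eq_iff_eq_mul.1 (mul_inv_eq_one.1 (h4 g)) : t ∈ center G)))
  obtain ⟨t, -, t1, t2⟩ := R1.exists_invol_mem (H := (⊤ : Subgroup G)) (by
    rw [card_top]; exact by_contra fun e => hns (Feit_Thompson (Nat.odd_iff.2 (by omega))))
  obtain ⟨s, s1, s2, hne, hc⟩ := hs t t1 t2
  have hA := four t1 t2 s1 s2 hne hc (mem_top t) (mem_top s)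
  obtain ⟨S, hS, hle⟩ := exists_syl_ge le_top hA.isPGroup
  exact isFM_of_four (h.isCIT hs) h3 h0 h2 hS (hA.of_le hle)
    (inf_le_right.trans (h _ (hA.not_isCyclic le_rfl)))

omit [Finite G] in
theorem SCN.of_equiv {G' : Type*} [Group G'] (h : SCN G') (e : G ≃* G') : SCN G := fun H hH x hx => by
  obtain ⟨y, hy, h1⟩ := h (H.map e.toMonoidHom) (fun hc => hH
    (isCyclic_of_injective (e.toMonoidHom.subgroupMap H) fun a b hab =>
      Subtype.ext (e.injective (congrArg Subtype.val hab)))) (map_cent_le _ _ ⟨x, hx, rfl⟩)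
  exact e.injective h1 ▸ hy

end

theorem backward {F : Type} [Field F] [Fintype F] (h : Fintype.card F = 4 ∨ Fintype.card F = 9 ∨
    ((Fintype.card F).Prime ∧ ∃ k : ℕ, Fintype.card F = 2 ^ k + 1 ∨ Fintype.card F = 2 ^ k - 1)) :
    SCN PSL(2, F) := fun H hH u hu => by
  by_cases u1 : u = 1
  · exact u1 ▸ one_mem H
  have hle := le_cent1_iff.2 hu
  obtain ⟨p, _, ⟨n, hn⟩, hp, hF⟩ := FiniteField.card' F
  have := Fact.mk hp
  simp only [PNat.mk_coe] at hF
  by_cases h1 : u * u ≠ 1 ∨ (2 : F) = 0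
  · obtain ⟨h2, h3⟩ := (cent_cases p u1 h1).resolve_left fun e => hH (isCyclic_of_le' e hle)
    obtain ⟨m, hm⟩ := (h2.to_le hle).exists_card_eq
    have h4 : 2 ≤ m := by
      by_contra! h4
      interval_cases m
      · exact hH (by rw [card_eq_one_iff.1 hm]; infer_instance)
      · exact hH (isCyclic_of_prime_card (hm.trans (pow_one p)))
    have h5 : n ≤ 2 := by
      by_contra! h5
      have h6 : p ^ 3 ∣ Fintype.card F := hF ▸ Nat.pow_dvd_pow p h5
      rcases h with h | h | h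
      · have := Nat.le_of_dvd (by omega) h6
        have := Nat.pow_le_pow_left hp.two_le 3
        omega
      · rw [h] at h6
        have := Nat.le_of_dvd (by omega) h6
        have h7 : p < 3 := by
          by_contra! h7
          have := Nat.pow_le_pow_left h7 3
          omega
        obtain rfl : p = 2 := by have := hp.two_le; omega
        omega
      · have := (hF ▸ h.1).eq_one_of_pow
        omega
    rw [eq_of_le_of_card_le hle (h3.trans (by rw [hF, hm]; exact Nat.pow_le_pow_right hp.pos (by omega)))]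
    exact mem_cent1_self u
  push Not at h1
  obtain ⟨K, hK, huK, h2, h3, h4⟩ := cent_inv h1.2 u1 h1.1
  obtain ⟨k, hk⟩ : ∃ k, 2 * ♯K = 2 ^ k := by
    have h5 : p ≠ 2 := by rintro rfl; exact h1.2 (CharP.cast_eq_zero F 2)
    rcases h with h | h | ⟨h, k, h' | h'⟩
    · exact absurd ((Nat.prime_dvd_prime_iff_eq hp Nat.prime_two).1 (hp.dvd_of_dvd_pow (n := 2)
        ((dvd_pow_self p hn.ne').trans (hF.symm.trans h).dvd))) h5
    · exact ⟨3, by omega⟩
    · rcases h3 with h3 | h3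
      · exact ⟨k, by rw [h3, h', Nat.add_sub_cancel]⟩
      · rcases k with _ | _ | k
        · have := h.two_le; exact ⟨2, by omega⟩
        · exact ⟨2, by omega⟩
        · rw [pow_succ, pow_succ] at h'; omega
    · have := h.two_le
      rcases h3 with h3 | h3
      · rcases k with _ | _ | k
        · omega
        · omega
        · rw [pow_succ, pow_succ] at h'; omega
      · exact ⟨k, by omega⟩
  obtain ⟨a, rfl⟩ := exists_zpowers_eq hK
  obtain ⟨w, ⟨hw, hw'⟩, w1⟩ := exists_mem_ne_one (H := H ⊓ zpowers a) fun e => hH (by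
    obtain ⟨g, hg, g1⟩ := exists_mem_ne_one (H := H) fun e => hH (by rw [e]; infer_instance)
    have h5 : ∀ w ∈ H, w ≠ 1 → w ∉ zpowers a := fun w hw w1 hw' => w1 (mem_bot.1 (e ▸ ⟨hw, hw'⟩))
    refine isCyclic_of_le' (B := zpowers g) inferInstance fun w hw => ?_
    by_cases w1 : w = 1
    · exact w1 ▸ one_mem _
    have := by_contra fun e => h5 _ (mul_mem hg hw) e (h4 _ (hle hg) _ (hle hw) (h5 g hg g1) (h5 w hw w1))
    rw [eq_inv_of_mul_eq_one_right this]
    exact inv_mem (mem_zpowers g))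
  rw [Nat.card_zpowers] at hk h2
  obtain ⟨k, rfl⟩ : ∃ j, k = j + 2 := by
    rcases k with _ | _ | k
    · omega
    · omega
    · exact ⟨k, rfl⟩
  have h5 : orderOf a = 2 ^ (k + 1) := by rw [pow_succ' 2 (k + 1)] at hk; omega
  obtain ⟨j, hj⟩ := exists_pow_of_mem (isPGroup_of_card_prime_pow (by rwa [Nat.card_zpowers])) hw'
  obtain ⟨j, h6, h7⟩ := exists_inv_pow w1 hj
  rw [eq_of_mem_zpowers h5 huK u1 h1.1, ← eq_of_mem_zpowers h5 (pow_mem hw' _) h6 h7]
  exact pow_mem hw _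

/-- Say that a group has self-centralizing non-cyclic subgroups when every non-cyclic subgroup H satisfies C_G(H) ≤ H. A non-abelian finite simple group has self-centralizing non-cyclic subgroups if and only if it is isomorphic to PSL₂(q) with q = 4, q = 9, or q a prime of the form 2^k + 1 or 2^k − 1. -/
theorem result {G : Type*} [Group G] [Finite G] [IsSimpleGroup G] (hna : ¬ IsMulCommutative G) :
    (∀ H : Subgroup G, ¬ IsCyclic ↥H → Subgroup.centralizer (H : Set G) ≤ H) ↔ ∃ (F : Type) (_ : Field F) (_ : Fintype F),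
      (Fintype.card F = 4 ∨ Fintype.card F = 9 ∨ ((Fintype.card F).Prime ∧ ∃ k : ℕ, Fintype.card F = 2 ^ k + 1 ∨ Fintype.card F = 2 ^ k - 1)) ∧
      Nonempty (G ≃* Matrix.ProjectiveSpecialLinearGroup (Fin 2) F) := by
  refine ⟨fun h => ?_, fun ⟨F, _, _, h, ⟨e⟩⟩ => (backward h).of_equiv e⟩
  obtain ⟨F, _, _, -, h1, e⟩ := forward hna h
  exact ⟨F, _, _, Or.inr (h1.imp_right fun ⟨h2, k, h3⟩ => ⟨h2, k, h3.imp_right (by omega)⟩), e⟩

end Cfsg.Agent.S3921
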