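import Cfsg.Statements.S3922
import Cfsg.Agent.Lib.Cls.FGroup
import Cfsg.Agent.S4033
import Cfsg.Agent.S4034

set_option autoImplicit false
open Cfsg

namespace Cfsg.Agent.S3922

open Subgroup Cfsg.Agent.Coprime Cfsg.Agent.Split Cfsg.Agent.FGroup
open scoped commutatorElement
set_option linter.unusedSectionVars false

local notation "𝐂[" x "]" => Subgroup.centralizer ({x} : Set _)

section
variable {G : Type*} [Group G] [Finite G] {m n : ℕ}

/-- The class sizes are among `1`, `m`, `m n`. -/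
structure Hyp (G : Type*) [Group G] (m n : ℕ) : Prop where
  hm : 1 < m
  hn : 1 < n
  idx : ∀ x : G, x ∉ center G → 𝐂[x].index = m ∨ 𝐂[x].index = m * n

namespace Hyp

variable {p : ℕ} [hp : Fact p.Prime]

theorem m_dvd (h : Hyp G m n) {x : G} (hx : x ∉ center G) : m ∣ 𝐂[x].index := by
  rcases h.idx x hx with e | e <;> rw [e]
  exact Dvd.intro _ rfl

theorem fact (h : Hyp G m n) (hpn : ¬ p ∣ n) {x : G} (hx : x ∉ center G) :
    𝐂[x].index.factorization p = m.factorization p := by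
  rcases h.idx x hx with e | e <;> rw [e]
  rw [Nat.factorization_mul (by have := h.hm; omega) (by have := h.hn; omega)]
  simp [Nat.factorization_eq_zero_of_not_dvd hpn]

theorem has (h : Hyp G m n) (hpm : p ∣ m) (hpn : ¬ p ∣ n) {x : G} (hx : x ∉ center G) :
    Has p 𝐂[x] := by
  obtain ⟨u, -, ho, hu⟩ := has_top_of_dvd hp.out (Cls.center_le_centralizer_single x)
    (hpm.trans (h.m_dvd hx))
  exact Has.of_factorization hp.out ⟨u, Cls.self_mem_centralizer_single u, ho, hu⟩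
    (Cls.center_le_centralizer_single u) ((h.fact hpn hx).trans (h.fact hpn hu).symm)

theorem relIndex_eq (h : Hyp G m n) {b c : G} (hb : b ∉ center G) (hle : 𝐂[c] ≤ 𝐂[b]) :
    𝐂[c].relIndex 𝐂[b] = 1 ∨ 𝐂[c].relIndex 𝐂[b] = n := by
  have h1 := relIndex_mul_index hle
  have hm := h.hm
  have hn := h.hn
  rcases h.idx b hb with e | e <;> rcases h.idx c (not_mem_center_of_le hb hle) with e' | e' <;>
    rw [e, e'] at h1
  · left; exact Nat.eq_of_mul_eq_mul_right (by omega) (h1.trans (one_mul m).symm)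
  · right; exact Nat.eq_of_mul_eq_mul_right (by omega) (h1.trans (mul_comm m n))
  · exfalso
    have h2 : m * n ∣ m := Dvd.intro_left _ h1
    have := Nat.le_of_dvd (by omega) h2
    nlinarith
  · left; exact Nat.eq_of_mul_eq_mul_right (by positivity) (h1.trans (one_mul _).symm)

theorem relIndex_of_commute (h : Hyp G m n) {b v : G} (hb : b ∉ center G) (hv : v ∈ 𝐂[b])
    (hc : (orderOf b).Coprime (orderOf v)) :
    𝐂[v].relIndex 𝐂[b] = 1 ∨ 𝐂[v].relIndex 𝐂[b] = n := by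
  have e := Cls.centralizer_single_mul (Cls.mem_centralizer_single_commute.mp hv).symm hc
  have := h.relIndex_eq (c := b * v) hb (e ▸ inf_le_left)
  rwa [e, inf_relIndex_left] at this

theorem not_dvd_relIndex (h : Hyp G m n) (hpn : ¬ p ∣ n) {b v : G} (hb : b ∉ center G)
    (hv : v ∈ 𝐂[b]) (hc : (orderOf b).Coprime (orderOf v)) : ¬ p ∣ 𝐂[v].relIndex 𝐂[b] := by
  rcases h.relIndex_of_commute hb hv hc with e | e <;> rw [e]
  · exact hp.out.one_lt.ne' ∘ Nat.dvd_one.mp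
  · exact hpn

theorem exists_split (h : Hyp G m n) (hpn : ¬ p ∣ n) {b : G} (hb : b ∉ center G)
    (ho : ∃ k, orderOf b = p ^ k) : ∃ B H : Subgroup G, IsSplit p 𝐂[b] B H := by
  obtain ⟨k, hk⟩ := ho
  exact exists_isSplit fun v hv hc => h.not_dvd_relIndex hpn hb hv (hk ▸ coprime_pow_of_coprime hc)

theorem le_centralizer (h : Hyp G m n) {s t : ℕ} [hs : Fact s.Prime] [ht : Fact t.Prime]
    (hsn : ¬ s ∣ n) (htn : ¬ t ∣ n) (hst : s ≠ t) {c d : G} (hc : c ∉ center G)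
    (hoc : ∃ k, orderOf c = s ^ k) (hd : d ∈ 𝐂[c]) (hod : ∃ k, orderOf d = t ^ k) :
    𝐂[c] ≤ 𝐂[d] := by
  obtain ⟨B, H, hS⟩ := h.exists_split hsn hc hoc
  obtain ⟨k, hk⟩ := hoc
  exact hS.le_centralizer hst.symm (fun v hv => h.not_dvd_relIndex htn hc (hS.H_le hv)
    (hk ▸ coprime_pow_of_coprime ((hS.memH v).mp hv).2)) hd hod

theorem exists_cfg (h : Hyp G m n) {s t : ℕ} [hs : Fact s.Prime] [ht : Fact t.Prime]
    (hsm : s ∣ m) (hsn : ¬ s ∣ n) (htn : ¬ t ∣ n) (hst : s ≠ t) {b c : G} (hb : b ∉ center G)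
    (hob : ∃ k, orderOf b = s ^ k) (hc : c ∉ center G) (hoc : ∃ k, orderOf c = t ^ k)
    (hbc : c ∈ 𝐂[b]) : ∃ D, Chain.Cfg s 𝐂[b] D := by
  obtain ⟨B, H, hS⟩ := h.exists_split hsn hb hob
  have e : 𝐂[b] = 𝐂[c] := le_antisymm (h.le_centralizer hsn htn hst hb hob hbc hoc)
    (h.le_centralizer htn hsn hst.symm hc hoc (mem_comm hbc) hob)
  have h1 : ∀ d ∈ B, 𝐂[b] ≤ 𝐂[d] := fun d hd => e ▸
    h.le_centralizer htn hsn hst.symm hc hoc (e ▸ hS.B_le hd) ((hS.memB d).mp hd).2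
  refine ⟨B, hS.memB, h1, fun d hd hdZ => le_antisymm ?_ (h1 d hd), fun hle => hb (hle ?_),
    hsm.trans (h.m_dvd hb)⟩
  · rw [e]
    exact h.le_centralizer hsn htn hst hdZ ((hS.memB d).mp hd).2 (h1 d hd hbc) hoc
  · exact (hS.memB b).mpr ⟨Cls.self_mem_centralizer_single b, hob⟩

theorem eq_of_dvd (h : Hyp G m n) {s t : ℕ} (hs : s.Prime) (ht : t.Prime)
    (hsm : s ∣ m) (hsn : ¬ s ∣ n) (htm : t ∣ m) (htn : ¬ t ∣ n) {x : G} (hxZ : x ∉ center G) :
    s = t := by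
  by_contra hst
  have := Fact.mk hs
  have := Fact.mk ht
  obtain ⟨b, -, hob, hb⟩ := h.has hsm hsn hxZ
  obtain ⟨c, hbc, hoc, hc⟩ := h.has htm htn hb
  obtain ⟨D, hD⟩ := h.exists_cfg hsm hsn htn hst hb hob hc hoc hbc
  obtain ⟨E, hE⟩ := h.exists_cfg htm htn hsn (Ne.symm hst) hc hoc hb hob (mem_comm hbc)
  have e : 𝐂[c] = 𝐂[b] := le_antisymm
    (h.le_centralizer htn hsn (Ne.symm hst) hc hoc (mem_comm hbc) hob)
    (h.le_centralizer hsn htn hst hb hob hbc hoc)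
  rw [e] at hE
  rcases Nat.even_or_odd (𝐂[b].relIndex (normalizer (𝐂[b] : Set G))) with he | ho
  · by_cases ht2 : t = 2
    · exact Chain.not_two_cfg_of_even (Ne.symm hst) (fun e => hst (e.trans ht2.symm)) hE hD he
    · exact Chain.not_two_cfg_of_even hst ht2 hD hE he
  · exact Chain.not_two_cfg_of_odd hst hD hE ho

theorem dvd_or_dvd (h : Hyp G m n) {s : ℕ} (hs : s.Prime) (h1 : Has s (⊤ : Subgroup G)) :
    s ∣ m ∨ s ∣ n := by
  by_contra hc
  push Not at hc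
  obtain ⟨u, -, ho, hu⟩ := h1
  have := Fact.mk hs
  refine hu (mem_center_of_forall_not_dvd (fun x hd => ?_) ho)
  by_cases hx : x ∈ center G
  · rw [Cls.index_centralizer_eq_one_iff.mpr hx, Nat.dvd_one] at hd
    exact hs.one_lt.ne' hd
  rcases h.idx x hx with e | e <;> rw [e] at hd
  · exact hc.1 hd
  · exact ((Nat.Prime.dvd_mul hs).mp hd).elim hc.1 hc.2

theorem two_primes (h : Hyp G m n) {x y : G} (hy : y ∉ center G) (ho : ∃ k, orderOf y = p ^ k)
    (hle : 𝐂[x] ≤ 𝐂[y]) (hx : 𝐂[x].relIndex 𝐂[y] = n) :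
    (∀ r : ℕ, r.Prime → r ∣ n → r = p) ∨ ∃ q : ℕ, q.Prime ∧
      (∀ r : ℕ, r.Prime → r ∣ n → r = p ∨ r = q) ∧
      ∀ s : ℕ, s.Prime → s ≠ p → s ≠ q → ∀ b ∈ 𝐂[y], (∃ k, orderOf b = s ^ k) → 𝐂[y] ≤ 𝐂[b] := by
  have hxy : x ∈ 𝐂[y] := hle (Cls.self_mem_centralizer_single x)
  by_cases hc : ∀ v ∈ 𝐂[y], (orderOf v).Coprime p → 𝐂[y] ≤ 𝐂[v]
  · left
    intro r hr hrn
    by_contra hrp
    have := Fact.mk hr
    obtain ⟨R, hR⟩ := exists_isSylowIn r 𝐂[y]
    have hRx : R ≤ 𝐂[x] := fun v hv => by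
      obtain ⟨k, hk⟩ := Core.exists_orderOf_eq_pow_of_mem hR.2.1 hv
      exact mem_comm (hc v (hR.1 hv) (hk ▸ coprime_of_ne_prime hr hrp) hxy)
    exact hR.2.2 ((hx ▸ hrn).trans (relIndex_dvd_of_le_left _ hRx))
  push Not at hc
  obtain ⟨v, hv, hov, hvy⟩ := hc
  obtain ⟨k, hk⟩ := ho
  have key : ∀ w : 𝐂[y], (orderOf w).Coprime p → 𝐂[w].index = 1 ∨ 𝐂[w].index = n := by
    intro w hw
    rw [Cls.index_centralizer_subgroup]
    exact h.relIndex_of_commute hy w.2 (hk ▸ coprime_pow_of_coprime (by rwa [orderOf_coe]))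
  have hov' : (orderOf (⟨v, hv⟩ : 𝐂[y])).Coprime p := by rwa [← orderOf_coe]
  have hvn : 𝐂[(⟨v, hv⟩ : 𝐂[y])].index = n := (key _ hov').resolve_left fun e => by
    rw [Cls.index_centralizer_subgroup] at e
    exact hvy (relIndex_eq_one.mp e)
  have h2 : (Set.range fun w : {w : 𝐂[y] // (orderOf w).Coprime p} =>
      (ConjClasses.mk (w : 𝐂[y])).carrier.ncard) = {1, n} := by
    ext j
    constructor
    · rintro ⟨w, rfl⟩
      simp only [Cls.ncard_carrier_mk]
      exact key w w.2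
    · rintro (rfl | rfl)
      · exact ⟨⟨1, by simp⟩, by
          simp only [Cls.ncard_carrier_mk]
          exact Cls.index_centralizer_eq_one_iff.mpr (one_mem _)⟩
      · exact ⟨⟨_, hov'⟩, by simp only [Cls.ncard_carrier_mk]; exact hvn⟩
  rcases S4033.result hp.out (h2 ▸ Set.ncard_pair h.hn.ne) with h3 | ⟨q, hq, P, Q, A, -, hA, hc,
    -, -, htop⟩
  · left
    obtain ⟨j, hj⟩ := (S4034.result hp.out).mpr h3 _ hov'
    rw [Cls.ncard_carrier_mk, hvn] at hj
    intro r hr hrn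
    exact (Nat.prime_dvd_prime_iff_eq hr hp.out).mp (hr.dvd_of_dvd_pow (hj ▸ hrn))
  · right
    have := Core.normal_of_le_center hA
    have hidx : ∀ r : ℕ, r.Prime → r ∣ A.index → r = p ∨ r = q := by
      intro r hr hd
      rw [← relIndex_top_right, ← htop, relIndex_sup_right] at hd
      have h4 := hd.trans (relIndex_dvd_card _ _)
      obtain ⟨a, ha⟩ := P.isPGroup'.exists_card_eq
      obtain ⟨b, hb⟩ := Q.isPGroup'.exists_card_eq
      rw [hc, ha, hb] at h4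
      exact ((Nat.Prime.dvd_mul hr).mp h4).imp
        (fun h => (Nat.prime_dvd_prime_iff_eq hr hp.out).mp (hr.dvd_of_dvd_pow h))
        fun h => (Nat.prime_dvd_prime_iff_eq hr hq.out).mp (hr.dvd_of_dvd_pow h)
    refine ⟨q, hq.out, fun r hr hrn => hidx r hr ((hvn ▸ hrn).trans
      (index_dvd_of_le (hA.trans (Cls.center_le_centralizer_single _)))), ?_⟩
    rintro s hs hsp hsq b hb ⟨j, hj⟩
    have h4 : zpowers (⟨b, hb⟩ : 𝐂[y]) ≤ A := Core.le_of_coprime_card_index (by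
      rw [Nat.card_zpowers, ← orderOf_coe]
      change (orderOf b).Coprime _
      rw [hj]
      exact Nat.Coprime.pow_left j ((Nat.Prime.coprime_iff_not_dvd hs).mpr
        fun hd => (hidx s hs hd).elim hsp hsq))
    intro g hg
    exact Cls.mem_centralizer_single.mpr
      (congrArg Subtype.val (mem_center_iff.mp (hA (h4 (mem_zpowers _))) ⟨g, hg⟩))

theorem isSolvable (h : Hyp G m n) {x y₀ : G} (hy₀ : y₀ ∉ center G) (hle₀ : 𝐂[x] ≤ 𝐂[y₀])
    (hne : 𝐂[x] ≠ 𝐂[y₀]) : Group.IsSolvable G := by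
  obtain ⟨p, hp, y, hyy, ho, hy⟩ := exists_prime_pow_not_mem hy₀
  have hle := hle₀.trans (Cls.centralizer_single_le_of_mem_zpowers hyy)
  have hxZ := not_mem_center_of_le hy hle
  have hrel : ∀ b : G, b ∉ center G → 𝐂[y] ≤ 𝐂[b] → 𝐂[x].relIndex 𝐂[b] = n := fun b hb hyb =>
    (h.relIndex_eq hb (hle.trans hyb)).resolve_left fun e => hne (le_antisymm hle₀
      (((Cls.centralizer_single_le_of_mem_zpowers hyy).trans hyb).trans (relIndex_eq_one.mp e)))
  have fin : ∀ s q : ℕ, s.Prime → q.Prime → (∀ r : ℕ, r.Prime → r ∣ n → r = s ∨ r = q) →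
      (∀ r : ℕ, r.Prime → r ∣ m → ¬ r ∣ n → r = s ∨ r = q) → Group.IsSolvable G := by
    intro s q hs hq h1 h2
    refine isSolvable_of_two hs hq fun r hr h3 => ?_
    by_cases hrn : r ∣ n
    · exact h1 r hr hrn
    · exact h2 r hr ((h.dvd_or_dvd hr h3).resolve_right hrn) hrn
  have := Fact.mk hp
  by_cases hμ : ∃ s : ℕ, s.Prime ∧ s ∣ m ∧ ¬ s ∣ n
  · obtain ⟨s, hs, hsm, hsn⟩ := hμ
    have hu : ∀ r : ℕ, r.Prime → r ∣ m → ¬ r ∣ n → r = s := fun r hr hrm hrn =>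
      h.eq_of_dvd hr hs hrm hrn hsm hsn hy
    rcases h.two_primes hy ho hle (hrel y hy le_rfl) with h1 | ⟨q, hq, h1, h2⟩
    · exact fin p s hp hs (fun r hr hd => Or.inl (h1 r hr hd))
        fun r hr h2 h3 => Or.inr (hu r hr h2 h3)
    by_cases hsp : s = p
    · exact fin p q hp hq h1 fun r hr h2 h3 => Or.inl ((hu r hr h2 h3).trans hsp)
    by_cases hsq : s = q
    · exact fin p q hp hq h1 fun r hr h2 h3 => Or.inr ((hu r hr h2 h3).trans hsq)
    have := Fact.mk hs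
    obtain ⟨b, hb, hob, hbZ⟩ := h.has hsm hsn hxZ
    have hyb := h2 s hs hsp hsq b (hle hb) hob
    rcases h.two_primes hbZ hob (hle.trans hyb) (hrel b hbZ hyb) with h3 | ⟨q', hq', h3, -⟩
    · exact fin s s hs hs (fun r hr hd => Or.inl (h3 r hr hd))
        fun r hr h2 h3 => Or.inl (hu r hr h2 h3)
    · exact fin s q' hs hq' h3 fun r hr h2 h3 => Or.inl (hu r hr h2 h3)
  · rcases h.two_primes hy ho hle (hrel y hy le_rfl) with h1 | ⟨q, hq, h1, -⟩
    · exact fin p p hp hp (fun r hr hd => Or.inl (h1 r hr hd))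
        fun r hr h2 h3 => absurd ⟨r, hr, h2, h3⟩ hμ
    · exact fin p q hp hq h1 fun r hr h2 h3 => absurd ⟨r, hr, h2, h3⟩ hμ

end Hyp

end

/-- A finite group whose conjugacy classes have exactly three distinct sizes (1 and two further values) is solvable. -/
theorem result {G : Type*} [Group G] [Finite G] (n₁ n₂ : ℕ) (h12 : n₂ < n₁) (h2 : 1 < n₂)
    (h : ∀ x : G, (Subgroup.centralizer ({x} : Set G)).index = 1 ∨ (Subgroup.centralizer ({x} : Set G)).index = n₂ ∨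
      (Subgroup.centralizer ({x} : Set G)).index = n₁)
    (h₁ : ∃ x : G, (Subgroup.centralizer ({x} : Set G)).index = n₁) (h₂ : ∃ x : G, (Subgroup.centralizer ({x} : Set G)).index = n₂) :
    Group.IsSolvable G := by
  have hidx : ∀ u : G, u ∉ center G → 𝐂[u].index = n₂ ∨ 𝐂[u].index = n₁ := fun u hu =>
    (h u).resolve_left fun e => hu (Cls.index_centralizer_eq_one_iff.mp e)
  by_cases hF : IsF G
  · obtain ⟨x, hx⟩ := h₁
    obtain ⟨y, hy⟩ := h₂
    refine hF.isSolvable (x := x) (y := y) (fun hZ => ?_) (fun hZ => ?_) (by omega) fun u hu => ?_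
    · have := Cls.index_centralizer_eq_one_iff.mpr hZ
      omega
    · have := Cls.index_centralizer_eq_one_iff.mpr hZ
      omega
    · rw [hx, hy]; exact (hidx u hu).symm
  · unfold IsF at hF
    push Not at hF
    obtain ⟨x, y, hy, hle, hne⟩ := hF
    have h3 := relIndex_mul_index hle
    have h4 : 𝐂[x].relIndex 𝐂[y] ≠ 1 := fun e => hne (le_antisymm hle (relIndex_eq_one.mp e))
    have h5 : 𝐂[x].relIndex 𝐂[y] ≠ 0 := index_ne_zero_of_finite
    have h6 : n₁ = n₂ * 𝐂[x].relIndex 𝐂[y] := by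
      have h7 : 2 ≤ 𝐂[x].relIndex 𝐂[y] := by omega
      rcases hidx y hy with e | e <;> rcases hidx x (not_mem_center_of_le hy hle) with e' | e' <;>
        rw [e, e'] at h3
      · nlinarith
      · rw [← h3, mul_comm]
      · nlinarith
      · nlinarith
    exact Hyp.isSolvable (m := n₂) (n := 𝐂[x].relIndex 𝐂[y]) ⟨h2, by omega, h6 ▸ hidx⟩ hy hle hne

end Cfsg.Agent.S3922
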