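import Cfsg.Statements.S3923
import Cfsg.Agent.Lib.HG.Fin

set_option autoImplicit false
open Cfsg

namespace Cfsg.Agent.S3923



/-- Call a finite group homogeneous when every isomorphism between two of its subgroups is the restriction of an automorphism of the whole group. A homogeneous quasisimple finite group (perfect with simple central quotient) is isomorphic to SL₂(5) if it is not simple, and to PSL₂(5) or PSL₂(7) if it is simple. -/
theorem result {G : Type*} [Group G] [Finite G] (hhom : ∀ (A B : Subgroup G) (e : ↥A ≃* ↥B), ∃ φ : G ≃* G, ∀ a : ↥A, φ (a : G) = (e a : G)) (hq : Cfsg.IsQuasisimple G) :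
    (¬ IsSimpleGroup G → ∃ (F : Type) (_ : Field F) (_ : Fintype F), Fintype.card F = 5 ∧ Nonempty (G ≃* Matrix.SpecialLinearGroup (Fin 2) F)) ∧
    (IsSimpleGroup G → ∃ (F : Type) (_ : Field F) (_ : Fintype F), (Fintype.card F = 5 ∨ Fintype.card F = 7) ∧
      Nonempty (G ≃* Matrix.ProjectiveSpecialLinearGroup (Fin 2) F)) := by
  obtain ⟨K, h⟩ := (Cfsg.Agent.HG.hom_of hhom).qs hq
  obtain ⟨L, _, _, f, hf, hL, h1, -, h2⟩ := h.quo
  have := hL.smp
  have key : f.ker = ⊥ → Nonempty (G ≃* L) := fun e => ⟨Subgroup.topEquiv.symm.trans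
    (MulEquiv.ofBijective f ⟨(MonoidHom.ker_eq_bot_iff f).1 e, hf⟩)⟩
  refine ⟨fun hs => ?_, fun hs => ?_⟩
  · have := Fact.mk Nat.prime_five
    obtain ⟨e⟩ := h2.resolve_left fun e => (key e).elim fun e => hs e.isSimpleGroup
    exact ⟨ZMod 5, inferInstance, inferInstance, rfl, ⟨Subgroup.topEquiv.symm.trans e⟩⟩
  · have := (Subgroup.topEquiv (G := G)).isSimpleGroup
    obtain ⟨e⟩ := key ((IsSimpleGroup.eq_bot_or_eq_top_of_normal f.ker inferInstance).resolve_right
      fun e => by
        obtain ⟨y, hy⟩ := exists_ne (1 : L)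
        obtain ⟨x, rfl⟩ := hf y
        exact hy (e.ge (Subgroup.mem_top x)))
    obtain ⟨F, _, _, hF, ⟨e'⟩⟩ := hL.psl
    exact ⟨F, _, _, hF, ⟨e.trans e'⟩⟩

end Cfsg.Agent.S3923
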