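import Cfsg.Statements.S3930
import Cfsg.Agent.Lib.Pyr.Main
import Cfsg.Agent.Lib.Pyr.Ex

set_option autoImplicit false
open Cfsg

namespace Cfsg.Agent.S3930

/-- Call a finite group m-pyramidal when it has exactly m involutions and they form a single conjugacy class. Let p be an odd prime and k ≥ 1. Then every p^k-pyramidal finite group is solvable if and only if k is odd or p^k = 9. -/
theorem result (p k : ℕ) (hp : p.Prime) (hp2 : p ≠ 2) (hk : 1 ≤ k) :
    (∀ (G : Type) [Group G] [Finite G], Nat.card {x : G // orderOf x = 2} = p ^ k →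
      (∀ x y : G, orderOf x = 2 → orderOf y = 2 → ∃ g : G, g * x * g⁻¹ = y) → Group.IsSolvable G) ↔ (Odd k ∨ p ^ k = 9) := by
  constructor
  · intro H
    by_contra hc
    push Not at hc
    obtain ⟨hodd, h9⟩ := hc
    obtain ⟨m, rfl⟩ := Nat.not_odd_iff_even.mp hodd
    have hm : m ≠ 0 := by omega
    haveI := Fact.mk hp
    have hcard : Nat.card (GaloisField p m) = p ^ m := GaloisField.card p m hm
    have h2 : (2 : GaloisField p m) ≠ 0 := by
      intro h
      have : p ∣ 2 := (CharP.cast_eq_zero_iff (GaloisField p m) p 2).mp (by exact_mod_cast h)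
      exact hp2 ((Nat.prime_dvd_prime_iff_eq hp Nat.prime_two).mp this)
    have h3 : 3 < Nat.card (GaloisField p m) := by
      rw [hcard]
      have h1 : p ≤ p ^ m := Nat.le_self_pow hm p
      have h2' := hp.two_le
      have h3' : p ^ m ≠ 3 := by
        intro h
        apply h9
        rw [pow_add, h]; rfl
      omega
    obtain ⟨a, ha, hasq⟩ := Pyr.exists_sq_ne_one h3
    apply Pyr.aff_not_solvable ha hasq h2
    apply H
    · rw [Pyr.aff_card h2, hcard, pow_add, pow_two]
    · exact Pyr.aff_conj h2
  · intro h G _ _ hc hconj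
    exact Pyr.pyramidal hp hp2 h hc hconj

end Cfsg.Agent.S3930
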