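import Cfsg.Statements.S4016
import Cfsg.Agent.Lib.Wal.CycP

set_option autoImplicit false
open Cfsg

namespace Cfsg.Agent.S4016

open Subgroup Cfsg.Agent.OO Cfsg.Agent.Coprime in
theorem aux {p : ℕ} [Fact p.Prime] (G : Type*) [Group G] [Finite G] :
    (∀ Q : Subgroup G, IsPGroup p Q → IsCyclic Q) → (∀ K : Subgroup G, ¬ p ∣ ♯K → Ab K) →
      ∀ Q : Subgroup G, Syl p Q ⊤ → HasNormalPComplement p G ∨ Q.Normal := by
  refine Core.induction_on_card (P := fun G _ _ => (∀ Q : Subgroup G, IsPGroup p Q → IsCyclic Q) →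
    (∀ K : Subgroup G, ¬ p ∣ ♯K → Ab K) → ∀ Q : Subgroup G, Syl p Q ⊤ →
      HasNormalPComplement p G ∨ Q.Normal) ?_ G
  · intro G _ _ ih h1 h2 Q hQ
    by_contra h3
    rw [not_or] at h3
    refine Wal.CP.false (G := G) (p := p) ⟨h1, h2, fun H P hH hP => ?_, fun e => h3.1
      (Transfer.hasNormalPComplement_top_iff.1 (pnil_iff_hasNormalPComplement.1 e)), fun P hP e => ?_⟩
    · refine (ih H (Core.card_lt_of_ne_top hH) (fun R hR => ?_) (fun K hK => ?_) (P.subgroupOf H)
        ⟨le_top, isPGroup_subgroupOf hP.isPGroup H, by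
          rw [relIndex_top_right]; exact hP.not_dvd⟩).imp pnil_iff_hasNormalPComplement.2
        fun e => (normalIn_iff_subgroupOf.2 ⟨hP.le, e⟩).norm
      · exact (R.equivMapOfInjective _ H.subtype_injective).isCyclic.2 (h1 _ (hR.map _))
      · have := h2 (K.map H.subtype) (by rwa [card_map_of_injective H.subtype_injective])
        exact ab_iff.2 fun a ha b hb => Subtype.ext
          (ab_iff.1 this a (mem_map_of_mem _ ha) b (mem_map_of_mem _ hb))
    · exact h3.2 (normalizer_eq_top_iff.1 (top_le_iff.1 (by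
        rwa [hQ.eq_of_le_syl hP (hP.le_of_norm le_top hQ.isPGroup (.inr (le_top.trans e)))])))

/-- Let G be a finite group and p a prime such that a Sylow p-subgroup P of G is cyclic and every subgroup of G of order prime to p is abelian. Then G has a normal p-complement or P is normal in G. -/
theorem result {G : Type*} [Group G] [Finite G] {p : ℕ}
    [Fact p.Prime] (P : Sylow p G) (hcyc : IsCyclic P)
    (hab : ∀ H : Subgroup G, ¬ p ∣ Nat.card H → IsMulCommutative H) :
    Cfsg.HasNormalPComplement p G ∨ (P : Subgroup G).Normal := by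
  refine aux G (fun Q hQ => ?_) hab P (Coprime.isSylowIn_top P)
  obtain ⟨g, -, h⟩ := (Coprime.isSylowIn_top P).exists_conj_le le_top hQ
  exact OO.isCyclic_conj.1 (OO.isCyclic_of_le' hcyc h)

end Cfsg.Agent.S4016
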