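import Cfsg.Statements.S4017
import Cfsg.Agent.Lib.Core.MixC

set_option autoImplicit false
open Cfsg

namespace Cfsg.Agent.S4017

open Subgroup Cfsg.Agent.Coprime Cfsg.Agent.OO

/-- Let G be a finite group and let p and q be distinct primes dividing the order of G, with p odd. Suppose that p divides the order of every proper subgroup of G that is neither a q-group nor of order prime to q. Let q^a be the q-part of the order of G. If p > q^a − 1, or if p = q^a − 1 and the Sylow p-subgroups of G are abelian, then p and q are the only primes dividing the order of G. -/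
theorem result {G : Type*} [Group G] [Finite G]
    {p q : ℕ} (hp : p.Prime) (hq : q.Prime) (hpq : p ≠ q) (hp2 : p ≠ 2)
    (hpG : p ∣ Nat.card G) (hqG : q ∣ Nat.card G)
    (hmix : ∀ H : Subgroup G, H ≠ ⊤ → ¬ IsPGroup q H → q ∣ Nat.card H → p ∣ Nat.card H)
    (hlarge : q ^ (Nat.card G).factorization q - 1 < p ∨
      (p = q ^ (Nat.card G).factorization q - 1 ∧ ∀ P : Sylow p G, IsMulCommutative P)) :
    ∀ r : ℕ, r.Prime → r ∣ Nat.card G → r = p ∨ r = q := by
  have := Fact.mk hp
  have := Fact.mk hq
  have h1 : ∀ Q : Subgroup G, IsPGroup q Q → ♯Q ≤ q ^ (Nat.card G).factorization q := by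
    intro Q hQ
    obtain ⟨S, hS, h1⟩ := exists_syl_ge (le_top : Q ≤ ⊤) hQ
    have h2 := hS.card_eq
    rw [card_top] at h2
    exact h2 ▸ card_le h1
  have h2 : Mix.Hyp p q G := by
    refine ⟨fun H h2 h3 => by_contra fun h4 => h2 (hmix H ?_ h4 h3), fun Q hQ => ?_,
      hlarge.imp (fun h Q hQ => ?_) fun h P hP => ?_⟩
    · rintro rfl; exact h2 (by rwa [card_top])
    · have := h1 Q hQ
      rcases hlarge with h | ⟨h, -⟩ <;> omega
    · have := h1 Q hQ
      omega
    · obtain ⟨S, hS⟩ := hP.exists_le_sylow
      exact ab_of_le (h.2 S) hS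
  intro r hr hd
  simpa [or_comm] using h2.piGrp hpq hp2 hqG r hr hd

end Cfsg.Agent.S4017
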