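import Cfsg.Statements.S4018
import Cfsg.Agent.Lib.Comb.Friend
import Cfsg.Agent.Lib.Frob.SameFixed
import Cfsg.Agent.Lib.Frob.TwoFrob
import Cfsg.Agent.Lib.Frob.QuatSquare
import Cfsg.Agent.Lib.Coprime.SylowCount
import Cfsg.Agent.Lib.Cls.Solv

set_option autoImplicit false
open Cfsg

namespace Cfsg.Agent.S4018

open Subgroup

theorem mul_mem_of_card {G : Type*} [Group G] [Finite G] {H K : Subgroup G} (hle : H ≤ K)
    (hc : Nat.card K = 2 * Nat.card H) {x t : G} (hx : x ∈ K) (ht : t ∈ K) (hxH : x ∉ H)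
    (htH : t ∉ H) : x * t ∈ H := by
  have h1 : (H.subgroupOf K).index = 2 := by
    have := Core.card_mul_relIndex_of_le hle
    rw [hc, mul_comm 2] at this
    exact Nat.eq_of_mul_eq_mul_left Nat.card_pos this
  exact (mul_mem_iff_of_index_two h1 (a := ⟨x, hx⟩) (b := ⟨t, ht⟩)).2 (iff_of_false hxH htH)

theorem mul_self_of_two {G : Type*} [Group G] {s : G} (hs : orderOf s = 2) : s * s = 1 := by
  rw [← sq, ← hs, pow_orderOf_eq_one]

theorem ne_one_of_two {G : Type*} [Group G] {s : G} (hs : orderOf s = 2) : s ≠ 1 := by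
  rintro rfl; simp at hs

theorem orderOf_conj {G : Type*} [Group G] (g x : G) : orderOf (g * x * g⁻¹) = orderOf x := by
  simpa using (MulAut.conj g).orderOf_eq x

theorem eq_of_mem_zpowers_two {G : Type*} [Group G] {z x : G} (hz : orderOf z = 2)
    (hx : x ∈ zpowers z) (x1 : x ≠ 1) : x = z := by
  obtain ⟨k, rfl⟩ := hx
  dsimp only at x1 ⊢
  rcases Int.even_or_odd' k with ⟨j, rfl | rfl⟩
  · exact absurd (by rw [zpow_mul, zpow_two, mul_self_of_two hz, one_zpow]) x1
  · rw [zpow_add, zpow_mul, zpow_two, mul_self_of_two hz, one_zpow, one_mul, zpow_one]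

/-- The final combinatorial step. -/
theorem final {G : Type*} [Group G] [Finite G] {N C : Subgroup G} {z : G} (hz : orderOf z = 2)
    (hle : C ≤ N) (hNC : Nat.card N = 2 * Nat.card C) (hC : 2 < Nat.card C)
    (hTI : ∀ g, ∀ x ∈ C, x ≠ 1 → g * x * g⁻¹ ∈ C → g ∈ N)
    (hN : ∀ g, g ∈ N ↔ g * z = z * g) (huz : ∀ c ∈ C, orderOf c = 2 → c = z)
    (hinv : ∀ u ∈ N, u ∉ C → ∀ c ∈ C, u * c * u⁻¹ = c⁻¹)
    (hsq : ∀ u ∈ N, u ∉ C → u * u = 1) (hzC : z ∈ C)
    (hconj : ∀ w : G, orderOf w = 2 → ∃ g, g * w * g⁻¹ = z)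
    (hex : ∀ u v : G, orderOf u = 2 → orderOf v = 2 → u ≠ v → ∃ w, orderOf w = 2 ∧
      (u ≠ w ∧ u * w = w * u) ∧ (v ≠ w ∧ v * w = w * v)) : False := by
  have : Fact (Nat.Prime 2) := ⟨Nat.prime_two⟩
  have huniq : ∀ u v w : G, orderOf u = 2 → orderOf v = 2 → orderOf w = 2 → u ≠ v →
      (u ≠ z ∧ u * z = z * u) → (v ≠ z ∧ v * z = z * v) → (u ≠ w ∧ u * w = w * u) →
      (v ≠ w ∧ v * w = w * v) → w = z := by
    intro u v w hu hv hw huv h1 h2 h3 h4
    have huN := (hN u).2 h1.2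
    have hvN := (hN v).2 h2.2
    have huC : u ∉ C := fun e => h1.1 (huz u e hu)
    have hvC : v ∉ C := fun e => h2.1 (huz v e hv)
    have hx := mul_mem_of_card hle hNC huN hvN huC hvC
    have hx1 : u * v ≠ 1 := fun e => huv (mul_right_cancel (e.trans (mul_self_of_two hv).symm))
    have hc : w * (u * v) * w⁻¹ = u * v := by
      rw [← mul_assoc, ← h3.2, mul_assoc u, ← h4.2]; group
    have hwN : w ∈ N := hTI w _ hx hx1 (hc.symm ▸ hx)
    by_contra hwz
    have hwC : w ∉ C := fun e => hwz (huz w e hw)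
    have h5 : u * v = z := huz _ hx (orderOf_eq_prime (by
      rw [sq, ← eq_inv_iff_mul_eq_one, ← hinv w hwN hwC _ hx, hc]) hx1)
    have h6 : u * w = z := huz _ (mul_mem_of_card hle hNC huN hwN huC hwC) (orderOf_eq_prime (by
      rw [Commute.mul_pow h3.2, sq, sq, mul_self_of_two hu, mul_self_of_two hw, one_mul])
      fun e => h3.1 (mul_right_cancel (e.trans (mul_self_of_two hw).symm)))
    exact h4.1 (mul_left_cancel (h5.trans h6.symm))
  let V := {w : G // orderOf w = 2}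
  have : Nonempty V := ⟨⟨z, hz⟩⟩
  let R : V → V → Prop := fun v w => (v : G) ≠ w ∧ (v : G) * w = w * v
  have hcj : ∀ g a b : G, (a ≠ b ∧ a * b = b * a) →
      (g * a * g⁻¹ ≠ g * b * g⁻¹ ∧ g * a * g⁻¹ * (g * b * g⁻¹) = g * b * g⁻¹ * (g * a * g⁻¹)) :=
    fun g a b h => ⟨fun e => h.1 (by simpa using e), by simp [h.2]⟩
  refine absurd (Comb.le_two_of_regular_friendship R (fun v w h => ⟨h.1.symm, h.2.symm⟩)
    (fun v h => h.1 rfl) (fun u v huv => ?_) (d := Nat.card C) fun v => ?_) (not_le.2 hC)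
  · have huv' : (u : G) ≠ v := fun e => huv (Subtype.ext e)
    obtain ⟨w, hw, h1, h2⟩ := hex u v u.2 v.2 huv'
    refine ⟨⟨w, hw⟩, ⟨h1, h2⟩, fun w' ⟨h3, h4⟩ => Subtype.ext ?_⟩
    obtain ⟨g, hg⟩ := hconj w hw
    have := huniq (g * u * g⁻¹) (g * v * g⁻¹) (g * w' * g⁻¹) (by rw [orderOf_conj, u.2])
      (by rw [orderOf_conj, v.2]) (by rw [orderOf_conj, w'.2]) (fun e => huv' (by simpa using e))
      (hg ▸ hcj g _ _ h1) (hg ▸ hcj g _ _ h2) (hcj g _ _ h3) (hcj g _ _ h4)
    rw [← hg] at this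
    simpa using this
  · obtain ⟨g, hg⟩ := hconj v v.2
    obtain ⟨t, htN, htC⟩ : ∃ t ∈ N, t ∉ C := by
      by_contra hcon
      push Not at hcon
      have := card_le_of_le (show N ≤ C from hcon)
      omega
    symm
    refine Nat.card_eq_of_bijective (fun c : C => (⟨⟨g⁻¹ * (c * t) * g⁻¹⁻¹, ?_⟩, ?_⟩ :
      {u // R v u})) ⟨fun a b h => ?_, fun u => ?_⟩
    · have h1 : c * t ∉ C := fun e => htC ((mul_mem_cancel_left c.2).1 e)
      rw [orderOf_conj]
      exact orderOf_eq_prime (by rw [sq]; exact hsq _ (N.mul_mem (hle c.2) htN) h1)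
        fun e => h1 (e ▸ C.one_mem)
    · have h1 : c * t ∉ C := fun e => htC ((mul_mem_cancel_left c.2).1 e)
      have := hcj g⁻¹ z (c * t) ⟨fun e => h1 (e ▸ hzC), ((hN _).1 (N.mul_mem (hle c.2) htN)).symm⟩
      rw [← hg] at this
      simpa [R, mul_assoc] using this
    · have h1 : g⁻¹ * (a * t) * g⁻¹⁻¹ = g⁻¹ * (b * t) * g⁻¹⁻¹ := congrArg (fun x => x.1.1) h
      exact Subtype.ext (by simpa using h1)
    · have h1 := hcj g _ _ u.2
      rw [hg] at h1
      have h2 := (hN _).2 h1.2.symm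
      have h3 : g * u * g⁻¹ ∉ C := fun e => h1.1 (huz _ e (by rw [orderOf_conj, u.1.2])).symm
      refine ⟨⟨_, mul_mem_of_card hle hNC h2 (N.inv_mem htN) h3 (mt C.inv_mem_iff.1 htC)⟩, ?_⟩
      ext
      simp [mul_assoc]


/-- Let G be a finite group with an abelian Sylow 3-subgroup P such that the normalizer of P has order 4·#P, the centralizer C of P has order 2·#P, C meets each of its conjugates by elements outside its normalizer trivially, and every proper subgroup of G of even order has order dividing 4·#P. Then G is not simple. -/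
theorem result {G : Type*} [Group G] [Finite G]
    (P : Sylow 3 G) (hab : IsMulCommutative P)
    (hN : Nat.card (Subgroup.normalizer ((P : Subgroup G) : Set G)) = 4 * Nat.card P)
    (hC : Nat.card (Subgroup.centralizer (P : Set G)) = 2 * Nat.card P)
    (hTI : Cfsg.IsTISubset (Subgroup.centralizer (P : Set G) : Set G))
    (heven : ∀ H : Subgroup G, H ≠ ⊤ → 2 ∣ Nat.card H → Nat.card H ∣ 4 * Nat.card P) :
    ¬ IsSimpleGroup G := by
  intro hS
  have : Fact (Nat.Prime 2) := ⟨Nat.prime_two⟩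
  have : Fact (Nat.Prime 3) := ⟨Nat.prime_three⟩
  change Nat.card _ = 4 * Nat.card (P : Subgroup G) at hN
  change Nat.card (centralizer ((P : Subgroup G) : Set G)) = 2 * Nat.card (P : Subgroup G) at hC
  change IsTISubset (centralizer ((P : Subgroup G) : Set G) : Set G) at hTI
  change ∀ H : Subgroup G, H ≠ ⊤ → 2 ∣ Nat.card H → Nat.card H ∣ 4 * Nat.card (P : Subgroup G)
    at heven
  set N := normalizer ((P : Subgroup G) : Set G) with hNdef
  set C := centralizer ((P : Subgroup G) : Set G) with hCdef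
  have hCN : C ≤ N := centralizer_le_normalizer _
  have hPC : (P : Subgroup G) ≤ C := fun x hx y hy => congrArg Subtype.val (hab.1.1 ⟨y, hy⟩ ⟨x, hx⟩)
  obtain ⟨k, hk⟩ := P.2.exists_card_eq
  have hpos : 0 < Nat.card (P : Subgroup G) := Nat.card_pos
  have h4G : 4 ∣ Nat.card G := (Dvd.intro _ hN.symm).trans (card_subgroup_dvd_card N)
  have hns : ¬ Group.IsSolvable G := fun h => by
    have h1 : IsMulCommutative G := ⟨⟨(IsSimpleGroup.comm_iff_isSolvable (G := G)).2 h⟩⟩
    have h2 := (Group.is_simple_iff_prime_card (α := G)).1 hS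
    have h3 := (Nat.prime_dvd_prime_iff_eq Nat.prime_two h2).1 ((by decide : 2 ∣ 4).trans h4G)
    rw [← h3] at h4G
    exact absurd h4G (by decide)
  have hnt : ∀ H : Subgroup G, Group.IsSolvable H → H ≠ ⊤ := by
    rintro _ h rfl
    exact hns (Group.isSolvable_of_surjective (f := (⊤ : Subgroup G).subtype)
      fun x => ⟨⟨x, mem_top x⟩, rfl⟩)
  have hPmem : ∀ x ∈ N, orderOf x ∣ 3 ^ k → x ∈ (P : Subgroup G) := fun x hx h =>
    Cls.mem_sylow_of_mem_normalizer P (Cls.exists_pow_of_dvd_pow Nat.prime_three h) hx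
  have hPord : ∀ x ∈ (P : Subgroup G), orderOf x ∣ 3 ^ k := fun x hx =>
    hk ▸ (P : Subgroup G).orderOf_dvd_natCard hx
  have hTI' : ∀ g, ∀ x ∈ C, x ≠ 1 → g * x * g⁻¹ ∈ C → g ∈ N := fun g x hx x1 hg => by
    have h1 : g ∈ normalizer (C : Set G) := by
      by_contra h; exact x1 (hTI g h x hx hg)
    refine mem_normalizer_fintype fun y hy => hPmem _ (hCN ((mem_normalizer_iff.1 h1 y).1
      (hPC hy))) ?_
    rw [orderOf_conj]; exact hPord y hy
  obtain ⟨z, hzC, hz⟩ := Core.exists_mem_orderOf_eq_of_dvd_card (H := C) (p := 2)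
    (Dvd.intro _ hC.symm)
  have hP2 : ∀ y ∈ (P : Subgroup G), y * y = 1 → y = 1 := fun y hy h => by
    rw [← orderOf_eq_one_iff]
    exact Nat.eq_one_of_dvd_coprimes (Nat.Coprime.pow_right k (by decide : Nat.Coprime 2 3))
      (orderOf_dvd_of_pow_eq_one (by rw [sq, h])) (hPord y hy)
  have hzP : ∀ c, orderOf c = 2 → c ∉ (P : Subgroup G) := fun c hc h =>
    ne_one_of_two hc (hP2 c h (mul_self_of_two hc))
  have hCdec : ∀ c ∈ C, ∃ y ∈ (P : Subgroup G), c = y ∨ c = y * z := fun c hc => by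
    by_cases h : c ∈ (P : Subgroup G)
    · exact ⟨c, h, Or.inl rfl⟩
    · exact ⟨c * z, mul_mem_of_card hPC hC hc hzC h (hzP z hz),
        Or.inr (by rw [mul_assoc, mul_self_of_two hz, mul_one])⟩
  have huz : ∀ c ∈ C, orderOf c = 2 → c = z := fun c hc ho => by
    obtain ⟨y, hy, rfl | rfl⟩ := hCdec c hc
    · exact absurd hy (hzP _ ho)
    · have h1 := mul_self_of_two ho
      rw [mul_assoc, ← mul_assoc z, ← hzC y hy, mul_assoc, mul_self_of_two hz, mul_one] at h1
      rw [hP2 y hy h1, one_mul]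
  have hNz : ∀ g, g ∈ N ↔ g * z = z * g := fun g => ⟨fun hg => mul_inv_eq_iff_eq_mul.1
      (huz _ ((mem_normalizer_iff.1 (Core.le_normalizer_centralizer le_rfl hg) z).1 hzC)
        (by rw [orderOf_conj, hz])),
    fun h => hTI' g z hzC (ne_one_of_two hz) (by rw [h, mul_inv_cancel_right]; exact hzC)⟩
  have hP1 : 1 < Nat.card (P : Subgroup G) := by
    rw [one_lt_card_iff_ne_bot]
    intro e
    have h1 : N = ⊤ := by rw [hNdef, e, normalizer_eq_top_iff]; infer_instance
    have h2 : center G ≠ ⊥ := fun e => ne_one_of_two hz (mem_bot.1 (e ▸ mem_center_iff.2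
      fun g => (hNz g).1 (h1 ▸ mem_top g)))
    exact hnt _ (Cls.isSolvable_of_isMulCommutative inferInstance)
      ((hS.eq_bot_or_eq_top_of_normal (center G) inferInstance).resolve_left h2)
  -- the Sylow 2-subgroup
  obtain ⟨S, hzS⟩ := (Core.isPGroup_zpowers_of_orderOf (p := 2) (k := 1)
    (by rw [hz, pow_one])).exists_le_sylow
  have hSt : (S : Subgroup G) ≠ ⊤ := hnt _ (Coprime.isSolvable_of_isPGroup S.2)
  have hS4 : Nat.card (S : Subgroup G) = 2 ^ 2 := by
    refine Nat.dvd_antisymm ?_ (S.pow_dvd_card_of_pow_dvd_card h4G)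
    obtain ⟨j, hj⟩ := S.2.exists_card_eq
    have h1 := heven S hSt
      (hz.symm.dvd.trans ((S : Subgroup G).orderOf_dvd_natCard (hzS (mem_zpowers z))))
    rw [hk, hj] at h1
    rw [hj]
    exact Nat.Coprime.dvd_of_dvd_mul_right (Nat.Coprime.pow _ _ (by decide)) h1
  have hSc := IsPGroup.isMulCommutative_of_card_eq_prime_sq hS4
  have hSS : (S : Subgroup G) ≤ centralizer (S : Set G) := fun x hx y hy =>
    congrArg Subtype.val (hSc.1.1 ⟨y, hy⟩ ⟨x, hx⟩)
  obtain ⟨Q, hQN, hQ⟩ : ∃ Q : Subgroup G, Q ≤ normalizer ((S : Subgroup G) : Set G) ∧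
      (S : Subgroup G) ⊓ centralizer (Q : Set G) = ⊥ := by
    have h1 : ¬ normalizer ((S : Subgroup G) : Set G) ≤ centralizer ((S : Subgroup G) : Set G) :=
      fun h => by
        have h2 := MonoidHom.ker_transferSylow_isComplement' S h
        rcases hS.eq_bot_or_eq_top_of_normal (MonoidHom.transferSylow S h).ker inferInstance
          with e | e
        · rw [e, isComplement'_bot_left] at h2
          exact hSt h2
        · rw [e, isComplement'_top_left] at h2
          rw [h2, card_bot] at hS4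
          exact absurd hS4 (by decide)
    by_contra hcon
    push Not at hcon
    refine h1 (Core.le_of_forall_isPGroup_le fun q hq Q hQN hQ => ?_)
    by_cases hq2 : q = 2
    · subst hq2
      exact (Core.le_sylow_of_le_normalizer hQ S hQN).trans hSS
    have h2 := Coprime.card_modEq_card_inf_centralizer hQ hQN
    have h3 := card_dvd_of_le (inf_le_left : (S : Subgroup G) ⊓ centralizer (Q : Set G) ≤ S)
    rw [hS4] at h2 h3
    obtain ⟨j, hj, e⟩ := (Nat.dvd_prime_pow Nat.prime_two).1 h3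
    interval_cases j
    · exact absurd (card_eq_one.1 e) (hcon Q hQN)
    · rw [e] at h2
      exact absurd ((Nat.prime_dvd_prime_iff_eq hq.out Nat.prime_two).1
        ((Nat.modEq_iff_dvd' (by decide)).1 h2.symm)) hq2
    · have h4 := eq_of_le_of_card_ge (inf_le_left : (S : Subgroup G) ⊓ centralizer (Q : Set G) ≤ S)
        (by rw [hS4, e])
      exact le_centralizer_iff.1 (inf_eq_left.1 h4)
  have hmove : ∀ s ∈ (S : Subgroup G), s ≠ 1 → ∃ g, g * s * g⁻¹ ∈ (S : Subgroup G) ∧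
      g * s * g⁻¹ ≠ s := fun s hs s1 => by
    by_contra hcon
    push Not at hcon
    refine s1 (mem_bot.1 (hQ ▸ ⟨hs, fun g hg => mul_inv_eq_iff_eq_mul.1 (hcon g ?_)⟩))
    exact (mem_normalizer_iff.1 (hQN hg) s).1 hs
  obtain ⟨g, htS, htz⟩ := hmove z (hzS (mem_zpowers z)) (ne_one_of_two hz)
  set t := g * z * g⁻¹ with ht
  have hto : orderOf t = 2 := by rw [ht, orderOf_conj, hz]
  have htz' : t ∉ zpowers z := fun e => htz (eq_of_mem_zpowers_two hz e (ne_one_of_two hto))
  have hSel : ∀ s ∈ (S : Subgroup G), s = 1 ∨ s = z ∨ s = t ∨ s = z * t := fun s hs => by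
    by_cases h : s ∈ zpowers z
    · by_cases h1 : s = 1
      · exact Or.inl h1
      · exact Or.inr (Or.inl (eq_of_mem_zpowers_two hz h h1))
    · have h1 := mul_mem_of_card hzS (by rw [hS4, Nat.card_zpowers, hz]; rfl) hs htS h htz'
      have h2 : s = s * t * t := by rw [mul_assoc, mul_self_of_two hto, mul_one]
      by_cases h3 : s * t = 1
      · exact Or.inr (Or.inr (Or.inl (by rw [h2, h3, one_mul])))
      · exact Or.inr (Or.inr (Or.inr (by rw [h2, eq_of_mem_zpowers_two hz h1 h3])))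
  have hzt : t * z = z * t := hSS (hzS (mem_zpowers z)) t htS
  have hSsq : ∀ s ∈ (S : Subgroup G), s * s = 1 := fun s hs => by
    rcases hSel s hs with rfl | rfl | rfl | rfl
    · exact mul_one 1
    · exact mul_self_of_two hz
    · exact mul_self_of_two hto
    · rw [mul_assoc, ← mul_assoc t, hzt, mul_assoc, mul_self_of_two hto, mul_one,
        mul_self_of_two hz]
  have hconjS : ∀ s ∈ (S : Subgroup G), s ≠ 1 → ∃ h, h * s * h⁻¹ = z := fun s hs s1 => by
    rcases hSel s hs with rfl | rfl | rfl | rfl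
    · exact absurd rfl s1
    · exact ⟨1, by simp⟩
    · exact ⟨g⁻¹, by rw [ht]; group⟩
    · obtain ⟨h, h1, h2⟩ := hmove _ hs s1
      rcases hSel _ h1 with e | e | e | e
      · exact absurd (by simpa using e) s1
      · exact ⟨h, e⟩
      · exact ⟨g⁻¹ * h, by
          calc _ = g⁻¹ * (h * (z * t) * h⁻¹) * g := by group
            _ = z := by rw [e, ht]; group⟩
      · exact absurd e h2
  have hgN : g ∉ N := fun e => htz (mul_inv_eq_iff_eq_mul.2 ((hNz g).1 e))
  have htN : t ∈ N := (hNz t).2 hzt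
  have htC : t ∉ C := fun e => htz (huz t e hto)
  have htP : ∀ y ∈ (P : Subgroup G), t * y * t⁻¹ = y⁻¹ := fun y hy =>
    Frob.conj_eq_inv_of_fpf (mul_self_of_two hto) htN (fun y hy hc => by
      by_contra y1
      have h1 : g⁻¹ * y * g⁻¹⁻¹ ∈ N := (hNz _).2 (by
        calc g⁻¹ * y * g⁻¹⁻¹ * z = g⁻¹ * (y * t) * g := by rw [ht]; group
          _ = _ := by rw [← hc, ht]; group)
      exact hgN (N.inv_mem_iff.1 (hTI' g⁻¹ y (hPC hy) y1 (hPC (hPmem _ h1 (by
        rw [orderOf_conj]; exact hPord y hy)))))) hy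
  have htC' : ∀ c ∈ C, t * c * t⁻¹ = c⁻¹ := fun c hc => by
    obtain ⟨y, hy, rfl | rfl⟩ := hCdec c hc
    · exact htP _ hy
    · calc t * (y * z) * t⁻¹ = (t * y * t⁻¹) * (t * z) * t⁻¹ := by group
        _ = y⁻¹ * z := by rw [htP y hy, hzt]; group
        _ = _ := by
          rw [hzC y hy, mul_inv_rev, inv_eq_of_mul_eq_one_right (mul_self_of_two hz)]
  have hCc := Frob.isMulCommutative_of_conj_eq_inv htC'
  have hNC : Nat.card N = 2 * Nat.card C := by rw [hN, hC]; ring
  have hdec : ∀ u ∈ N, u ∉ C → ∃ c ∈ C, u = c * t := fun u hu huC =>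
    ⟨u * t, mul_mem_of_card hCN hNC hu htN huC htC, by
      rw [mul_assoc, mul_self_of_two hto, mul_one]⟩
  refine final hz hCN hNC (by omega) hTI' hNz huz (fun u hu huC c hc => ?_) (fun u hu huC => ?_) hzC
    (fun w hw => ?_) fun u v hu hv huv => ?_
  · obtain ⟨a, ha, rfl⟩ := hdec u hu huC
    have h1 : a * c⁻¹ = c⁻¹ * a := congrArg Subtype.val (hCc.1.1 ⟨a, ha⟩ ⟨c⁻¹, C.inv_mem hc⟩)
    calc a * t * c * (a * t)⁻¹ = a * (t * c * t⁻¹) * a⁻¹ := by group
      _ = _ := by rw [htC' c hc, h1]; group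
  · obtain ⟨a, ha, rfl⟩ := hdec u hu huC
    calc a * t * (a * t) = a * (t * a * t⁻¹) * (t * t) := by group
      _ = _ := by rw [htC' a ha, mul_self_of_two hto]; group
  · obtain ⟨h, hh⟩ := Cls.exists_conj_mem_sylow S (x := w) ⟨1, by rw [hw, pow_one]⟩
    obtain ⟨h', e⟩ := hconjS _ hh fun e => ne_one_of_two hw (by
      simpa [mul_assoc, inv_mul_eq_iff_eq_mul] using e)
    exact ⟨h' * h⁻¹, by rw [← e]; group⟩
  · have hx1 : u * v ≠ 1 := fun e => huv (mul_right_cancel (e.trans (mul_self_of_two hv).symm))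
    have hui : u * (u * v) * u⁻¹ = (u * v)⁻¹ := by
      rw [← mul_assoc, mul_self_of_two hu, one_mul, mul_inv_rev,
        inv_eq_of_mul_eq_one_right (mul_self_of_two hv)]
    have hvi : v * (u * v) * v⁻¹ = (u * v)⁻¹ := by
      rw [mul_assoc, mul_assoc, mul_inv_cancel, mul_one, mul_inv_rev,
        inv_eq_of_mul_eq_one_right (mul_self_of_two hv),
        inv_eq_of_mul_eq_one_right (mul_self_of_two hu)]
    by_cases h3 : 3 ∣ orderOf (u * v)
    · obtain ⟨y, ⟨i, hi⟩, hy⟩ := Frob.exists_orderOf_eq_of_dvd h3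
      dsimp only at hi
      obtain ⟨h, hh⟩ := Cls.exists_conj_mem_sylow P (x := y) ⟨1, by rw [hy, pow_one]⟩
      have hy1 : h⁻¹ * y * h ≠ 1 := fun e => by
        have : y = 1 := by simpa [mul_assoc, inv_mul_eq_iff_eq_mul] using e
        rw [this] at hy; simp at hy
      have key : ∀ a, a * (u * v) * a⁻¹ = (u * v)⁻¹ →
          a ≠ h * z * h⁻¹ ∧ a * (h * z * h⁻¹) = h * z * h⁻¹ * a := fun a ha => by
        have h1 : a * y * a⁻¹ = y⁻¹ := by rw [← hi, ← conj_zpow, ha, inv_zpow]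
        have h2 : h⁻¹ * a * h * (h⁻¹ * y * h) * (h⁻¹ * a * h)⁻¹ = (h⁻¹ * y * h)⁻¹ := by
          calc _ = h⁻¹ * (a * y * a⁻¹) * h := by group
            _ = _ := by rw [h1]; group
        have h4 := (hNz _).1 (hTI' _ _ (hPC hh) hy1 (h2 ▸ C.inv_mem (hPC hh)))
        refine ⟨fun e => hy1 (hP2 _ hh ?_), ?_⟩
        · have h5 : h⁻¹ * a * h = z := by rw [e]; group
          rw [h5, ← hzC _ hh, mul_inv_cancel_right] at h2
          exact mul_eq_one_iff_eq_inv.2 h2
        · calc a * (h * z * h⁻¹) = h * (h⁻¹ * a * h * z) * h⁻¹ := by group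
            _ = _ := by rw [h4]; group
      exact ⟨h * z * h⁻¹, by rw [orderOf_conj, hz], key u hui, key v hvi⟩
    · have h1 := heven _ (hnt _ (Frob.isSolvable_of_involutions (mul_self_of_two hu)
        (mul_self_of_two hv))) (hv ▸ Subgroup.orderOf_dvd_natCard _ (mem_sup_left (mem_zpowers v)))
      have h2 := (Subgroup.orderOf_dvd_natCard _ (mem_sup_right (mem_zpowers (u * v)))).trans h1
      rw [hk] at h2
      have h4 : orderOf (u * v) ∣ 2 ^ 2 := Nat.Coprime.dvd_of_dvd_mul_right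
        (Nat.Coprime.pow_right _ ((Nat.prime_three.coprime_iff_not_dvd.2 h3).symm)) h2
      obtain ⟨h, hh⟩ := Cls.exists_conj_mem_sylow S (Cls.exists_pow_of_dvd_pow Nat.prime_two h4)
      have h5 : u * v * (u * v) = 1 := by
        have := hSsq _ hh
        calc u * v * (u * v) = h * (h⁻¹ * (u * v) * h * (h⁻¹ * (u * v) * h)) * h⁻¹ := by group
          _ = 1 := by rw [this]; group
      have h6 : (u * v)⁻¹ = u * v := inv_eq_of_mul_eq_one_right h5
      refine ⟨u * v, orderOf_eq_prime (by rw [sq, h5]) hx1,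
        ⟨fun e => ne_one_of_two hv (by simpa using e), ?_⟩,
        ⟨fun e => ne_one_of_two hu (by simpa using e), ?_⟩⟩
      · rw [h6] at hui; exact mul_inv_eq_iff_eq_mul.1 hui
      · rw [h6] at hvi; exact mul_inv_eq_iff_eq_mul.1 hvi

end Cfsg.Agent.S4018
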