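import Cfsg.Statements.S4025
import Cfsg.Agent.Lib.WF.Core
import Cfsg.Agent.Lib.PGrp.ConjOrder3

set_option autoImplicit false
open Cfsg

namespace Cfsg.Agent.S4025



/-- Let p be a prime and G a finite group in which any two p-subgroups of the same order are conjugate, and suppose a Sylow p-subgroup P of G is elementary abelian of order pⁿ with n ≥ 3. Let N be the normalizer of P and K the largest normal subgroup of N of order prime to p, and assume N/K is solvable. Then either n = 3 and N/K embeds in the one-dimensional semi-affine group over the field with p³ elements (and for p = 2 it is isomorphic to the affine or the semi-affine group over the field with 8 elements), or n = 5, p = 2 and N/K is isomorphic to the one-dimensional semi-affine group over the field with 32 elements. -/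
theorem result {G : Type*} [Group G] [Finite G]
    {p : ℕ} [Fact p.Prime] (hC : ∀ H K : Subgroup G, IsPGroup p H → IsPGroup p K → Nat.card H = Nat.card K →
      ∃ g : G, K = H.map (MulAut.conj g).toMonoidHom) (P : Sylow p G) (n : ℕ) (hn : 3 ≤ n)
    (hel : Cfsg.IsElementaryAbelian p (P : Subgroup G)) (hcard : Nat.card P = p ^ n)
    (N : Subgroup G) (hN : N = Subgroup.normalizer ((P : Subgroup G) : Set G))
    (hsolv : Group.IsSolvable (↥N ⧸ Cfsg.pPrimeCore p ↥N)) :
    (n = 3 ∧ (∃ f : ↥N ⧸ Cfsg.pPrimeCore p ↥N →* ↥(Cfsg.semiaffineGroup (GaloisField p 3)), Function.Injective f) ∧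
      (p = 2 → Nonempty (↥N ⧸ Cfsg.pPrimeCore p ↥N ≃* Cfsg.semiaffineGroup (GaloisField 2 3)) ∨
               Nonempty (↥N ⧸ Cfsg.pPrimeCore p ↥N ≃* Cfsg.affineGroup (GaloisField 2 3)))) ∨
    (n = 5 ∧ p = 2 ∧ Nonempty (↥N ⧸ Cfsg.pPrimeCore p ↥N ≃* Cfsg.semiaffineGroup (GaloisField 2 5))) := by
  have hP : OO.Syl p (P : Subgroup G) ⊤ := Coprime.isSylowIn_top P
  have hPN : (P : Subgroup G) ≤ N := hN ▸ Subgroup.le_normalizer
  let f := QuotientGroup.mk' (pPrimeCore p N)
  have hf : Function.Surjective f := QuotientGroup.mk'_surjective _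
  obtain ⟨S, hS, hS'⟩ := (hP.mono hPN le_top).exists_sylow
  have : (S : Subgroup N).Normal := by
    rw [hS]; exact (Subgroup.normal_subgroupOf_iff_le_normalizer hPN).2 hN.le
  have tr : PGrp.ConjP p N := fun A B hA hB hc => by
    have hle : ∀ X : Subgroup N, IsPGroup p X → X.map N.subtype ≤ P := fun X hX =>
      (hP.mono hPN le_top).le_of_normal_syl hN.le (Subgroup.map_subtype_le _) (hX.map _)
    obtain ⟨g, hg⟩ := hC _ _ (hA.map N.subtype) (hB.map N.subtype)
      (by rwa [Subgroup.card_subtype, Subgroup.card_subtype])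
    obtain ⟨k, hk, e1⟩ := WF.fusion hP hel.1 (g := g) (hle A hA) (hg.ge.trans (hle B hB))
    refine ⟨⟨k, hN ▸ hk⟩, Subgroup.map_injective N.subtype_injective ?_⟩
    rw [Coprime.map_map_conj]
    exact hg.trans e1
  have : (S.mapSurjective hf : Subgroup (N ⧸ pPrimeCore p N)).Normal := Subgroup.Normal.map ‹_› f hf
  have := hel.1
  have h1 := Core.card_map_mk_mul (pPrimeCore p N) S
  rw [Core.inf_eq_bot_of_coprime_card (Core.coprime_card_of_isPGroup S.isPGroup'
    (Core.coprime_card_pPrimeCore p)).symm, Subgroup.card_bot, one_mul, hS,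
    Core.card_subgroupOf_of_le hPN, hcard, ← hS] at h1
  refine WF.normal_case (Coprime.isSylowIn_top (S.mapSurjective hf))
    (Core.isElementaryAbelian_map (A := S) ⟨hS ▸ inferInstance, fun x hx =>
      Subtype.ext (hel.2 x (hS'.le ⟨x, hx, rfl⟩))⟩ f) h1 hn ?_ (tr.of_surjective hf).conjAbP
  rw [← Core.pCore_eq_of_normal_sylow]
  exact Core.centralizer_pCore_le Core.pPrimeCore_quotient_pPrimeCore

end Cfsg.Agent.S4025
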