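import Cfsg.Statements.S4027
import Mathlib
import Cfsg.Agent.S3861

set_option autoImplicit false
open Cfsg

namespace Cfsg.Agent.S4027

/-- Let G be a finite group in which every element x of odd order satisfies N_G(⟨x⟩) = C_G(x). Then the Sylow 2-subgroups of G are normal. -/
theorem result {G : Type*} [Group G] [Finite G]
    (hirr : ∀ x : G, (∀ r : ℕ, r.Prime → r ∣ orderOf x → r ≠ 2) →
      Subgroup.normalizer ((Subgroup.zpowers x : Subgroup G) : Set G) ≤ Subgroup.centralizer {x}) (P : Sylow 2 G) :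
    (P : Subgroup G).Normal := by
  by_contra hP
  obtain ⟨x, t, h1, h2, h3⟩ := Cfsg.Agent.S3861.exists_real P hP
  have hn : t ∈ Subgroup.normalizer ((Subgroup.zpowers x : Subgroup G) : Set G) := by
    refine Subgroup.mem_normalizer_fintype ?_
    rintro _ ⟨j, rfl⟩
    refine ⟨-j, ?_⟩
    simp only
    rw [← conj_zpow, h3, inv_zpow, zpow_neg]
  have hc := hirr x (fun r _ hr h => by
    subst h
    exact (Nat.not_even_iff_odd.2 h2) (even_iff_two_dvd.2 hr)) hn
  have h4 : x * t = t * x := hc x rfl
  refine h1 (Cfsg.Agent.S3861.eq_one_of_odd_of_sq h2 ?_)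
  rw [← h4, mul_inv_cancel_right] at h3
  exact mul_eq_one_iff_eq_inv.2 h3

end Cfsg.Agent.S4027
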