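import Cfsg.Statements.S4044
import Cfsg.Agent.Lib.E8.HallNum
import Cfsg.Agent.Lib.GW.Main
import Mathlib.NumberTheory.LSeries.PrimesInAP

set_option autoImplicit false
open Cfsg

namespace Cfsg.Agent.S4044

open Subgroup Cfsg.Agent.Coprime Cfsg.Agent.OO Cfsg.Agent.E8
open scoped Pointwise MatrixGroups

theorem exists_prime {a b : ℕ} (ha : 4 ∣ a) (a0 : a ≠ 0) (hb : ¬ 2 ∣ b) (h : a.Coprime b) :
    ∃ p u v, p.Prime ∧ p = a * u + 1 ∧ p + 1 = 2 * (b * v) ∧ a.Coprime u ∧ b.Coprime v := by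
  have b0 : b ≠ 0 := by rintro rfl; simp at hb
  obtain ⟨c, h1, h2⟩ := Nat.chineseRemainder (h.pow 2 2) (a + 1) (b ^ 2 - 1 + b)
  have b1 := Nat.pow_pos (n := 2) (Nat.pos_of_ne_zero b0)
  obtain ⟨p, p2, hp, h3⟩ := Nat.forall_exists_prime_gt_and_modEq (a + 1) (q := a ^ 2 * b ^ 2) (a := c)
    (by positivity) (Nat.Coprime.mul_right (.pow_right _ (by
      rw [Nat.Coprime, (h1.of_dvd (dvd_pow_self a two_ne_zero)).gcd_eq]; simp)) (.pow_right _ (by
      rw [Nat.Coprime, (h2.of_dvd (dvd_pow_self b two_ne_zero)).gcd_eq, Nat.gcd_add_self_left]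
      exact ((Nat.coprime_self_sub_left b1).2 (by simp)).coprime_dvd_right (dvd_pow_self b two_ne_zero))))
  obtain ⟨i, hi⟩ := (Nat.modEq_iff_dvd' p2.le).1 ((h3.of_mul_right _).trans h1).symm
  have h4 : b ≡ p + 1 [MOD b ^ 2] := by
    refine .symm ((((h3.of_mul_left _).trans h2).add_right 1).trans ?_)
    rw [show b ^ 2 - 1 + b + 1 = b ^ 2 + b by omega]
    exact Nat.add_modEq_left
  obtain ⟨v, hv⟩ : b ∣ p + 1 := (h4.dvd_iff (dvd_pow_self b two_ne_zero)).1 dvd_rfl
  have h5 : 2 ∣ v := (Nat.prime_two.dvd_mul.1 (hv ▸ (hp.odd_of_ne_two (by omega)).add_one.two_dvd)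
    ).resolve_left hb
  obtain ⟨v, rfl⟩ := h5
  refine ⟨p, 1 + a * i, v, hp, by rw [mul_add, ← mul_assoc, ← pow_two]; omega, by rw [hv]; ring,
    by simp, ?_⟩
  rw [hv, pow_two] at h4
  have := (Nat.ModEq.mul_left_cancel' (a := 1) (b := 2 * v) (m := b) b0 (by rwa [mul_one])).gcd_eq
  exact Nat.Coprime.coprime_mul_left (k := 2) (by rw [Nat.Coprime, ← this]; simp) |>.symm

theorem not_hall {c a b : ℕ} (h4 : 4 ∣ c * a) (hb : ¬ 2 ∣ b) (h1 : c.Coprime a) (h : (c * a).Coprime b)
    (a2 : 2 < a) (b1 : b ≠ 1) (H : ∀ (G : Type) [Group G] [Finite G], a * b ∣ Nat.card G →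
      (a * b).Coprime (Nat.card G / (a * b)) → ∃ H : Subgroup G, Nat.card H = a * b) :
    a * b = 12 ∨ a * b = 24 ∨ a * b = 60 := by
  have b2 : 2 < b := by omega
  obtain ⟨p, u, v, hp, e1, e2, c1, c2⟩ := exists_prime h4 (by rintro e; simp [e] at h; omega) hb h
  have := Fact.mk hp
  obtain ⟨d, hd⟩ := h4.mul_right u
  have two : (2 : ZMod p) ≠ 0 := fun e => by
    have := (Nat.prime_dvd_prime_iff_eq hp Nat.prime_two).1 ((ZMod.natCast_eq_zero_iff 2 p).1 e)
    omega
  have h2 := (center SL(2, ZMod p)).card_eq_card_quotient_mul_card_subgroup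
  rw [card_center_SL2' two, Lin.card_SL2, ZMod.card, e2, show p - 1 = c * a * u by omega] at h2
  have h3 : Nat.card PSL(2, ZMod p) = a * b * (p * (c * u * v)) := by
    refine Nat.eq_of_mul_eq_mul_right two_pos (h2.symm.trans (by ring))
  have k1 : (c * a * u).Coprime (b * v) := by
    rw [hd, show b * v = 2 * d + 1 by omega]
    exact .mul_left (Nat.Coprime.pow_left 2 (by simp : Nat.Coprime 2 _)) (by simp)
  have k2 : (a * b).Coprime p := .mul_left (by
    rw [e1, mul_right_comm, Nat.coprime_mul_right_add_right]; simp) 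
    (Nat.Coprime.coprime_dvd_left ⟨2 * v, e2.trans (by ring)⟩ (by simp : (p + 1).Coprime p))
  obtain ⟨K, hK⟩ := H PSL(2, ZMod p) ⟨_, h3⟩ (by
    rw [h3, Nat.mul_div_cancel_left _ (by positivity)]
    exact .mul_right k2 (.mul_left (.mul_right (.mul_right h1.symm c1.coprime_mul_left)
      k1.coprime_mul_right.coprime_mul_left.coprime_mul_left_right) (.mul_right (.mul_right
      h.coprime_mul_right.symm k1.coprime_mul_left.coprime_mul_right_right.symm) c2)))
  have := dickson two p (H := K) (hK ▸ hp.coprime_iff_not_dvd.1 k2.symm)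
  rw [hK, ZMod.card] at this
  refine (this.resolve_left fun e => b1 ?_).resolve_left fun e => ?_
  · exact Nat.eq_one_of_dvd_coprimes k1 ((dvd_mul_left b a).trans (by
      rwa [show c * a * u = p - 1 by omega])) (dvd_mul_right b v)
  · have := Nat.le_of_dvd two_pos (k1.coprime_mul_right.coprime_mul_left.dvd_of_dvd_mul_right
      ((dvd_mul_right a b).trans (e2 ▸ e)))
    omega

theorem main (gw : R1.GW4.{0}) (m : ℕ) (hm : 2 ≤ m) :
    (∀ (G : Type) [Group G] [Finite G], m ∣ Nat.card G → m.Coprime (Nat.card G / m) →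
        ∃ H : Subgroup G, Nat.card H = m) ↔
    (IsPrimePow m ∨ m % 4 = 2 ∨ m = 12 ∨ m = 24 ∨ m = 60) := by
  refine ⟨fun H => or_iff_not_imp_left.2 fun h1 => or_iff_not_imp_left.2 fun h2 => ?_,
    fun h G _ _ ⟨k, hk⟩ hc => ?_⟩
  · have hp := Nat.minFac_prime (show m ≠ 1 by omega)
    obtain ⟨e, b, hb, h3⟩ := Nat.exists_eq_pow_mul_and_not_dvd (show m ≠ 0 by omega) _ hp.ne_one
    have h4 := Nat.minFac_eq_two_iff m
    have h5 := Nat.minFac_dvd m
    generalize m.minFac = r at *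
    subst h3
    have e0 : e ≠ 0 := by rintro rfl; exact hb (by simpa using h5)
    have b1 : b ≠ 1 := by rintro rfl; exact h1 (by simpa using hp.isPrimePow.pow e0)
    have h6 := (hp.coprime_iff_not_dvd.2 hb).pow_left e
    by_cases r2 : r = 2
    · subst r2
      have : 4 ∣ 2 ^ e := pow_dvd_pow 2 (show 2 ≤ e by
        by_contra e2
        obtain rfl : e = 1 := by omega
        omega)
      exact not_hall (c := 1) (by simpa) hb (by simp) (by simpa)
        (by have := Nat.le_of_dvd (by positivity) this; omega) b1 H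
    · have h7 := mt h4.2 r2
      have h8 := Nat.prime_two.coprime_iff_not_dvd.2 h7 |>.pow_left 2
      exact not_hall (c := 4) (dvd_mul_right _ _) (fun e => h7 (e.mul_left _)) h8.coprime_mul_right_right
        (.mul_left h8.coprime_mul_left_right h6) (lt_of_lt_of_le (by have := hp.two_le; omega)
        (Nat.le_self_pow e0 r)) b1 H
  rw [hk, Nat.mul_div_cancel_left _ (by omega)] at hc
  rcases h with ⟨p, n, hp, -, rfl⟩ | h | rfl | rfl | rfl
  · have := Fact.mk hp.nat_prime
    exact Sylow.exists_subgroup_card_pow_prime p ⟨k, hk⟩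
  · refine exists_card_top hk hc (sol_of_not_four fun e => ?_)
    have : ¬ 2 ∣ k := fun e => by simpa using Nat.eq_one_of_dvd_coprimes hc (by omega) e
    have := Nat.Coprime.dvd_of_dvd_mul_right
      ((Nat.prime_two.coprime_iff_not_dvd.2 this).pow_left 2) (hk ▸ card_top (G := G) ▸ e)
    omega
  exacts [hall12 hk hc, hall24 hk hc, hall60 gw G k hk hc]

/-- For an integer m ≥ 2 the following are equivalent: (a) every finite group whose order n is divisible by m with gcd(m, n/m) = 1 has a subgroup of order m; (b) m is a prime power, or m ≡ 2 (mod 4), or m ∈ {12, 24, 60}. -/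
theorem result (m : ℕ) (hm : 2 ≤ m) :
    (∀ (G : Type) [Group G] [Finite G], m ∣ Nat.card G → m.Coprime (Nat.card G / m) →
        ∃ H : Subgroup G, Nat.card H = m) ↔
    (IsPrimePow m ∨ m % 4 = 2 ∨ m = 12 ∨ m = 24 ∨ m = 60) :=
  main R1.gw4 m hm

end Cfsg.Agent.S4044
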