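import Cfsg.Statements.S4049
import Mathlib
import Cfsg.Agent.S3861

set_option autoImplicit false
open Cfsg

namespace Cfsg.Agent.S4049

/-- Let G be a finite group such that N_G(H)/C_G(H) has odd order for every nontrivial subgroup H of odd order. Then the Sylow 2-subgroups of G are normal. -/
theorem result {G : Type*} [Group G] [Finite G]
    (hhom : ∀ H : Subgroup G, H ≠ ⊥ → ¬ 2 ∣ Nat.card ↥H →
        ¬ 2 ∣ (Subgroup.centralizer (H : Set G)).relIndex (Subgroup.normalizer (H : Set G))) (P : Sylow 2 G) :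
    (P : Subgroup G).Normal := by
  by_contra hP
  obtain ⟨x, t, h1, h2, h3⟩ := Cfsg.Agent.S3861.exists_real P hP
  set H := Subgroup.zpowers x with hH
  have hn : t ∈ Subgroup.normalizer (H : Set G) := by
    refine Subgroup.mem_normalizer_fintype ?_
    rintro _ ⟨j, rfl⟩
    refine ⟨-j, ?_⟩
    simp only
    rw [← conj_zpow, h3, inv_zpow, zpow_neg]
  have htc : t ∉ Subgroup.centralizer (H : Set G) := by
    intro hc
    have h4 : x * t = t * x := hc x (Subgroup.mem_zpowers x)
    refine h1 (Cfsg.Agent.S3861.eq_one_of_odd_of_sq h2 ?_)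
    rw [← h4, mul_inv_cancel_right] at h3
    exact mul_eq_one_iff_eq_inv.2 h3
  have htt : t * t ∈ Subgroup.centralizer (H : Set G) := by
    have hg2 : t * t * x * (t * t)⁻¹ = x := by
      have : t * t * x * (t * t)⁻¹ = t * (t * x * t⁻¹) * t⁻¹ := by group
      rw [this, h3, ← conj_inv, h3, inv_inv]
    have hc : Commute (t * t) x := by
      rw [commute_iff_eq]; exact mul_inv_eq_iff_eq_mul.1 hg2
    rintro _ ⟨j, rfl⟩
    exact ((hc.zpow_right j).eq).symm
  refine hhom H (fun h => h1 (Subgroup.zpowers_eq_bot.1 h)) (by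
    rw [Nat.card_zpowers]
    exact fun h => (Nat.not_even_iff_odd.2 h2) (even_iff_two_dvd.2 h)) ?_
  haveI : ((Subgroup.centralizer (H : Set G)).subgroupOf (Subgroup.normalizer (H : Set G))).Normal :=
    Subgroup.normal_subgroupOf_centralizer_normalizer _
  set s : (Subgroup.normalizer (H : Set G)) ⧸
    ((Subgroup.centralizer (H : Set G)).subgroupOf (Subgroup.normalizer (H : Set G))) :=
      QuotientGroup.mk ⟨t, hn⟩ with hs
  have hs1 : s ≠ 1 := fun h => htc (by
    rw [hs, QuotientGroup.eq_one_iff] at h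
    exact h)
  have hs2 : s ^ 2 = 1 := by
    rw [hs, ← QuotientGroup.mk_pow, QuotientGroup.eq_one_iff, pow_two]
    exact htt
  have := orderOf_dvd_natCard s
  rwa [orderOf_eq_prime hs2 hs1] at this

end Cfsg.Agent.S4049
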