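import Cfsg.Statements.S4064
import Cfsg.Agent.Lib.BSW.Main
import Cfsg.Agent.Lib.Coprime.FTFinal
import Cfsg.Agent.Lib.Core.Fitting
import Cfsg.Agent.Lib.Core.MinNormal

set_option autoImplicit false
open Cfsg

namespace Cfsg.Agent.S4064

open Subgroup

section
variable {G : Type*} [Group G]

/-- All centralizers of elements are TI-subgroups. -/
def TC (G : Type*) [Group G] : Prop := ∀ x y g w : G, y ≠ 1 → y * x = x * y →
  g * y * g⁻¹ * x = x * (g * y * g⁻¹) → w * x = x * w → g * w * g⁻¹ * x = x * (g * w * g⁻¹)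

theorem TC.subgroup (h : TC G) (A : Subgroup G) : TC A := fun x y g w y1 h1 h2 h3 =>
  Subtype.ext (h x y g w (fun e => y1 (Subtype.ext e)) (congrArg Subtype.val h1)
    (congrArg Subtype.val h2) (congrArg Subtype.val h3))

theorem TC.mem_norm (h : TC G) {x y g : G} (hy : y ∈ centralizer ({x} : Set G)) (y1 : y ≠ 1)
    (hg : g * y * g⁻¹ ∈ centralizer ({x} : Set G)) :
    g ∈ normalizer (centralizer ({x} : Set G) : Set G) := by
  rw [mem_normalizer_iff]
  simp only [mem_centralizer_singleton_iff] at hy hg ⊢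
  refine fun w => ⟨h x y g w y1 hy hg, fun hw => ?_⟩
  simpa [mul_assoc] using h x (g * y * g⁻¹) g⁻¹ _ (BSW.conj_ne_one y1) hg
    (by simpa [mul_assoc] using hy) hw

theorem TC.e2 (h : TC G) (hZ : center G ≠ ⊥) (x g : G) : g * x * g⁻¹ * x = x * (g * x * g⁻¹) := by
  obtain ⟨z, z1⟩ := ne_bot_iff_exists_ne_one.1 hZ
  have hz := mem_center_iff.1 z.2
  refine h x z g x (fun e => z1 (Subtype.ext e)) (hz x).symm ?_ rfl
  rw [hz g, mul_inv_cancel_right, hz x]

variable [Finite G]

theorem TC.nilpotent (h : TC G) (hZ : center G ≠ ⊥) : Group.IsNilpotent G := by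
  rw [← Core.fitting_eq_top_iff, eq_top_iff]
  intro x _
  have : IsMulCommutative (normalClosure ({x} : Set G)) := isMulCommutative_closure (by
    intro a ha b hb
    simp only [Group.mem_conjugatesOfSet_iff, Set.mem_singleton_iff, exists_eq_left,
      isConj_iff] at ha hb
    obtain ⟨c, rfl⟩ := ha
    obtain ⟨d, rfl⟩ := hb
    have := h.e2 hZ x (d⁻¹ * c)
    calc _ = d * (d⁻¹ * c * x * (d⁻¹ * c)⁻¹ * x) * d⁻¹ := by group
      _ = _ := by rw [this]; group)
  exact Core.le_fitting (N := normalClosure {x}) Core.isNilpotent_of_isMulCommutative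
    (subset_normalClosure rfl)

omit [Finite G] in
theorem center_cent_ne_bot {x : G} (x1 : x ≠ 1) : center (centralizer ({x} : Set G)) ≠ ⊥ :=
  ne_bot_iff_exists_ne_one.2 ⟨⟨⟨x, mem_centralizer_singleton_iff.2 rfl⟩, mem_center_iff.2
    fun g => Subtype.ext (mem_centralizer_singleton_iff.1 g.2)⟩,
      fun e => x1 (congrArg (fun z => z.1.1) e)⟩

theorem TC.nilpotent_cent (h : TC G) {x : G} (x1 : x ≠ 1) :
    Group.IsNilpotent (centralizer ({x} : Set G)) :=
  (h.subgroup _).nilpotent (center_cent_ne_bot x1)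

/-- `C(x)` is a maximal centralizer. -/
def MaxC (x : G) : Prop := x ≠ 1 ∧ ∀ w : G, w ≠ 1 →
  centralizer ({x} : Set G) ≤ centralizer {w} → centralizer ({w} : Set G) ≤ centralizer {x}

theorem exists_maxC {y : G} (y1 : y ≠ 1) :
    ∃ x : G, MaxC x ∧ centralizer ({y} : Set G) ≤ centralizer {x} := by
  obtain ⟨_, h1, ⟨x, x1, rfl⟩, h2⟩ := Finite.exists_le_maximal
    (p := fun F : Subgroup G => ∃ x : G, x ≠ 1 ∧ F = centralizer {x}) ⟨y, y1, rfl⟩
  exact ⟨x, ⟨x1, fun w w1 h => h2 ⟨w, w1, rfl⟩ h⟩, h1⟩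

theorem TC.cc (h : TC G) {x : G} (hx : MaxC x) {y : G} (hy : y ∈ centralizer ({x} : Set G))
    (y1 : y ≠ 1) : centralizer ({y} : Set G) ≤ centralizer {x} := by
  have h1 : centralizer ({y} : Set G) ≤ normalizer (centralizer ({x} : Set G) : Set G) :=
    fun g hg => h.mem_norm hy y1 (by
      rwa [mem_centralizer_singleton_iff.1 hg, mul_inv_cancel_right])
  have hxZ : x ∈ centralizer (centralizer ({x} : Set G) : Set G) :=
    mem_centralizer_iff.2 fun g hg => mem_centralizer_singleton_iff.1 hg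
  have h2 := Core.inf_centralizer_ne_bot_of_isNilpotent (h.nilpotent_cent y1)
    (N := centralizer (centralizer ({x} : Set G) : Set G))
    (centralizer_le (Set.singleton_subset_iff.2 hy))
    (fun g hg => by
      have hg := h1 hg
      rw [mem_normalizer_iff]
      intro w
      simp only [mem_centralizer_iff (s := (centralizer ({x} : Set G) : Set G))]
      constructor
      · intro hw f hf
        have := hw _ (Frob.conj_mem_of_mem_normalizer' hg hf)
        calc _ = g * (g⁻¹ * f * g * w) * g⁻¹ := by group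
          _ = _ := by rw [this]; group
      · intro hw f hf
        have := hw _ (Frob.conj_mem_of_mem_normalizer hg hf)
        calc _ = g⁻¹ * (g * f * g⁻¹ * (g * w * g⁻¹)) * g := by group
          _ = _ := by rw [this]; group)
    (fun e => hx.1 (by rwa [e, mem_bot] at hxZ))
  obtain ⟨w, w1⟩ := ne_bot_iff_exists_ne_one.1 h2
  refine le_trans (fun g hg => ?_) (hx.2 w (fun e => w1 (Subtype.ext e)) fun g hg => ?_)
  · exact mem_centralizer_singleton_iff.2 (mem_centralizer_iff.1 w.2.2 g hg)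
  · exact mem_centralizer_singleton_iff.2 (mem_centralizer_iff.1 w.2.1 g hg)

theorem TC.exists_normal (h : TC G) [Nontrivial G] [Group.IsSolvable G] :
    ∃ x : G, MaxC x ∧ (centralizer ({x} : Set G)).Normal := by
  obtain ⟨N, hN⟩ := Core.exists_isMinNormal (G := G)
  have := hN.normal
  have hc := hN.isMulCommutative inferInstance
  obtain ⟨n, n1⟩ := ne_bot_iff_exists_ne_one.1 hN.ne_bot
  have n1 : (n : G) ≠ 1 := fun e => n1 (Subtype.ext e)
  obtain ⟨x, hx, hle⟩ := exists_maxC n1
  have : N ≤ centralizer {x} := fun m hm => hle (mem_centralizer_singleton_iff.2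
    (congrArg Subtype.val (hc.is_comm.comm ⟨m, hm⟩ n)))
  exact ⟨x, hx, normalizer_eq_top_iff.1 (eq_top_iff.2 fun g _ =>
    h.mem_norm (this n.2) n1 (this (hN.normal.conj_mem _ n.2 g)))⟩

omit [Finite G] in
theorem center_ne_bot_of_eq_top {x : G} (x1 : x ≠ 1) (h : centralizer ({x} : Set G) = ⊤) :
    center G ≠ ⊥ := fun e => x1 (mem_bot.1 (e ▸ mem_center_iff.2 fun g =>
      mem_centralizer_singleton_iff.1 (h ▸ mem_top g)))

theorem TC.fc (h : TC G) (hF : Frob.IsFC G) [Nontrivial G] :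
    IsCyclic G ∨ ∃ m : ℕ, Odd m ∧ Nonempty (G ≃* Multiplicative (ZMod m) × QuaternionGroup 2) := by
  have hZ : center G ≠ ⊥ := by
    by_cases h2 : 2 ∣ Nat.card G
    · obtain ⟨z, hz⟩ := exists_prime_orderOf_dvd_card' 2 h2
      intro e
      have := hF.mem_center_of_orderOf_eq_two hz
      rw [e, mem_bot] at this
      simp [this] at hz
    · have := Coprime.ft.solvable (G := G) (Nat.odd_iff.2 (by omega))
      obtain ⟨x, hx, hn⟩ := h.exists_normal
      refine center_ne_bot_of_eq_top hx.1 ?_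
      by_contra ht
      obtain ⟨A, hA, -⟩ := Frob.exists_isFrobPair_of_centralizer_le
        (N := centralizer ({x} : Set G))
        (fun e => hx.1 (mem_bot.1 (e ▸ mem_centralizer_singleton_iff.2 rfl))) ht
        fun y hy y1 => h.cc hx hy y1
      exact hF.not_isFrobPair hA
  have hn := h.nilpotent hZ
  have hsup : pPrimeCore 2 G ⊔ pCore 2 G = ⊤ := by
    rw [eq_top_iff, ← Core.fitting_eq_top_iff.2 hn, sup_comm]
    exact Core.fitting_le_pCore_sup_pPrimeCore 2
  have hdis : Disjoint (pPrimeCore 2 G) (pCore 2 G) := by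
    obtain ⟨k, hk⟩ := IsPGroup.iff_card.1 (Core.isPGroup_pCore (G := G) 2)
    exact disjoint_of_coprime_natCard (hk ▸ (Core.coprime_card_pPrimeCore 2).pow_right k)
  let e : pPrimeCore 2 G × pCore 2 G ≃* G := MulEquiv.ofBijective
    ((pPrimeCore 2 G).subtype.noncommCoprod (pCore 2 G).subtype fun a b =>
      commute_of_normal_of_disjoint _ _ inferInstance inferInstance hdis a b a.2 b.2)
    ⟨(MonoidHom.noncommCoprod_injective _ _ _).2 ⟨Subtype.val_injective, Subtype.val_injective,
      by rwa [range_subtype, range_subtype]⟩, MonoidHom.range_eq_top.1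
      ((MonoidHom.noncommCoprod_range _ _ _).trans (by rw [range_subtype, range_subtype, hsup]))⟩
  have hodd := Core.coprime_card_pPrimeCore (G := G) 2
  have : IsZGroup (pPrimeCore 2 G) := ⟨fun p hp P => by
    have := Fact.mk hp
    rcases (hF.subgroup _).isCyclic_or_quaternion P.isPGroup' with h1 | ⟨rfl, k, -, ⟨f⟩⟩
    · exact h1
    · have h1 := card_subgroup_dvd_card (P : Subgroup (pPrimeCore 2 G))
      rw [Nat.card_congr f.toEquiv, Nat.card_eq_fintype_card, QuaternionGroup.card] at h1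
      exact absurd (hodd.symm.coprime_dvd_right h1) (by
        rw [show 4 * 2 ^ k = 2 * (2 * 2 ^ k) by ring]; simp)⟩
  have hc : IsCyclic (pPrimeCore 2 G) := inferInstance
  rcases hF.isCyclic_or_quaternion (Core.isPGroup_pCore 2) with h1 | ⟨-, k, hk, ⟨f⟩⟩
  · left
    have : IsZGroup G := ⟨fun p hp P => by
      have := Fact.mk hp
      rcases hF.isCyclic_or_quaternion P.isPGroup' with h2 | ⟨rfl, -⟩
      · exact h2
      · have := (Core.isNilpotent_iff_sylow_normal.1 hn) 2 inferInstance P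
        rwa [← Core.pCore_eq_of_normal_sylow P]⟩
    infer_instance
  · right
    obtain rfl : k = 1 := by
      have h1 := h.e2 hZ (f.symm (.xa 0)) (f.symm (.a 1))
      have h2 : f.symm (.a 1) * f.symm (.xa 0) * (f.symm (.a 1))⁻¹ * f.symm (.xa 0) =
          f.symm (.xa 0) * (f.symm (.a 1) * f.symm (.xa 0) * (f.symm (.a 1))⁻¹) := Subtype.ext h1
      rw [← map_inv, ← map_mul, ← map_mul, ← map_mul, ← map_mul, f.symm.injective.eq_iff] at h2
      have h3 : (QuaternionGroup.a 1 : QuaternionGroup (2 ^ k))⁻¹ = .a (-1) := rfl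
      simp only [h3, QuaternionGroup.a_mul_xa, QuaternionGroup.xa_mul_a, QuaternionGroup.xa_mul_xa,
        QuaternionGroup.a.injEq] at h2
      have h4 : ((4 : ℕ) : ZMod (2 * 2 ^ k)) = 0 := by push_cast; linear_combination h2
      rw [ZMod.natCast_eq_zero_iff, ← pow_succ', show 4 = 2 ^ 2 from rfl,
        Nat.pow_dvd_pow_iff_le_right one_lt_two] at h4
      omega
    exact ⟨_, Nat.coprime_two_right.1 hodd,
      ⟨e.symm.trans ((zmodCyclicMulEquiv hc).symm.prodCongr f)⟩⟩

theorem odd_orderOf_mul {H : Subgroup G} (cc : ∀ x ∈ H, x ≠ 1 → centralizer ({x} : Set G) ≤ H)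
    {s u : G} (hs : s ∈ H) (s1 : s ≠ 1) (s2 : s * s = 1) (hu : u ∉ H) (u2 : u * u = 1) :
    Odd (orderOf (s * u)) := by
  rw [← Nat.not_even_iff_odd]
  rintro ⟨k, hk⟩
  have hpos := orderOf_pos (s * u)
  have c1 : (s * u) ^ k ≠ 1 := pow_ne_one_of_lt_orderOf (by omega) (by omega)
  have c2 : (s * u) ^ k * (s * u) ^ k = 1 := by rw [← pow_add, ← hk, pow_orderOf_eq_one]
  have h1 : s * (s * u) * s⁻¹ = (s * u)⁻¹ := by
    rw [mul_inv_rev, BSW.inv_eq_of_mul_self u2, ← mul_assoc, s2, one_mul]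
  have h2 : s * (s * u) ^ k * s⁻¹ = (s * u) ^ k := by
    rw [← conj_pow, h1, inv_pow, BSW.inv_eq_of_mul_self c2]
  have hc := cc s hs s1 (mem_centralizer_singleton_iff.2 (mul_inv_eq_iff_eq_mul.1 h2).symm)
  have h4 : s * u ∈ H := cc _ hc c1
    (mem_centralizer_singleton_iff.2 ((Commute.refl (s * u)).pow_right k).eq)
  exact hu ((H.mul_mem_cancel_left hs).1 h4)

theorem TC.hypI (h : TC G) {x : G} (hx : MaxC x) {z : G} (hz : z ∈ centralizer ({x} : Set G))
    (z1 : z ≠ 1) (z2 : z * z = 1) (hn : ¬ (centralizer ({x} : Set G)).Normal) :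
    BSW.HypI (centralizer ({x} : Set G)) := by
  have cc := fun y hy y1 => h.cc hx (y := y) hy y1
  obtain ⟨g, hg⟩ : ∃ g, g * z * g⁻¹ ∉ centralizer ({x} : Set G) := by
    by_contra! hg
    exact hn (normalizer_eq_top_iff.1 (eq_top_iff.2 fun g _ => h.mem_norm hz z1 (hg g)))
  have := h.nilpotent_cent hx.1
  have h2 : pCore 2 (centralizer ({x} : Set G)) ≠ ⊥ := fun e => by
    have := Core.le_pCore_of_le_nilpotent_normal (p := 2) (N := ⊤)
      (P := zpowers (⟨z, hz⟩ : centralizer ({x} : Set G))) (Group.isNilpotent_top.2 this)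
      (IsPGroup.of_card (n := 1) (by
        rw [Nat.card_zpowers, pow_one]
        exact orderOf_eq_prime (Subtype.ext (by simpa [sq] using z2))
          fun e => z1 (congrArg Subtype.val e))) le_top (mem_zpowers _)
    rw [e, mem_bot] at this
    exact z1 (congrArg Subtype.val this)
  have h3 := Core.inf_center_ne_bot_of_isNilpotent h2
  obtain ⟨c, hc⟩ := exists_prime_orderOf_dvd_card' (G := ↥(pCore 2 (centralizer ({x} : Set G)) ⊓
      center (centralizer ({x} : Set G)))) 2 (by
    obtain ⟨k, hk⟩ := IsPGroup.iff_card.1 ((Core.isPGroup_pCore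
      (G := centralizer ({x} : Set G)) 2).to_inf_left (K := center _))
    rw [hk]
    refine dvd_pow_self 2 ?_
    rintro rfl
    exact h3 (card_eq_one.1 hk))
  have hc' : orderOf ((c.1 : centralizer ({x} : Set G)) : G) = 2 := by simpa using hc
  have c1 : ((c.1 : centralizer ({x} : Set G)) : G) ≠ 1 := fun e => by simp [e] at hc'
  have c2 : ((c.1 : centralizer ({x} : Set G)) : G) * c.1 = 1 := by
    rw [← sq]; exact orderOf_dvd_iff_pow_eq_one.1 hc'.dvd
  have c3 : ∀ w ∈ centralizer ({x} : Set G), w * c.1 = c.1 * w := fun w hw =>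
    congrArg Subtype.val (mem_center_iff.1 c.2.2 ⟨w, hw⟩)
  have c0 := c.1.2
  generalize ((c.1 : centralizer ({x} : Set G)) : G) = c at c0 c1 c2 c3
  refine ⟨fun s hs s1 s2 w => ⟨fun e => cc s hs s1 (mem_centralizer_singleton_iff.2 e),
    fun hw => ?_⟩, z, hz, z1, z2⟩
  obtain ⟨i, hi⟩ := BSW.exists_conj_of_odd s2 (BSW.conj_mul_self z2)
    (odd_orderOf_mul cc hs s1 s2 hg (BSW.conj_mul_self z2))
  obtain ⟨j, hj⟩ := BSW.exists_conj_of_odd c2 (BSW.conj_mul_self z2)
    (odd_orderOf_mul cc c0 c1 c2 hg (BSW.conj_mul_self z2))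
  generalize (s * (g * z * g⁻¹)) ^ i = a at hi
  generalize (c * (g * z * g⁻¹)) ^ j = b at hj
  have e : s = a⁻¹ * b * c * (a⁻¹ * b)⁻¹ := by
    calc s = a⁻¹ * (a * s * a⁻¹) * a := by group
      _ = _ := by rw [← hi, hj]; group
  have hN := h.mem_norm c0 c1 (e ▸ hs)
  generalize a⁻¹ * b = d at e hN
  have := c3 _ (Frob.conj_mem_of_mem_normalizer' hN hw)
  calc w * s = d * (d⁻¹ * w * d * c) * d⁻¹ := by rw [e]; group
    _ = _ := by rw [this, e]; group

end

/-- Let G be a finite group in which the centralizer of every element meets each of its conjugates by elements outside its normalizer trivially. Then G is nilpotent; or G is a Frobenius group with a complement that is cyclic or isomorphic to the direct product of a cyclic group of odd order and the quaternion group of order 8; or G is isomorphic to PSL₂(2ⁿ) for some n ≥ 2. -/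
theorem result {G : Type*} [Group G] [Finite G] (hTI : ∀ x : G, Cfsg.IsTISubset (Subgroup.centralizer ({x} : Set G) : Set G)) :
    Group.IsNilpotent G ∨
    (∃ H : Subgroup G, Cfsg.IsFrobeniusComplement H ∧
      (IsCyclic H ∨ ∃ m : ℕ, Odd m ∧ Nonempty (H ≃* Multiplicative (ZMod m) × QuaternionGroup 2))) ∨
    (∃ n : ℕ, 2 ≤ n ∧ Nonempty (G ≃* Matrix.ProjectiveSpecialLinearGroup (Fin 2) (GaloisField 2 n))) := by
  have h : TC G := fun x y g w y1 h1 h2 h3 => by
    by_cases hg : g ∈ normalizer (centralizer ({x} : Set G) : Set G)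
    · exact mem_centralizer_singleton_iff.1
        (Frob.conj_mem_of_mem_normalizer hg (mem_centralizer_singleton_iff.2 h3))
    · exact (y1 (hTI x g hg y (mem_centralizer_singleton_iff.2 h1)
        (mem_centralizer_singleton_iff.2 h2))).elim
  rcases subsingleton_or_nontrivial G with _ | _
  · exact Or.inl inferInstance
  by_cases hZ : center G = ⊥
  swap
  · exact Or.inl (h.nilpotent hZ)
  right
  have hne : ∀ x : G, x ≠ 1 → centralizer ({x} : Set G) ≠ ⊥ ∧ centralizer ({x} : Set G) ≠ ⊤ :=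
    fun x x1 => ⟨fun e => x1 (mem_bot.1 (e ▸ mem_centralizer_singleton_iff.2 rfl)),
      fun e => center_ne_bot_of_eq_top x1 e hZ⟩
  have hF : ∀ A : Subgroup G, IsFrobeniusComplement A → ∃ H : Subgroup G,
      IsFrobeniusComplement H ∧ (IsCyclic H ∨ ∃ m : ℕ, Odd m ∧
        Nonempty (H ≃* Multiplicative (ZMod m) × QuaternionGroup 2)) := fun A hA => by
    have := (nontrivial_iff_ne_bot A).2 hA.1
    exact ⟨A, hA, (h.subgroup A).fc (Frob.isFC_of_isFrobeniusComplement hA)⟩
  by_cases hn : ∃ x : G, MaxC x ∧ (centralizer ({x} : Set G)).Normal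
  · obtain ⟨x, hx, hn⟩ := hn
    obtain ⟨A, hA, h1⟩ := Frob.exists_isFrobPair_of_centralizer_le (hne x hx.1).1 (hne x hx.1).2
      fun y hy y1 => h.cc hx hy y1
    exact Or.inl (hF A (hA.isFrobeniusComplement h1))
  by_cases h2 : 2 ∣ Nat.card G
  swap
  · have := Coprime.ft.solvable (G := G) (Nat.odd_iff.2 (by omega))
    exact (hn h.exists_normal).elim
  obtain ⟨z, hz⟩ := exists_prime_orderOf_dvd_card' 2 h2
  have z1 : z ≠ 1 := fun e => by simp [e] at hz
  have z2 : z * z = 1 := by rw [← sq, ← hz, pow_orderOf_eq_one]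
  obtain ⟨x, hx, hle⟩ := exists_maxC z1
  by_cases hN : normalizer (centralizer ({x} : Set G) : Set G) ≤ centralizer ({x} : Set G)
  · refine Or.inl (hF _ ((Frob.isFrobeniusComplement_iff _).2 ⟨(hne x hx.1).1, (hne x hx.1).2,
      fun g hg y hy hgy => ?_⟩))
    by_contra y1
    exact hg (inv_mem_iff.1 (hN (h.mem_norm hy y1 (by rwa [inv_inv]))))
  have hI := h.hypI hx (hle (mem_centralizer_singleton_iff.2 rfl)) z1 z2 fun e => hn ⟨x, hx, e⟩
  obtain ⟨t, ht, t2⟩ := hI.exists_inv_not_mem fun e => hn ⟨x, hx, normalizer_eq_top_iff.1 e⟩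
  have hC : BSW.HypC (centralizer ({x} : Set G)) t := ⟨hI,
    fun y hy y1 g e => h.cc hx hy y1 (mem_centralizer_singleton_iff.2 e),
    SetLike.not_le_iff_exists.1 hN, ht, t2⟩
  obtain ⟨s, hs, s1, s2⟩ := hI.ex
  obtain ⟨n, hn, -, -, e⟩ := hC.main fun y hy j hj => (h y s j y s1 (hI.comm hs s2 hy).symm
    (hI.comm (hC.K_conj_mem hj hs) (BSW.conj_mul_self s2) hy).symm rfl).symm
  exact Or.inr ⟨n, hn, e⟩

end Cfsg.Agent.S4064
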