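import Cfsg.Statements.S4073
import Cfsg.Agent.Lib.BSW.SL2Sub
import Cfsg.Agent.Lib.Coprime.FTFinal

set_option autoImplicit false
open Cfsg

namespace Cfsg.Agent.S4073

open Subgroup BSW

section
variable {G : Type*} [Group G] [Finite G] [IsSimpleGroup G] (hna : ¬ IsMulCommutative G)
  (h : CA2 G) {n : ℕ} (hG : Nat.card G = (2 ^ n - 1) * 2 ^ n * (1 + 2 ^ n))
include hna h hG

theorem inv_cent {z : G} (z1 : z ≠ 1) (z2 : z * z = 1) :
    Nat.card (centralizer ({z} : Set G)) = 2 ^ n ∧ (centralizer ({z} : Set G)).relIndex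
      (normalizer (centralizer ({z} : Set G) : Set G)) = 2 ^ n - 1 := by
  rcases dichotomy (h.cent_comm z1) (fun x hx x1 g => (h.cent_cc z1 x hx x1 g).1)
    (mem_centralizer_singleton_iff.2 rfl) z1 z2 with ⟨N, hN, N1, hc⟩ | ⟨m, -, h1, h2, h3, -⟩
  · obtain rfl := hN.eq_bot_or_eq_top.resolve_left N1
    exact (hna ⟨⟨fun a b => comm_of_mem hc (mem_top a) (mem_top b)⟩⟩).elim
  · obtain rfl := eq_of_card_psl (h3.symm.trans hG)
    exact ⟨h1, h2⟩

theorem exists_mul (hp : (2 ^ n - 1).Prime) {z : G} (z1 : z ≠ 1) (z2 : z * z = 1)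
    {X : Subgroup G} {y : G} (hy : y ∈ X)
    (hyN : y ∈ normalizer (centralizer ({z} : Set G) : Set G))
    (hyA : y ∉ centralizer ({z} : Set G)) {g : G}
    (hg : g ∈ normalizer (centralizer ({z} : Set G) : Set G)) :
    ∃ x ∈ X, ∃ a ∈ centralizer ({z} : Set G), g = x * a := by
  have h1 : g ∈ ((X ⊓ normalizer (centralizer ({z} : Set G) : Set G) ⊔
      centralizer ({z} : Set G) : Subgroup G) : Set G) :=
    le_of_prime_relIndex le_normalizer ((inv_cent hna h hG z1 z2).2 ▸ hp) le_sup_right hyN hyA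
      (mem_sup_left (mem_inf.2 ⟨hy, hyN⟩)) hg
  rw [coe_mul_of_left_le_normalizer_right _ _ inf_le_right] at h1
  obtain ⟨x, hx, a, ha, e⟩ := h1
  exact ⟨x, hx.1, a, ha, e.symm⟩

theorem exists_abelian (hp : (2 ^ n - 1).Prime) {X : Subgroup G} (X1 : X ≠ ⊥) (X2 : X ≠ ⊤) :
    ∃ N : Subgroup X, N.Normal ∧ N ≠ ⊥ ∧ IsMulCommutative N := by
  by_cases h2 : 2 ∣ Nat.card X
  swap
  · have := Coprime.ft.solvable (G := X) (Nat.odd_iff.2 (by omega))
    have := (nontrivial_iff_ne_bot X).2 X1
    obtain ⟨N, hN⟩ := Core.exists_isMinNormal (G := X)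
    exact ⟨N, hN.normal, hN.ne_bot, hN.isMulCommutative inferInstance⟩
  obtain ⟨z, hz⟩ := exists_prime_orderOf_dvd_card' 2 h2
  have z1 : z ≠ 1 := fun e => by simp [e] at hz
  have z2 : z * z = 1 := by rw [← sq, ← hz, pow_orderOf_eq_one]
  have z1' : (z : G) ≠ 1 := fun e => z1 (Subtype.ext e)
  have z2' : (z : G) * z = 1 := congrArg Subtype.val z2
  have hX := h.of_injective X.subtype X.subtype_injective
  refine (dichotomy (hX.cent_comm z1) (fun x hx x1 g => (hX.cent_cc z1 x hx x1 g).1)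
    (mem_centralizer_singleton_iff.2 rfl) z1 z2).resolve_right ?_
  rintro ⟨m, hm, h1, h2, h3, -⟩
  have hz' : (z : G) ∈ centralizer ({(z : G)} : Set G) := mem_centralizer_singleton_iff.2 rfl
  have hI : HypI (centralizer ({(z : G)} : Set G)) :=
    ⟨fun w hw w1 _ => h.cent_cc z1' w hw w1, z, hz', z1', z2'⟩
  obtain ⟨y, hy, hyA⟩ := SetLike.not_le_iff_exists.1
      fun e : normalizer (centralizer ({z} : Set X) : Set X) ≤ centralizer ({z} : Set X) => (by
    have := relIndex_eq_one.2 e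
    rw [h2] at this
    have := Nat.pow_le_pow_right two_pos hm
    omega : False)
  have hA : centralizer ({(z : G)} : Set G) ≤ X := fun w hw => by
    by_cases w1 : w = 1
    · exact w1 ▸ one_mem _
    obtain ⟨g, rfl⟩ := hI.exists_conj_of_ne_top (fun e => by
      rcases (normalizer_eq_top_iff.1 e).eq_bot_or_eq_top with e | e
      · exact hI.ne_bot e
      · exact hna ⟨⟨fun a b => comm_of_mem (h.cent_comm z1') (e ▸ mem_top a) (e ▸ mem_top b)⟩⟩)
      hz' z1' z2' w1 (h.el _ w z1' z2' (mem_centralizer_singleton_iff.1 hw))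
    obtain ⟨x, hx, a, ha, rfl⟩ := exists_mul hna h hG hp z1' z2' y.2
      (hI.mem_norm_of_conj hz' z1' z2' (mem_centralizer_singleton_iff.2 (congrArg Subtype.val
        (mem_centralizer_singleton_iff.1 (Frob.conj_mem_of_mem_normalizer hy
          (mem_centralizer_singleton_iff.2 rfl))))))
      (fun e => hyA (mem_centralizer_singleton_iff.2
        (Subtype.ext (mem_centralizer_singleton_iff.1 e)))) (hI.mem_norm_of_conj hz' z1' z2' hw)
    rw [show x * a * z * (x * a)⁻¹ = x * (a * z) * a⁻¹ * x⁻¹ by group,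
      mem_centralizer_singleton_iff.1 ha, ← mul_assoc, mul_inv_cancel_right]
    exact mul_mem (mul_mem hx z.2) (inv_mem hx)
  have h4 : centralizer ({z} : Set X) = (centralizer ({(z : G)} : Set G)).subgroupOf X := by
    ext w
    simp only [mem_subgroupOf, mem_centralizer_singleton_iff, Subtype.ext_iff, coe_mul]
  rw [h4, Nat.card_congr (subgroupOfEquivOfLe hA).toEquiv, (inv_cent hna h hG z1' z2').1] at h1
  obtain rfl := Nat.pow_right_injective le_rfl h1
  exact X2 (eq_top_of_card_eq _ (h3.trans hG.symm))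

theorem selfnorm (hp : (2 ^ n - 1).Prime) : SN G := by
  intro H hH y hy
  by_cases e : normalizer (H : Set G) = ⊤
  · rcases (normalizer_eq_top_iff.1 e).eq_bot_or_eq_top with rfl | rfl
    · exact (hH inferInstance).elim
    · exact mem_top y
  obtain ⟨N, hN, N1, hc⟩ := exists_abelian hna h hG hp (fun e => hH (by
    rw [eq_bot_iff.2 (e ▸ le_normalizer : H ≤ ⊥)]; infer_instance)) e
  obtain ⟨w, w1⟩ := ne_bot_iff_exists_ne_one.1 N1
  have w1 : ((w : normalizer (H : Set G)) : G) ≠ 1 := fun e => w1 (Subtype.ext (Subtype.ext e))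
  have hw : ∀ g ∈ normalizer (H : Set G), g * w * g⁻¹ * w = w * (g * w * g⁻¹) := fun g hg =>
    congrArg Subtype.val (comm_of_mem hc (hN.conj_mem _ w.2 ⟨g, hg⟩) w.2)
  generalize ((w : normalizer (H : Set G)) : G) = w at w1 hw
  have cc := h.cent_cc w1
  have hX : normalizer (H : Set G) ≤ normalizer (centralizer ({w} : Set G) : Set G) :=
    fun g hg => mem_norm_of_cent_eq cc (mem_centralizer_singleton_iff.2 rfl) w1
      (mem_centralizer_singleton_iff.2 (hw g hg))
  obtain ⟨k, hk, hkA⟩ := SetLike.not_le_iff_exists.1 fun e : H ≤ centralizer ({w} : Set G) =>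
    hH (Core.isMulCommutative_of_forall fun a ha b hb =>
      comm_of_mem (h.cent_comm w1) (e ha) (e hb))
  obtain ⟨x, hx, a, ha, rfl⟩ : ∃ x ∈ H, ∃ a ∈ centralizer ({w} : Set G), y = x * a := by
    by_cases w2 : w * w = 1
    · exact exists_mul hna h hG hp w1 w2 hk (hX (le_normalizer hk)) hkA (hX hy)
    have h1 := (h.inv w k w2 (hw k (le_normalizer hk))).resolve_left fun e =>
      hkA (mem_centralizer_singleton_iff.2 (mul_inv_eq_iff_eq_mul.1 e))
    rcases h.inv w y w2 (hw y hy) with h2 | h2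
    · exact ⟨1, one_mem _, y, mem_centralizer_singleton_iff.2 (mul_inv_eq_iff_eq_mul.1 h2),
        (one_mul y).symm⟩
    · refine ⟨k, hk, k⁻¹ * y, mem_centralizer_singleton_iff.2 ?_, by group⟩
      calc k⁻¹ * y * w = k⁻¹ * (y * w * y⁻¹) * y := by group
        _ = _ := by rw [h2, ← h1]; group
  have ha' := (Subgroup.mul_mem_cancel_left _ (le_normalizer hx)).1 hy
  have fpf : ∀ b ∈ centralizer ({w} : Set G), k * b = b * k → b = 1 := fun b hb e => by
    by_contra b1
    exact hkA ((cc b hb b1 k).1 e)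
  obtain ⟨b, hb, e⟩ := Frob.exists_conj_of_fpf (K := H ⊓ centralizer ({w} : Set G))
    (Core.le_normalizer_inf le_normalizer (le_normalizer.trans hX) hk) (fun b hb => fpf b hb.2)
    (k := a * k * a⁻¹ * k⁻¹) ⟨H.mul_mem (Frob.conj_mem_of_mem_normalizer ha' hk) (inv_mem hk), by
      change _ ∈ centralizer ({w} : Set G)
      rw [mul_assoc, mul_assoc, ← mul_assoc k]
      exact mul_mem ha (Frob.conj_mem_of_mem_normalizer (hX (le_normalizer hk)) (inv_mem ha))⟩
  have := fpf _ (mul_mem (inv_mem hb.2) ha) (by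
    calc k * (b⁻¹ * a) = b⁻¹ * (b * k * b⁻¹) * a := by group
      _ = _ := by rw [e]; group)
  exact mul_mem hx (inv_mul_eq_one.1 this ▸ hb.1)

end

/-- Let G be a finite non-abelian simple group. Every non-abelian subgroup of G is self-normalizing if and only if G is isomorphic to PSL₂(2ⁿ) for some n ≥ 2 with 2ⁿ − 1 prime (this includes the alternating group of degree 5 as PSL₂(4)). -/
theorem result {G : Type*} [Group G] [Finite G] [IsSimpleGroup G]
    (hna : ¬ IsMulCommutative G) :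
    (∀ H : Subgroup G, ¬ IsMulCommutative H → Subgroup.normalizer (H : Set G) = H) ↔
    ∃ n : ℕ, 2 ≤ n ∧ (2 ^ n - 1).Prime ∧ Nonempty (G ≃* Matrix.ProjectiveSpecialLinearGroup (Fin 2) (GaloisField 2 n)) := by
  constructor
  · intro h
    refine SN.main hna (fun H hH => (h H hH).le) ?_
    by_contra h2
    have := Coprime.ft.solvable (G := G) (Nat.odd_iff.2 (by omega))
    exact hna ⟨⟨IsSimpleGroup.comm_iff_isSolvable.2 this⟩⟩
  · rintro ⟨n, hn, hp, ⟨e⟩⟩ H hH
    exact le_antisymm (selfnorm hna (ca2_SL2.of_injective (e.trans pslEquiv).toMonoidHom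
      (e.trans pslEquiv).injective) ((Nat.card_congr e.toEquiv).trans (card_psl (by omega))) hp H hH)
      le_normalizer

end Cfsg.Agent.S4073
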