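import Cfsg.Statements.S4087
import Cfsg.Agent.Lib.CIT.Two
import Cfsg.Agent.Lib.CIT.Tori

set_option autoImplicit false
open Cfsg

namespace Cfsg.Agent.S4087

open Subgroup Cfsg.Agent.Coprime Cfsg.Agent.OO Cfsg.Agent.CIT
open scoped Pointwise MatrixGroups

universe u

theorem exists_pp {G : Type*} [Group G] (h : ∀ g : G, g ≠ 1 → IsPrimePow (orderOf g)) {N : ℕ} {g : G}
    (hN : N ∣ orderOf g) : ∃ p k : ℕ, p.Prime ∧ N = p ^ k := by
  by_cases e : g = 1
  · exact ⟨2, 0, Nat.prime_two, by simpa [e] using hN⟩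
  obtain ⟨p, k, hp, -, e⟩ := (isPrimePow_nat_iff _).1 (h g e)
  obtain ⟨j, -, e⟩ := (Nat.dvd_prime_pow hp).1 (e ▸ hN)
  exact ⟨p, j, hp, e⟩

theorem eq_of_dvd {s p k : ℕ} (hs : s.Prime) (hp : p.Prime) (h : s ∣ p ^ k) : s = p :=
  (Nat.prime_dvd_prime_iff_eq hs hp).1 (hs.dvd_of_dvd_pow h)

/-- all prime divisors lie in a set with `k` elements besides `2` -/
def Few (k n : ℕ) : Prop := ∃ S : Finset ℕ, S.card ≤ k ∧ ∀ s, s.Prime → s ∣ n → s = 2 ∨ s ∈ S

theorem Few.le {k n : ℕ} (h : Few k n) : n.primeFactors.card ≤ k + 1 := by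
  obtain ⟨S, h1, h2⟩ := h
  exact (Finset.card_le_card fun s hs => Finset.mem_insert.2 (h2 s (Nat.prime_of_mem_primeFactors hs)
    (Nat.dvd_of_mem_primeFactors hs))).trans ((Finset.card_insert_le _ _).trans (by omega))

theorem Few.mul {k n : ℕ} (h : Few k n) (j : ℕ) : Few k (n * 2 ^ j) := by
  obtain ⟨S, h1, h2⟩ := h
  exact ⟨S, h1, fun s hs hd => (hs.dvd_mul.1 hd).elim (h2 s hs)
    fun e => Or.inl (eq_of_dvd hs Nat.prime_two e)⟩

theorem psl2 {G : Type*} [Group G] (h : ∀ g : G, g ≠ 1 → IsPrimePow (orderOf g)) {F : Type} [Field F]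
    [Fintype F] (e : G ≃* PSL(2, F)) : Few 2 (Nat.card G) := by
  have key : ∀ N, N + 1 = Fintype.card F ∨ N = Fintype.card F + 1 →
      ∃ p k : ℕ, p.Prime ∧ N ∣ p ^ k * 2 := fun N hN => by
    obtain ⟨g, hg⟩ := exists_dvd_SL2 hN
    obtain ⟨p, k, hp, hk⟩ := exists_pp h (dvd_refl (orderOf (e.symm g)))
    refine ⟨p, k, hp, hg.trans (orderOf_dvd_of_pow_eq_one ?_)⟩
    rw [pow_mul, Lin.SL2.sq_eq_one_of_mem_center ((QuotientGroup.eq_one_iff _).1 (by
      rw [QuotientGroup.mk_pow, ← hk, e.symm.orderOf_eq, pow_orderOf_eq_one]))]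
  obtain ⟨a, i, ha, h1⟩ := key (Fintype.card F - 1) (Or.inl (Nat.sub_add_cancel Fintype.card_pos))
  obtain ⟨b, j, hb, h2⟩ := key _ (Or.inr rfl)
  obtain ⟨c, _, n, hc, hn⟩ := FiniteField.card' F
  have h3 : ∀ s, s.Prime → s ∣ Nat.card G → s = 2 ∨ s = c ∨ s = a ∨ s = b := fun s hs hd => by
    have := (Nat.card_congr e.toEquiv ▸ hd).trans (card_quotient_dvd_card _)
    rw [Lin.card_SL2, hs.dvd_mul, hs.dvd_mul] at this
    have h4 : ∀ {p k}, p.Prime → s ∣ p ^ k * 2 → s = 2 ∨ s = p := fun hp e => (hs.dvd_mul.1 e).elim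
      (fun e => Or.inr (eq_of_dvd hs hp e)) fun e => Or.inl (eq_of_dvd hs Nat.prime_two (k := 1) e)
    rcases this with e | e | e
    · exact Or.inr (Or.inl (eq_of_dvd hs hc (hn ▸ e)))
    · have := h4 ha (e.trans h1); tauto
    · have := h4 hb (e.trans h2); tauto
  have h4 : ∀ {p k N}, p.Prime → N ∣ p ^ k * 2 → 2 * 2 ∣ N → 2 = p := fun hp e e' =>
    eq_of_dvd Nat.prime_two hp (Nat.dvd_of_mul_dvd_mul_right two_pos (e'.trans e))
  by_cases c2 : c = 2
  · exact ⟨{a, b}, Finset.card_le_two, fun s hs hd => by simpa [c2] using h3 s hs hd⟩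
  have := Nat.odd_iff.1 (hn ▸ (hc.odd_of_ne_two c2).pow : Odd (Fintype.card F))
  by_cases h5 : 2 * 2 ∣ Fintype.card F + 1
  · exact ⟨{c, a}, Finset.card_le_two, fun s hs hd => by
      have := h3 s hs hd; simp only [← h4 hb h2 h5, Finset.mem_insert, Finset.mem_singleton] at *; tauto⟩
  · exact ⟨{c, b}, Finset.card_le_two, fun s hs hd => by
      have := h3 s hs hd
      simp only [← h4 ha h1 (by omega), Finset.mem_insert, Finset.mem_singleton] at *; tauto⟩

theorem zt {G : Type u} [Group G] [Finite G] (hpp : ∀ g : G, g ≠ 1 → IsPrimePow (orderOf g))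
    (h : IsZT G) : Few 2 (Nat.card G) ∨ Few 3 (Nat.card G) ∧ ∃ (F : Type) (_ : Field F) (_ : Fintype F),
      (Fintype.card F = 8 ∧ Nonempty (G ≃* Lie.Sz F 4)) ∨
        (Fintype.card F = 32 ∧ Nonempty (G ≃* Lie.Sz F 8)) := by
  obtain ⟨S, t, h⟩ := h
  rcases R1.zt1 _ S t h with h3 | ⟨h3, h4⟩
  · obtain ⟨n, hn, -, -, ⟨e⟩⟩ := h.main fun x hx j hj => (h.comm hx (h3 x hx) (h.K_conj_mem hj hx)).symm
    let := Fintype.ofFinite (GaloisField 2 n)
    exact Or.inl (psl2 hpp e)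
  obtain ⟨m, hm, h5, -, ⟨e⟩⟩ := h.suzuki h3 h4
  let := Fintype.ofFinite (GaloisField 2 (2 * m + 1))
  have hF : Fintype.card (GaloisField 2 (2 * m + 1)) = 2 ^ (2 * m + 1) := by
    rw [← Nat.card_eq_fintype_card, GaloisField.card _ _ (by omega)]
  obtain ⟨θ, ρ, s, d, w, sz⟩ := exists_szd hm e
  obtain ⟨N, hN⟩ := Nat.exists_eq_add_of_le' (show 2 ^ (m + 1) ≤ 2 ^ (2 * m + 1) + 1 from
    (Nat.pow_le_pow_right two_pos (by omega)).trans (Nat.le_succ _))
  obtain ⟨_, h6⟩ := sz.exists_dvd hF (BSW.eq_pow_of_sq θ sz.sq) (Or.inl hN.symm)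
  obtain ⟨_, h7⟩ := sz.exists_dvd hF (BSW.eq_pow_of_sq θ sz.sq) (Or.inr rfl)
  obtain ⟨a, i, ha, rfl⟩ := exists_pp hpp h6
  obtain ⟨b, j, hb, h8⟩ := exists_pp hpp h7
  have h9 : 1 + (2 ^ (2 * m + 1)) ^ 2 = a ^ i * b ^ j := by
    zify at hN ⊢
    rw [← Nat.cast_pow b, ← h8, eq_sub_of_add_eq hN.symm]; push_cast; ring
  obtain ⟨c, hc, h10⟩ := Nat.exists_prime_and_dvd (n := ♯(BSW.Kt S t)) (by have := hyp_le_card h; omega)
  refine Or.inr ⟨⟨{a, b, c}, Finset.card_le_three, fun r hr hd => ?_⟩, ?_⟩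
  · rw [h.card_eq, h5, h9, hr.dvd_mul, hr.dvd_mul, hr.dvd_mul, ← pow_mul] at hd
    rcases hd with (e | e) | e | e
    · obtain ⟨x, hx, rfl⟩ := cauchy hr e
      obtain ⟨y, hy, rfl⟩ := cauchy hc h10
      have : orderOf x = orderOf y := by_contra fun e => S3992.not_commute hpp
        (fun e => hr.ne_one (orderOf_eq_one_iff.2 e)) (fun e => hc.ne_one (orderOf_eq_one_iff.2 e))
        ((Nat.coprime_primes hr hc).2 e) (h.K_comm hx hy)
      simp [this]
    · exact Or.inl (eq_of_dvd hr Nat.prime_two e)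
    · simp [eq_of_dvd hr ha e]
    · simp [eq_of_dvd hr hb e]
  have : m ≤ 2 := by
    have h11 : 5 ∣ a ^ i * b ^ j := by
      rw [← h9, ← pow_mul, mul_comm, pow_mul, add_comm]
      exact Odd.nat_add_dvd_pow_add_pow 4 1 (odd_two_mul_add_one m) |>.trans (by simp)
    rcases Nat.prime_five.dvd_mul.1 h11 with e | e
    · exact le_two_of_five hm (Or.inl (eq_of_dvd Nat.prime_five ha e ▸ hN.symm))
    · exact le_two_of_five hm (Or.inr (eq_of_dvd Nat.prime_five hb e ▸ h8.symm))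
  interval_cases m
  exacts [⟨_, _, _, Or.inl ⟨hF, ⟨e⟩⟩⟩, ⟨_, _, _, Or.inr ⟨hF, ⟨e⟩⟩⟩]


/-- Let G be a finite group in which every non-identity element has prime-power order (its prime graph has no edges). Then the order of G has at most four distinct prime divisors; and if it has exactly four, then either G is isomorphic to PSL(3,4), or G has a normal 2-subgroup N with G/N isomorphic to the Suzuki group over the field with 8 or with 32 elements. -/
theorem result {G : Type*} [Group G] [Finite G] (h : ∀ g : G, g ≠ 1 → IsPrimePow (orderOf g)) :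
    (Nat.card G).primeFactors.card ≤ 4 ∧
    ((Nat.card G).primeFactors.card = 4 →
      (∃ (F : Type) (_ : Field F) (_ : Fintype F), Fintype.card F = 4 ∧
        Nonempty (G ≃* Matrix.ProjectiveSpecialLinearGroup (Fin 3) F)) ∨
      (∃ (N : Subgroup G) (_ : N.Normal), IsPGroup 2 ↥N ∧
        ∃ (F : Type) (_ : Field F) (_ : Fintype F),
          (Fintype.card F = 8 ∧ Nonempty (G ⧸ N ≃* ↥(Cfsg.Lie.Sz F 4))) ∨
          (Fintype.card F = 32 ∧ Nonempty (G ⧸ N ≃* ↥(Cfsg.Lie.Sz F 8))))) := by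
  by_cases hs : Group.IsSolvable G
  · have := S3992.card_primeFactors_le h
    exact ⟨by omega, by omega⟩
  have hC : IsCIT G := fun t x t1 t2 e ho => by_contra fun x1 => S3992.not_commute h x1 t1
    (by rw [orderOf_inv' t1 t2]; exact Nat.coprime_two_right.2 ho) e
  have few : Few 2 (Nat.card G) → (Nat.card G).primeFactors.card ≤ 4 ∧
      ((Nat.card G).primeFactors.card = 4 → False) := fun h => by have := h.le; omega
  by_cases hO : pCore 2 G = ⊥
  · rcases hC.cases hs hO with h1 | ⟨F, _, _, -, -, ⟨e⟩⟩ | ⟨N, -, h1, F, _, _, -, ⟨e⟩⟩ | ⟨D, S, t, h1⟩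
    · rcases zt h h1 with h2 | ⟨h2, F, _, _, h3⟩
      · exact (few h2).imp_right fun h e => (h e).elim
      · exact ⟨h2.le, fun _ => Or.inr ⟨⊥, inferInstance, IsPGroup.of_bot, F, _, _, h3.imp
          (And.imp_right fun ⟨e⟩ => ⟨QuotientGroup.quotientBot.trans e⟩)
          (And.imp_right fun ⟨e⟩ => ⟨QuotientGroup.quotientBot.trans e⟩)⟩⟩
    · exact (few (psl2 h e)).imp_right fun h e => (h e).elim
    · have := (psl2 (fun g hg => orderOf_coe g ▸ h g fun e => hg (Subtype.ext e)) e).mul 1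
      rw [pow_one, show Nat.card N * 2 = Nat.card G from h1 ▸ card_mul_index N] at this
      exact (few this).imp_right fun h e => (h e).elim
    · obtain ⟨h2, h3⟩ := h1.equiv hO h
      exact ⟨h2 ▸ by decide +kernel, fun _ => Or.inl ⟨F4, _, _, card_F4, h3⟩⟩
  obtain ⟨k, hk⟩ := (Core.isPGroup_pCore (G := G) 2).exists_card_eq
  rw [card_eq_card_quotient_mul_card_subgroup (pCore 2 G), hk] at few ⊢
  rcases zt (S3992.eppo_of_surjective h _ (QuotientGroup.mk'_surjective _)) (hC.main hs hO).1 with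
    h2 | ⟨h2, h3⟩
  · exact (few (h2.mul k)).imp_right fun h e => (h e).elim
  · exact ⟨(h2.mul k).le, fun _ => Or.inr ⟨_, inferInstance, Core.isPGroup_pCore 2, h3⟩⟩

end Cfsg.Agent.S4087
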