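import Cfsg.Statements.S4113
import Cfsg.Agent.Lib.Frob.Basic

set_option autoImplicit false
open Cfsg

namespace Cfsg.Agent.S4113

/-- Let G be a finite group, M ≤ N non-trivial proper normal subgroups, and H a subgroup with HM = G and H ∩ M = 1. Then every element of G outside N acts fixed-point-freely on M (C_G(x) ≤ N for every x ∈ M, x ≠ 1) if and only if H ∩ gHg⁻¹ ≤ H ∩ N for every g outside H, with H proper and non-trivial and H ∩ N proper in H. -/
theorem result {G : Type*} [Group G] [Finite G] (N M : Subgroup G) [N.Normal] [M.Normal] (hMN : M ≤ N) (hM1 : M ≠ ⊥) (hN2 : N ≠ ⊤)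
    (H : Subgroup G) (hHM : H ⊔ M = ⊤) (hHM' : H ⊓ M = ⊥) :
    (∀ x ∈ M, x ≠ 1 → Subgroup.centralizer ({x} : Set G) ≤ N) ↔
      (H ≠ ⊥ ∧ H ≠ ⊤ ∧ H ⊓ N < H ∧ ∀ g : G, g ∉ H → H ⊓ H.map (MulAut.conj g).toMonoidHom ≤ N) := by
  have hdec : ∀ g : G, ∃ m ∈ M, ∃ h ∈ H, m * h = g := fun g => by
    have : g ∈ M ⊔ H := by rw [sup_comm, hHM]; trivial
    exact (Core.mem_sup_of_le_normalizer' Subgroup.le_normalizer_of_normal).1 this
  have hone : ∀ x ∈ H, x ∈ M → x = 1 := fun x h1 h2 =>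
    Subgroup.mem_bot.1 (hHM' ▸ Subgroup.mem_inf.2 ⟨h1, h2⟩)
  constructor
  · intro hc
    have hHN : ¬ H ≤ N := fun h => hN2 (top_le_iff.1 (hHM ▸ sup_le h hMN))
    refine ⟨fun e => hHN (e ▸ bot_le), fun e => hM1 (by rw [← hHM', e, top_inf_eq]),
      lt_of_le_of_ne inf_le_left fun e => hHN (inf_eq_left.1 e), fun g hg x hx => ?_⟩
    obtain ⟨m, hm, h, hh, rfl⟩ := hdec g
    obtain ⟨hx1, y, hy, rfl⟩ := hx
    have m1 : m ≠ 1 := by rintro rfl; exact hg (by simpa using hh)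
    have hz : h * y * h⁻¹ ∈ H := H.mul_mem (H.mul_mem hh hy) (H.inv_mem hh)
    have e : (MulAut.conj (m * h)).toMonoidHom y = m * (h * y * h⁻¹) * m⁻¹ := by
      simp [mul_assoc]
    rw [e] at hx1 ⊢
    generalize h * y * h⁻¹ = z at hz hx1 ⊢
    have h1 : m * z * m⁻¹ * z⁻¹ = 1 := hone _ (H.mul_mem hx1 (H.inv_mem hz)) (by
      have := M.mul_mem hm (Subgroup.Normal.conj_mem ‹_› _ (M.inv_mem hm) z)
      simpa [mul_assoc] using this)
    have h2 : m * z * m⁻¹ = z := mul_inv_eq_one.1 h1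
    rw [h2]
    exact hc m hm m1 (Subgroup.mem_centralizer_singleton_iff.2 (mul_inv_eq_iff_eq_mul.1 h2).symm)
  · rintro ⟨-, -, -, hc⟩ x hx x1 c hcx
    by_contra hcN
    obtain ⟨m, hm, h, hh, rfl⟩ := hdec c
    have hhN : h ∉ N := fun e => hcN (N.mul_mem (hMN hm) e)
    have hf : ∀ k ∈ M, h * k = k * h → k = 1 := fun k hk hkc => by
      by_contra k1
      refine hhN (hc k (fun e => k1 (hone k e hk)) ⟨hh, h, hh, ?_⟩)
      simp [← hkc]
    obtain ⟨y, hy, e⟩ := Frob.exists_conj_of_fpf (K := M)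
      (Subgroup.le_normalizer_of_normal (Subgroup.mem_top h)) hf hm
    rw [← e, Subgroup.mem_centralizer_singleton_iff] at hcx
    have h1 := hf (y⁻¹ * x * y) (M.mul_mem (M.mul_mem (M.inv_mem hy) hx) hy) (by
      calc h * (y⁻¹ * x * y) = y⁻¹ * (y * h * y⁻¹ * x) * y := by group
        _ = _ := by rw [hcx]; group)
    exact x1 (by simpa [mul_assoc, inv_mul_eq_iff_eq_mul] using h1)

end Cfsg.Agent.S4113
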