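import Cfsg.Statements.S4125
import Cfsg.Agent.S4364
import Cfsg.Agent.Lib.Cls.QBaer
import Cfsg.Agent.Lib.Cls.OrbitPow3
import Cfsg.Agent.Lib.Coprime.FTFinal
import Cfsg.Agent.Lib.Transfer.Quadratic

set_option autoImplicit false
open Cfsg

namespace Cfsg.Agent.S4125

open Subgroup

section

variable {G : Type*} [Group G] [Finite G] {p q : ℕ} [hp : Fact p.Prime] [hq : Fact q.Prime]

/-- The hypothesis passes to quotients. -/
theorem hyp_map {G' : Type*} [Group G'] [Finite G'] {f : G →* G'} (hf : Function.Surjective f)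
    (h : ∀ x : G, (∃ k, orderOf x = q ^ k) → ∃ a, (centralizer ({x} : Set G)).index = p ^ a)
    (Q : Sylow q G) : ∀ x ∈ (Q : Subgroup G).map f,
      ∃ a, (centralizer ({x} : Set G')).index = p ^ a := by
  rintro _ ⟨x, hx, rfl⟩
  obtain ⟨a, ha⟩ := h x (Cls.orderOf_eq_pow_of_mem Q.2 hx)
  obtain ⟨b, -, hb⟩ := (Nat.dvd_prime_pow hp.out).1 (ha ▸ Cls.index_centralizer_map_dvd hf x)
  exact ⟨b, hb⟩

theorem sylow_eq_pCore (h0 : pCore p G = ⊥) (Q : Sylow q G)
    (h : ∀ x ∈ (Q : Subgroup G), ∃ a, (centralizer ({x} : Set G)).index = p ^ a) :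
    (Q : Subgroup G) = pCore q G := by
  refine le_antisymm (fun x hx => ?_) (Core.pCore_le_sylow Q)
  obtain ⟨a, ha⟩ := h x hx
  obtain ⟨k, hk⟩ := Cls.orderOf_eq_pow_of_mem Q.2 hx
  refine Core.le_pCore (N := normalClosure {x}) (fun y => ⟨k, Subtype.ext ?_⟩)
    (subset_normalClosure rfl)
  obtain ⟨y, hy⟩ := y
  change y ^ q ^ k = 1
  refine closure_induction (p := fun y _ => y ^ q ^ k = 1) ?_ ?_ ?_ ?_ hy
  · intro y hy
    obtain ⟨_, rfl, h1⟩ := Group.mem_conjugatesOfSet_iff.1 hy
    obtain ⟨g, rfl⟩ := isConj_iff.1 h1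
    rw [conj_pow, ← hk, pow_orderOf_eq_one, mul_one, mul_inv_cancel]
  · exact one_pow _
  · intro a b ha' hb' h1 h2
    have : Commute a b := by
      have := S4364.aux p h0 x ha ha' hb'
      rwa [mul_inv_eq_one, mul_inv_eq_iff_eq_mul] at this
    rw [this.mul_pow, h1, h2, one_mul]
  · intro a _ h1; rw [inv_pow, h1, inv_one]

theorem le_centralizer_of_normal (hpq : p ≠ q) (Q : Sylow q G) [(Q : Subgroup G).Normal]
    (h : ∀ x ∈ (Q : Subgroup G), ∃ a, (centralizer ({x} : Set G)).index = p ^ a) {x y : G}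
    (hx : x ∈ (Q : Subgroup G)) (hy : y ∈ (Q : Subgroup G)) : y * x = x * y := by
  obtain ⟨a, ha⟩ := h x hx
  obtain ⟨S, hS⟩ := Cls.exists_sylow_le_of_not_dvd_index (p := q) (H := centralizer {x})
    (ha ▸ Cls.not_dvd_pow_of_ne hq.out hp.out hpq.symm a)
  have := Sylow.unique_of_normal Q inferInstance
  exact Cls.mem_centralizer_single.1 (hS (Subsingleton.elim Q S ▸ hy))

open scoped IsMulCommutative in
theorem isSolvable_aux (h0 : pPrimeCore q G = ⊥) (Q : Sylow q G) [(Q : Subgroup G).Normal]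
    [IsMulCommutative (Q : Subgroup G)]
    (h : ∀ x ∈ (Q : Subgroup G), ∃ a, (centralizer ({x} : Set G)).index = p ^ a) :
    Group.IsSolvable G := by
  have hQ := Core.pCore_eq_of_normal_sylow Q
  have hnd : ¬ q ∣ Nat.card (G ⧸ (Q : Subgroup G)) := Q.not_dvd_index
  have hC : centralizer ((Q : Subgroup G) : Set G) ≤ Q := by
    rw [← hQ]
    refine Transfer.centralizer_pCore_le_of_quotient h0
      (Transfer.hasNormalPComplement_of_not_dvd ?_)
    rw [← index_eq_card, hQ]
    exact Q.not_dvd_index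
  let ρ₀ : G →* Module.End ℤ (Additive (Q : Subgroup G)) :=
    { toFun := fun g => (Transfer.conjEnd (Q : Subgroup G) g).toIntLinearMap
      map_one' := by rw [map_one]; rfl
      map_mul' := fun a b => by rw [map_mul]; rfl }
  have hρ : ∀ g v, ρ₀ g v = v ↔ g ∈ centralizer ({((Additive.toMul v : Q.1) : G)} : Set G) := by
    intro g v
    rw [Cls.mem_centralizer_single, ← mul_inv_eq_iff_eq_mul, ← Transfer.conjEnd_apply]
    exact ⟨fun e => congrArg (fun v : Additive Q.1 => ((Additive.toMul v : Q.1) : G)) e,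
      fun e => Additive.toMul.injective (Subtype.ext e)⟩
  have hker : (Q : Subgroup G) ≤ ρ₀.ker := fun g hg => LinearMap.ext fun v => (hρ g v).2
    (Cls.mem_centralizer_single.2 (setLike_mul_comm hg (Additive.toMul v).2))
  have := Cls.isSolvable_of_orbits_pow (p := p) Coprime.ft
    (QuotientGroup.lift (Q : Subgroup G) ρ₀ hker) (fun g hg => by
      obtain ⟨g, rfl⟩ := QuotientGroup.mk_surjective g
      exact (QuotientGroup.eq_one_iff g).2 (hC fun x hx =>
        (Cls.mem_centralizer_single.1 ((hρ g (.ofMul ⟨x, hx⟩)).1 (hg _))).symm))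
    (by
      obtain ⟨n, hn⟩ := IsPGroup.iff_card.1 Q.2
      rw [show Nat.card (Additive Q.1) = q ^ n from hn]
      exact (hq.out.coprime_iff_not_dvd.2 hnd).pow_left n)
    fun v => by
      obtain ⟨a, ha⟩ := h _ (Additive.toMul v).2
      obtain ⟨b, -, hb⟩ := (Nat.dvd_prime_pow hp.out).1
        (ha ▸ index_map_dvd _ (QuotientGroup.mk'_surjective (Q : Subgroup G)))
      refine ⟨_, ?_, b, hb⟩
      rintro _ ⟨g, hg, rfl⟩
      exact (hρ g v).2 hg
  exact Cls.isSolvable_of_normal_of_quotient (Q : Subgroup G)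
    (Coprime.isSolvable_of_isPGroup Q.2) this

theorem ne_case (hpq : p ≠ q)
    (h : ∀ x : G, (∃ k, orderOf x = q ^ k) → ∃ a, (centralizer ({x} : Set G)).index = p ^ a)
    (Q : Sylow q G) : IsMulCommutative (Q : Subgroup G) ∧ (pCore p G ⊔ (Q : Subgroup G)).Normal ∧
      Group.IsSolvable (G ⧸ pPrimeCore q G) := by
  have hs := QuotientGroup.mk'_surjective (pCore p G)
  have h1 := hyp_map hs h Q
  have h2 := sylow_eq_pCore Core.pCore_quotient_pCore (Q.mapSurjective hs) h1
  have h3 : ((Q.mapSurjective hs : Sylow q _) : Subgroup (G ⧸ pCore p G)).Normal :=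
    h2 ▸ inferInstance
  have h4 : (pCore p G ⊔ (Q : Subgroup G)).Normal := by
    have := h3.comap (QuotientGroup.mk' (pCore p G))
    rwa [Sylow.coe_mapSurjective, comap_map_eq, QuotientGroup.ker_mk', sup_comm] at this
  have h5 : IsMulCommutative (Q : Subgroup G) := Core.isMulCommutative_of_forall fun x hx y hy => by
    have e := le_centralizer_of_normal hpq (Q.mapSurjective hs) h1 (mem_map_of_mem _ hy)
      (mem_map_of_mem _ hx)
    rw [← map_mul, ← map_mul, QuotientGroup.mk'_apply, QuotientGroup.mk'_apply,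
      QuotientGroup.eq] at e
    have : (x * y)⁻¹ * (y * x) ∈ pCore p G ⊓ (Q : Subgroup G) :=
      mem_inf.2 ⟨e, mul_mem (inv_mem (mul_mem hx hy)) (mul_mem hy hx)⟩
    rwa [(IsPGroup.disjoint_of_ne p q hpq _ _ (Core.isPGroup_pCore p) Q.2).eq_bot, mem_bot,
      inv_mul_eq_one] at this
  refine ⟨h5, h4, ?_⟩
  have hs' := QuotientGroup.mk'_surjective (pPrimeCore q G)
  have : ((Q.mapSurjective hs' : Sylow q _) : Subgroup (G ⧸ pPrimeCore q G)).Normal := by
    have := h4.map _ hs'
    rwa [Subgroup.map_sup, (Subgroup.map_eq_bot_iff _).2 (by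
      rw [QuotientGroup.ker_mk']; exact Core.pCore_le_pPrimeCore_of_ne hpq), bot_sup_eq] at this
  have : IsMulCommutative ((Q.mapSurjective hs' : Sylow q _) : Subgroup (G ⧸ pPrimeCore q G)) :=
    inferInstanceAs (IsMulCommutative ((Q : Subgroup G).map _))
  exact isSolvable_aux Core.pPrimeCore_quotient_pPrimeCore (Q.mapSurjective hs') (hyp_map hs' h Q)

theorem eq_case
    (h : ∀ x : G, (∃ k, orderOf x = q ^ k) → ∃ a, (centralizer ({x} : Set G)).index = q ^ a)
    (Q : Sylow q G) : (Q : Subgroup G).Normal ∧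
      ∃ N : Subgroup G, N.Normal ∧ N.IsComplement' (Q : Subgroup G) := by
  have h1 : (Q : Subgroup G) = pCore q G := le_antisymm (fun x hx => by
    obtain ⟨k, hk⟩ := Cls.orderOf_eq_pow_of_mem Q.2 hx
    obtain ⟨a, ha⟩ := h x ⟨k, hk⟩
    exact Transfer.mem_pCore_of_index_eq_pow hk ha) (Core.pCore_le_sylow Q)
  have h2 : (Q : Subgroup G).Normal := h1 ▸ inferInstance
  exact ⟨h2, _, inferInstance, Transfer.isComplement'_pResidual
    (Transfer.hasNormalPComplement_of_forall_mem_centralizer Q fun x hx =>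
      Transfer.mem_centralizer_of_index_eq_pow Q.2
        (fun y hy => h y (Cls.orderOf_eq_pow_of_mem Q.2 hy)) hx) Q⟩

end

/-- Let G be a finite group and q a prime dividing its order such that every element of q-power order has a conjugacy class of prime-power size. Then G is q-solvable of q-length 1: there are normal subgroups K ≤ L of G with K of order prime to q, L/K a q-group and L of index prime to q. Moreover there is a prime p such that every element of q-power order has a class of p-power size (one prime serving for all of them), and for a Sylow q-subgroup Q: if p = q then Q is normal with a normal complement (a direct factor), while if p ≠ q then Q is abelian, the product of Q with the largest normal p-subgroup O_p(G) is normal in G, and G/O_{q'}(G) is solvable, where O_{q'}(G) is the largest normal subgroup of order prime to q. -/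
theorem result {G : Type*} [Group G] [Finite G] (q : ℕ) [Fact q.Prime] (hq : q ∣ Nat.card G)
    (hBaer : ∀ x : G, (∃ k : ℕ, orderOf x = q ^ k) → ∃ (r : ℕ) (a : ℕ), r.Prime ∧ (Subgroup.centralizer ({x} : Set G)).index = r ^ a) (Q : Sylow q G) :
    (∃ K L : Subgroup G, K.Normal ∧ L.Normal ∧ K ≤ L ∧ (Nat.card K).Coprime q ∧ (∃ m : ℕ, K.relIndex L = q ^ m) ∧ L.index.Coprime q) ∧
    ∃ p : ℕ, p.Prime ∧ (∀ x : G, (∃ k : ℕ, orderOf x = q ^ k) → ∃ a : ℕ, (Subgroup.centralizer ({x} : Set G)).index = p ^ a) ∧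
      (p = q → (Q : Subgroup G).Normal ∧ ∃ N : Subgroup G, N.Normal ∧ N.IsComplement' (Q : Subgroup G)) ∧
      (p ≠ q → IsMulCommutative (Q : Subgroup G) ∧ (Cfsg.pCore p G ⊔ (Q : Subgroup G)).Normal ∧
        ∀ _h : (Cfsg.pPrimeCore q G).Normal, Group.IsSolvable (G ⧸ Cfsg.pPrimeCore q G)) := by
  obtain ⟨p, hp, h⟩ := Cls.QBaer.exists_prime hBaer
  have := Fact.mk hp
  have key : ∀ K : Subgroup G, K.Normal → (Nat.card K).Coprime q → (K ⊔ (Q : Subgroup G)).Normal →
      ∃ K L : Subgroup G, K.Normal ∧ L.Normal ∧ K ≤ L ∧ (Nat.card K).Coprime q ∧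
        (∃ m : ℕ, K.relIndex L = q ^ m) ∧ L.index.Coprime q := fun K _ hK hL => by
    refine ⟨K, _, ‹_›, hL, le_sup_left, hK, ?_, ?_⟩
    · rw [relIndex_sup_left]
      exact Q.2.index _
    · exact ((Fact.out : q.Prime).coprime_iff_not_dvd.2
        (Cls.not_dvd_index_of_sylow_le le_sup_right)).symm
  refine ⟨?_, p, hp, h, ?_, fun hpq => ?_⟩
  · by_cases hpq : p = q
    · subst hpq
      exact key ⊥ inferInstance (by simp) (by rw [bot_sup_eq]; exact (eq_case h Q).1)
    · exact key _ inferInstance (Core.coprime_card_of_isPGroup (Core.isPGroup_pCore p)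
        ((Nat.coprime_primes hp Fact.out).2 hpq).symm) (ne_case hpq h Q).2.1
  · rintro rfl
    exact eq_case h Q
  · exact ⟨(ne_case hpq h Q).1, (ne_case hpq h Q).2.1, fun _ => (ne_case hpq h Q).2.2⟩

end Cfsg.Agent.S4125
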