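import Cfsg.Statements.S4167
import Cfsg.Agent.Lib.Cls.Solv
import Cfsg.Agent.Lib.Transfer.Gruen
import Cfsg.Agent.Lib.Char.Induction
import Cfsg.Agent.Lib.OO.Final

set_option autoImplicit false
open Cfsg

namespace Cfsg.Agent.S4167

open Subgroup

universe u

theorem simple_case (G : Type u) [Group G] [Finite G] [IsSimpleGroup G]
    (hc : ¬ IsMulCommutative G)
    (h : ∀ x : G, ¬ 4 ∣ (Subgroup.centralizer ({x} : Set G)).index) : False := by
  by_cases h2 : 2 ∣ Nat.card G
  · obtain ⟨t, ht⟩ := exists_prime_orderOf_dvd_card' (G := G) 2 h2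
    have ht2 : t ^ 2 = 1 := ht ▸ pow_orderOf_eq_one t
    have key : ∀ x : G, ∃ g : G, g⁻¹ * t * g ∈ centralizer ({x} : Set G) := by
      intro x
      by_cases hx : 2 ∣ (centralizer ({x} : Set G)).index
      · by_contra hn
        push Not at hn
        obtain ⟨N, hN, hN2, -⟩ := Transfer.thompson_transfer (M := centralizer ({x} : Set G))
          (by have := h x; rw [Nat.odd_iff]; omega) ht2 hn
        rcases hN.eq_bot_or_eq_top with rfl | rfl
        · rw [index_bot] at hN2
          have : Fact (Nat.card G).Prime := ⟨hN2 ▸ Nat.prime_two⟩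
          have := isCyclic_of_prime_card (α := G) rfl
          exact hc inferInstance
        · simp at hN2
      · obtain ⟨Q, hQ⟩ := Cls.exists_sylow_le_of_not_dvd_index hx
        obtain ⟨g, hg⟩ := Cls.exists_conj_mem_sylow Q (x := t) ⟨1, by rw [ht, pow_one]⟩
        exact ⟨g, hQ hg⟩
    have htop : centralizer ({t} : Set G) = ⊤ := by
      refine Char.eq_top_of_forall_exists_conj_mem _ fun x => ?_
      obtain ⟨g, hg⟩ := key x
      refine ⟨g⁻¹, ?_⟩
      rw [Cls.mem_centralizer_single] at hg ⊢
      calc g⁻¹⁻¹ * x * g⁻¹ * t = g * (x * (g⁻¹ * t * g)) * g⁻¹ := by group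
        _ = t * (g⁻¹⁻¹ * x * g⁻¹) := by rw [← hg]; group
    rw [Cls.centralizer_single_eq_top_iff] at htop
    rcases (inferInstance : (center G).Normal).eq_bot_or_eq_top with e | e
    · rw [e, mem_bot] at htop
      rw [htop, orderOf_one] at ht
      omega
    · exact hc (center_eq_top_iff.mp e)
  · have := OO.Feit_Thompson (G := G) (Nat.not_even_iff_odd.mp fun e => h2 e.two_dvd)
    exact hc ⟨⟨IsSimpleGroup.comm_iff_isSolvable.mpr this⟩⟩

/-- Let G be a finite group in which no conjugacy class has size divisible by 4. Then G is solvable. -/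
theorem result {G : Type*} [Group G] [Finite G]
    (h : ∀ x : G, ¬ 4 ∣ (Subgroup.centralizer ({x} : Set G)).index) : Group.IsSolvable G := by
  refine Cls.isSolvable_of_hereditary
    (P := fun G _ _ => ∀ x : G, ¬ 4 ∣ (Subgroup.centralizer ({x} : Set G)).index) ?_ ?_ ?_ G h
  · intro G _ _ N _ h x hx
    exact h x (hx.trans (Cls.index_centralizer_normal_dvd x))
  · intro G _ _ N _ h x hx
    obtain ⟨x, rfl⟩ := QuotientGroup.mk_surjective x
    exact h x (hx.trans (Cls.index_centralizer_mk_dvd N x))
  · intro G _ _ _ hc h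
    exact simple_case G hc h

end Cfsg.Agent.S4167
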