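import Cfsg.Statements.S4130
import Cfsg.Agent.Lib.Cls.SqFree
import Cfsg.Agent.S4167

set_option autoImplicit false
open Cfsg

namespace Cfsg.Agent.S4130

open Subgroup

/-- Let G be a finite group all of whose conjugacy class sizes are square-free. Then G is supersolvable, G/F(G) and the derived subgroup G′ are cyclic of square-free order (F(G) the Fitting subgroup, which is normal), F(G) has nilpotency class at most 2, and G is metabelian. -/
theorem result {G : Type*} [Group G] [Finite G]
    (h : ∀ x : G, Squarefree (Subgroup.centralizer ({x} : Set G)).index) :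
    Cfsg.IsSupersolvable G ∧ (Cfsg.fittingSubgroup G).Normal ∧
    (∀ _h : (Cfsg.fittingSubgroup G).Normal, IsCyclic (G ⧸ Cfsg.fittingSubgroup G) ∧ Squarefree (Cfsg.fittingSubgroup G).index) ∧
    IsCyclic (commutator G) ∧ Squarefree (Nat.card (commutator G)) ∧
    Subgroup.upperCentralSeries ↥(Cfsg.fittingSubgroup G) 2 = ⊤ ∧ commutator ↥(commutator G) = ⊥ := by
  have hs : Group.IsSolvable G := S4167.result fun x hx => by
    have := h x 2 hx
    simp at this
  obtain ⟨hc, hq⟩ := Cls.isCyclic_commutator_of_squarefree G hs h
  obtain ⟨z, hz⟩ := (Subgroup.isCyclic_iff_exists_zpowers_eq_top _).mp hc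
  have hzn : (zpowers z).Normal := hz ▸ inferInstance
  have h1 : commutator G ≤ centralizer (fittingSubgroup G : Set G) := by
    rw [← hz, zpowers_le]
    refine Cls.mem_of_forall_prime_pow fun p hp u hu ⟨k, hk⟩ => ?_
    by_cases hu1 : u = 1
    · rw [hu1]; exact one_mem _
    have hn := Cls.normal_of_le_zpowers hzn (zpowers_le.mpr hu)
    have hd : p ^ k ∣ Nat.card (commutator G) := by
      rw [← hk, ← hz]; exact Subgroup.orderOf_dvd_natCard _ hu
    have hk0 : k ≠ 0 := by
      rintro rfl
      exact hu1 (orderOf_eq_one_iff.mp (by simpa using hk))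
    have hk1 := ((Nat.squarefree_pow_iff hp.ne_one hk0).mp (hq.squarefree_of_dvd hd)).2
    rw [hk1, pow_one] at hk
    obtain ⟨M, hM, hMu⟩ := Core.exists_isMinNormal_le (N := zpowers u) (by simpa using hu1)
    have hMe : M = zpowers u := by
      refine Core.eq_of_le_of_card_eq hMu ?_
      have := card_dvd_of_le hMu
      rw [Nat.card_zpowers, hk] at this ⊢
      exact ((Nat.dvd_prime hp).mp this).resolve_left (by rw [card_eq_one]; exact hM.ne_bot)
    exact hM.le_centralizer_fitting (hMe ▸ mem_zpowers u)
  have h2 : centralizer (commutator G : Set G) ≤ fittingSubgroup G := by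
    refine Core.le_fitting (Core.isNilpotent_of_commutator_commutator_eq_bot ?_)
    rw [commutator_eq_bot_iff_le_centralizer]
    exact (commutator_mono le_top le_top).trans (le_centralizer_iff.mp le_rfl)
  have h3 : fittingSubgroup G = centralizer ({z} : Set G) := by
    rw [← Cls.centralizer_zpowers, hz]
    exact le_antisymm (le_centralizer_iff.mp h1) h2
  have h4 : commutator G ≤ centralizer (commutator G : Set G) :=
    Schur.commutator_le_centralizer_of_isCyclic _
  refine ⟨Cls.isSupersolvable_of_isCyclic_commutator G hc, inferInstance, fun _ => ?_, hc, hq,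
    ?_, ?_⟩
  · have h5 : Squarefree (fittingSubgroup G).index := h3 ▸ h z
    have := IsZGroup.of_squarefree (G := G ⧸ fittingSubgroup G) h5
    have := PGrp.isMulCommutative_quotient_iff.mpr (h4.trans h2)
    have : Group.IsNilpotent (G ⧸ fittingSubgroup G) := Core.isNilpotent_of_isMulCommutative
    exact ⟨inferInstance, h5⟩
  · rw [eq_top_iff]
    intro x _
    rw [Subgroup.mem_upperCentralSeries_succ_iff]
    intro y
    rw [Subgroup.upperCentralSeries_one, mem_center_iff]
    intro g
    exact Subtype.ext (h1 (commutator_mem_commutator (mem_top (x : G)) (mem_top (y : G))) g g.2)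
  · rw [_root_.commutator_def ↥(commutator G), commutator_eq_bot_iff_le_centralizer]
    intro x _ y _
    exact Subtype.ext (h4 x.2 y y.2)

end Cfsg.Agent.S4130
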