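import Cfsg.Statements.S4133
import Cfsg.Agent.Lib.Cls.AbTwo

set_option autoImplicit false
open Cfsg

namespace Cfsg.Agent.S4133

open Subgroup Cfsg.Agent.Split Cfsg.Agent.AbTwo

set_option linter.unusedSectionVars false

local notation "𝐂[" x "]" => Subgroup.centralizer ({x} : Set _)

variable {G : Type*} [Group G] [Finite G]

theorem isSolvable_quotient_normalCore (hA : AbP 2 G) {C : Subgroup G} {a : ℕ}
    (hC : C.index = 2 ^ a) : Group.IsSolvable (G ⧸ C.normalCore) := by
  refine isSolvable_of_complement _ (hA.quotient _) ⟨C.map (QuotientGroup.mk' _), ?_, a, ?_⟩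
  · rw [← Nat.not_even_iff_odd, even_iff_two_dvd]
    intro hd
    obtain ⟨y, ⟨x, hx, rfl⟩, hy⟩ := Core.exists_mem_orderOf_eq_of_dvd_card hd
    obtain ⟨u, hu, e, k, hk⟩ := Cls.exists_p_lift Nat.prime_two (QuotientGroup.mk' _) x
      ⟨1, by rw [hy, pow_one]⟩
    have huC : u ∈ C := zpowers_le.2 hx hu
    obtain ⟨S, hS⟩ := (Core.isPGroup_zpowers_of_orderOf hk).exists_le_sylow
    have hcop : C.index.Coprime (S : Subgroup G).index := by
      rw [hC]
      exact ((Nat.prime_two.coprime_iff_not_dvd.2 S.not_dvd_index)).pow_left a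
    have : u ∈ C.normalCore := by
      intro g
      obtain ⟨c, hc, s, hs, rfl⟩ := Transfer.exists_mul_of_coprime_index hcop g
      have h1 := hA.comm S.2 hs (hS (mem_zpowers u))
      rw [show c * s * u * (c * s)⁻¹ = c * (s * u * s⁻¹) * c⁻¹ by group, h1, mul_inv_cancel_right]
      exact mul_mem (mul_mem hc huC) (inv_mem hc)
    rw [← e, show QuotientGroup.mk' _ u = 1 from (QuotientGroup.eq_one_iff u).2 this,
      orderOf_one] at hy
    exact absurd hy (by norm_num)
  · rw [index_map_eq _ (QuotientGroup.mk'_surjective _)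
      (by rw [QuotientGroup.ker_mk']; exact C.normalCore_le), hC]

open scoped commutatorElement in
/-- A minimal normal subgroup with solvable quotient is perfect. -/
theorem exists_perfect {K : Subgroup G} [K.Normal] (hK : Group.IsSolvable (G ⧸ K)) :
    ∃ (E : Subgroup G) (_ : E.Normal), E ≤ K ∧ Group.IsSolvable (G ⧸ E) ∧ commutator E = ⊤ := by
  obtain ⟨E, hEK, ⟨hE, hs⟩, hmin⟩ := Core.exists_minimal_le
    (P := fun E : Subgroup G => ∃ _ : E.Normal, Group.IsSolvable (G ⧸ E)) ⟨inferInstance, hK⟩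
  refine ⟨E, hE, hEK, hs, ?_⟩
  have h1 : ⁅E, E⁆ = E := by
    refine hmin _ ⟨inferInstance, ?_⟩ (commutator_le_left E E)
    refine Cls.isSolvable_of_normal_of_quotient (E.map (QuotientGroup.mk' ⁅E, E⁆)) ?_ ?_
    · refine Cls.isSolvable_of_isMulCommutative (Core.isMulCommutative_of_forall ?_)
      rintro _ ⟨x, hx, rfl⟩ _ ⟨y, hy, rfl⟩
      rw [← commutatorElement_eq_one_iff_mul_comm, ← map_commutatorElement]
      exact (QuotientGroup.eq_one_iff _).2 (commutator_mem_commutator hx hy)
    · exact (Core.isSolvable_congr (QuotientGroup.quotientQuotientEquivQuotient _ _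
        (commutator_le_left E E))).2 hs
  apply map_injective E.subtype_injective
  rw [map_subtype_commutator, h1, ← MonoidHom.range_eq_map, range_subtype]

theorem center_eq_bot (hA : ∀ (p : ℕ) [Fact p.Prime], AbP p G) (h : commutator G = ⊤) :
    center G = ⊥ := by
  rw [eq_bot_iff]
  intro z hz
  by_contra hz1
  obtain ⟨r, hr, u, hu, ho, hu1⟩ := exists_prime_pow_not_mem hz1
  have := Fact.mk hr
  exact hu1 (mem_bot.2 ((hA r).eq_one_of_mem_center (zpowers_le.2 hz hu) (h ▸ mem_top u) ho))

/-- Let G be a finite group all of whose Sylow subgroups are abelian, and let 2^a be the largest power of 2 dividing the size of any conjugacy class of G. If some element has a conjugacy class of size exactly 2^a, then G is solvable. -/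
theorem result {G : Type*} [Group G] [Finite G]
    (hA : ∀ (p : ℕ) [Fact p.Prime] (P : Sylow p G), IsMulCommutative (P : Subgroup G))
    (a : ℕ) (hmax : ∀ y : G, ¬ 2 ^ (a + 1) ∣ (Subgroup.centralizer ({y} : Set G)).index) (hx : ∃ x : G, (Subgroup.centralizer ({x} : Set G)).index = 2 ^ a) :
    Group.IsSolvable G := by
  have hA' : ∀ (p : ℕ) [Fact p.Prime], AbP p G := fun p _ =>
    abP_of_sylow (Classical.arbitrary (Sylow p G)) (hA p _)
  obtain ⟨x, hx⟩ := hx
  obtain ⟨E, _, hEK, hs, hE⟩ := exists_perfect (isSolvable_quotient_normalCore (hA' 2) hx)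
  have hZ := center_eq_bot (fun p _ => (hA' p).subgroup E) hE
  have hEC : E ≤ 𝐂[x] := hEK.trans (normalCore_le _)
  have hN : normalClosure ({x} : Set G) ≤ centralizer (E : Set G) :=
    normalClosure_le_of_forall_conj fun g => mem_centralizer_iff.2 fun y hy => by
      have h1 := Cls.mem_centralizer_single.1 (hEC (‹E.Normal›.conj_mem y hy g⁻¹))
      calc y * (g * x * g⁻¹) = g * (g⁻¹ * y * g⁻¹⁻¹ * x) * g⁻¹ := by group
        _ = _ := by rw [h1]; group
  have hd : E ⊓ normalClosure ({x} : Set G) = ⊥ := by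
    rw [Core.center_eq_bot_iff_inf_centralizer] at hZ
    exact eq_bot_iff.2 (hZ ▸ inf_le_inf_left _ hN)
  have h2 : ∀ y : E, ¬ 2 ∣ 𝐂[y].index := by
    intro y hy
    refine hmax (x * y) ?_
    rw [centralizer_mul_of_disjoint hd y.2 (subset_normalClosure (Set.mem_singleton x)),
      ← relIndex_mul_index (inf_le_left : 𝐂[x] ⊓ 𝐂[(y : G)] ≤ _), inf_relIndex_left, hx,
      pow_succ']
    refine Nat.mul_dvd_mul_right (hy.trans ?_) _
    rw [Cls.index_centralizer_subgroup, ← relIndex_subgroupOf hEC]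
    exact Cls.relIndex_dvd_index_of_normal' _ _
  refine Cls.isSolvable_of_normal_of_quotient E (OO.Feit_Thompson ?_) hs
  rw [← Nat.not_even_iff_odd, even_iff_two_dvd]
  intro hd
  obtain ⟨y, hy⟩ := exists_prime_orderOf_dvd_card' 2 hd
  have := mem_center_of_forall_not_dvd h2 ⟨1, by rw [hy, pow_one]⟩
  rw [hZ, mem_bot] at this
  rw [this, orderOf_one] at hy
  exact absurd hy (by norm_num)

end Cfsg.Agent.S4133
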