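import Cfsg.Statements.S4136
import Cfsg.Agent.Lib.CS2.Sec

set_option autoImplicit false
open Cfsg

namespace Cfsg.Agent.S4136

open Subgroup Cfsg.Agent.OO Cfsg.Agent.Coprime Cfsg.Agent.CS2
open scoped Pointwise commutatorElement

section

universe u

variable {G : Type u} [Group G] {m : ℕ} {P : Subgroup G} {c s x x' y z : G}

/-- the projection to the central quotient -/
abbrev φ : G →* G ⧸ center G := QuotientGroup.mk' _

theorem φ1 : φ x = 1 ↔ x ∈ center G := QuotientGroup.eq_one_iff x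

/-- `z` is an involution of the centre of `P` modulo `Z(G)` -/
structure Zs (m : ℕ) (P : Subgroup G) (z : G) : Prop where
  hy : ∀ x : G, Pr x → 𝐂[x].index = 1 ∨ 𝐂[x].index = m
  two : 2 ∣ m
  syl : Syl 2 P ⊤
  mem : z ∈ P
  z1 : φ z ≠ 1
  z2 : φ z * φ z = 1
  comm : ∀ x ∈ P, φ x * φ z = φ z * φ x

variable [Finite G]

theorem idx (h : ∀ x : G, Pr x → 𝐂[x].index = 1 ∨ 𝐂[x].index = m) (hP : IsPGroup 2 P) (hx : x ∈ P)
    (xz : x ∉ center G) : 𝐂[x].index = m :=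
  have := Fact.mk Nat.prime_two
  let ⟨k, e⟩ := Core.exists_orderOf_eq_pow_of_mem hP hx
  (h x ⟨2, k, Nat.prime_two, e⟩).resolve_left (mt Cls.index_centralizer_eq_one_iff.1 xz)

theorem idx_dvd (P : Subgroup G) (x : G) : 𝐂[x].index ∣ 𝐂[x].relIndex P * P.index := by
  rw [← inf_relIndex_right, relIndex_mul_index inf_le_right]
  exact index_dvd_of_le inf_le_left

namespace Zs

variable (h : Zs m P z)
include h

theorem odd : ¬ 2 ∣ P.index := relIndex_top_right P ▸ h.syl.not_dvd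

theorem ix : 𝐂[z].index = m := idx h.hy h.syl.isPGroup h.mem (mt φ1.2 h.z1)

theorem ex : ∃ s ∈ P, s ∉ 𝐂[z] :=
  SetLike.not_le_iff_exists.1 fun e => h.odd ((h.ix ▸ h.two).trans (index_dvd_of_le e))

theorem sq (hx : x ∈ P) (n : x ∉ 𝐂[z]) : φ x * φ x = 1 := by
  by_contra e
  have e' : x * x ∉ center G := fun e1 => e (by rw [← map_mul, φ1.2 e1])
  have h1 : 𝐂[x] = 𝐂[x * x] := eq_of_le_of_card_le (fun g hg => mem_cent1_comm.1
    (mul_mem (mem_cent1_comm.1 hg) (mem_cent1_comm.1 hg))) (Nat.eq_of_mul_eq_mul_right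
      (Nat.pos_of_ne_zero (h.ix ▸ FiniteIndex.index_ne_zero)) (by
        nth_rw 1 [← idx h.hy h.syl.isPGroup (mul_mem hx hx) e']
        rw [card_mul_index, ← idx h.hy h.syl.isPGroup hx fun e1 => e' (mul_mem e1 e1),
          card_mul_index])).le
  refine n (mem_cent1_comm.1 (h1 ▸ mem_cent1_comm.1 (mem_cent1_iff_conj.2 ?_)))
  have h2 : x * z * x⁻¹ * z⁻¹ ∈ center G := φ1.1 (by
    rw [map_mul, map_mul, map_mul, h.comm x hx, map_inv, map_inv]; group)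
  have h3 : z * z ∈ center G := φ1.1 (by rw [map_mul, h.z2])
  generalize e1 : x * z * x⁻¹ * z⁻¹ = d at h2
  have e2 : x * z * x⁻¹ = d * z := by rw [← e1]; group
  have e3 : d * d = 1 := by
    have : x * z * x⁻¹ * (x * z * x⁻¹) = z * z := by
      rw [JR.cj_mul, mem_center_iff.1 h3 x, mul_inv_cancel_right]
    rw [e2, mul_assoc, ← mul_assoc z, mem_center_iff.1 h2 z, mul_assoc, ← mul_assoc] at this
    simpa using this
  rw [JR.mul_cj, e2, ← JR.cj_mul, e2, mem_center_iff.1 h2 x, mul_inv_cancel_right, ← mul_assoc, e3,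
    one_mul]

theorem inv (hx : x ∈ P) (n : x ∉ 𝐂[z]) (hc : c ∈ P ⊓ 𝐂[z]) : φ x * φ c * (φ x)⁻¹ = (φ c)⁻¹ := by
  have h1 := h.sq (mul_mem hx hc.1) (by rwa [mul_mem_cancel_right (mem_inf.1 hc).2])
  rw [inv_eq_of_mul_eq_one_right (h.sq hx n), eq_inv_iff_mul_eq_one, mul_assoc, ← map_mul, h1]

theorem ab : Ab ((P ⊓ 𝐂[z]).map φ) := ab_iff.2 (by
  rintro _ ⟨a, ha, rfl⟩ _ ⟨b, hb, rfl⟩
  obtain ⟨s, hs, n⟩ := h.ex
  have := h.inv hs n (mul_mem ha hb)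
  rw [map_mul, ← JR.cj_mul, h.inv hs n ha, h.inv hs n hb, ← mul_inv_rev, inv_inj] at this
  exact this.symm)

theorem next (hc : c ∈ P ⊓ 𝐂[z]) (c1 : φ c ≠ 1) (c2 : φ c * φ c = 1) : Zs m P c :=
  ⟨h.hy, h.two, h.syl, hc.1, c1, c2, fun x hx => by
    by_cases n : x ∈ 𝐂[z]
    · exact ab_iff.1 h.ab _ (mem_map_of_mem _ ⟨hx, n⟩) _ (mem_map_of_mem _ hc)
    · rw [← mul_inv_eq_iff_eq_mul, h.inv hx n hc, inv_eq_of_mul_eq_one_right c2]⟩

variable (hy : y ∈ P) (y2 : φ y * φ y ≠ 1)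
include hy y2

theorem ym : y ∈ P ⊓ 𝐂[z] := ⟨hy, by_contra fun n => y2 (h.sq hy n)⟩

theorem iff (hx : x ∈ P) : x ∈ 𝐂[z] ↔ φ x * φ y * (φ x)⁻¹ = φ y :=
  ⟨fun n => mul_inv_eq_iff_eq_mul.2 (ab_iff.1 h.ab _ (mem_map_of_mem _ ⟨hx, n⟩) _
    (mem_map_of_mem _ (h.ym hy y2))), fun e => by_contra fun n => y2 (by
      rw [mul_eq_one_iff_eq_inv, ← h.inv hx n (h.ym hy y2), e])⟩

theorem mul (hx : x ∈ P) (n : x ∉ 𝐂[z]) (hx' : x' ∈ P) (n' : x' ∉ 𝐂[z]) : x * x' ∈ 𝐂[z] :=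
  (h.iff hy y2 (mul_mem hx hx')).2 (by
    rw [map_mul, JR.mul_cj, h.inv hx' n' (h.ym hy y2), ← conj_inv, h.inv hx n (h.ym hy y2), inv_inv])

theorem not_four : ¬ 4 ∣ m := fun e => by
  obtain ⟨s, hs, n⟩ := h.ex
  have h1 : 𝐂[z].relIndex P ∣ 2 := relIndex_dvd_two_iff.2 ⟨s, hs, fun b hb =>
    or_iff_not_imp_right.2 fun n' => h.mul hy y2 hb n' hs n⟩
  have h2 := (h.ix ▸ e).trans ((idx_dvd P z).trans (Nat.mul_dvd_mul_right h1 _))
  have := h.odd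
  omega

theorem cyc : IsCyclic ((P ⊓ 𝐂[z]).map φ) := by
  have := Fact.mk Nat.prime_two
  refine (isCyclic_iff_rp_of_ab (h.syl.isPGroup.to_inf_left.map _) h.ab).2 (not_lt.1 fun e => ?_)
  obtain ⟨A, hA⟩ := exists_isEp (show 2 ≤ _ from e)
  obtain ⟨_, hv', _, hw', v1, w1, vw, v2, w2⟩ := SE.exists_pair hA.abelem (by rw [hA.card]; norm_num)
  have e1 := ab_iff.1 h.ab _ (hA.le hv') _ (hA.le hw')
  obtain ⟨v, hv, rfl⟩ := mem_map.1 (hA.le hv')
  obtain ⟨w, hw, rfl⟩ := mem_map.1 (hA.le hw')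
  obtain ⟨s, hs, n⟩ := h.ex
  have s1 : s ∉ center G := fun e => n (mem_cent1.2 (mem_center_iff.1 e z).symm)
  obtain ⟨Q, hQ, h1⟩ := exists_syl_ge (inf_le_right : P ⊓ 𝐂[φ s].comap φ ≤ _)
    h.syl.isPGroup.to_inf_left
  have k : ∀ c ∈ P ⊓ 𝐂[z], φ c ≠ 1 → φ c * φ c = 1 → c ∈ Q ∧ c ∉ 𝐂[s] := fun c hc c1 c2 =>
    ⟨h1 ⟨hc.1, mem_cent1.2 ((h.next hc c1 c2).comm s hs).symm⟩, fun e => n ((h.iff hy y2 hs).2
      (((h.next hc c1 c2).iff hy y2 hs).1 (mem_cent1_comm.1 e)))⟩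
  have hT : Syl 2 (Q ⊓ 𝐂[s]) 𝐂[s] := hQ.inf_of_norm
    (fun g hg => mem_cent1.2 (by rw [← map_mul, ← map_mul, mem_cent1.1 hg])) fun g hg => by
      rw [← conj_eq_self_iff, ← cent1_conj, show g * s * g⁻¹ = s * (s⁻¹ * g * s * g⁻¹) by group]
      exact Cls.centralizer_single_mul_center (φ1.1 (by
        rw [map_mul, map_mul, map_mul, mul_assoc (φ _), mem_cent1.1 (mem_comap.1 (hQ.le hg)), map_inv,
          map_inv]
        group))
  have hQ' : Syl 2 Q ⊤ := ⟨le_top, hQ.isPGroup, fun e => h.not_four hy y2 (by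
    have h2 := two_mul_dvd (B := Q ⊓ 𝐂[s]) hQ.isPGroup le_top ⟨(k v hv v1 v2).1, trivial⟩
      fun e => (k v hv v1 v2).2 e.2
    have h3 := Nat.mul_dvd_mul ((Dvd.intro _ rfl).trans h2) (relIndex_top_right Q ▸ e)
    rw [relIndex_mul_index inf_le_left, ← relIndex_mul_index inf_le_right,
      idx h.hy h.syl.isPGroup hs s1] at h3
    exact (Nat.Coprime.pow_left 2 (Nat.prime_two.coprime_iff_not_dvd.2 hT.not_dvd)
      ).dvd_of_dvd_mul_left h3)⟩
  obtain ⟨g, -, e2⟩ := h.syl.exists_conj' hQ'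
  have h4 : Zs m Q s := ⟨h.hy, h.two, hQ', h1 ⟨hs, mem_cent1_self _⟩, mt φ1.1 s1, h.sq hs n,
    fun x hx => mem_cent1.1 (mem_comap.1 (hQ.le hx))⟩
  refine (k _ (mul_mem hv hw) (by
    rwa [map_mul, Ne, mul_eq_one_iff_eq_inv, inv_eq_of_mul_eq_one_right w2]) (by
      rw [map_mul, mul_assoc, ← mul_assoc (φ w), ← e1, mul_assoc, w2, mul_one, v2])).2
    (h4.mul (e2 ▸ conj_mem_conj hy) (by simpa using y2) (k v hv v1 v2).1 (k v hv v1 v2).2
      (k w hw w1 w2).1 (k w hw w1 w2).2)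

theorem sol : Group.IsSolvable G := by
  obtain ⟨a, ha⟩ := exists_zpowers_eq (h.cyc hy y2)
  have hf := QuotientGroup.mk'_surjective (center G)
  refine Cls.isSolvable_of_normal_of_quotient _ (Cls.isSolvable_of_isMulCommutative inferInstance)
    (sol_of_dh (dh_of_syl (a := a) (map_top_of_surjective _ hf ▸ h.syl.map φ) ?_ ?_) fun x hx e => ?_)
  · rintro _ ⟨x, hx, rfl⟩ n
    exact h.sq hx fun e => n (ha ▸ mem_map_of_mem _ ⟨hx, e⟩)
  · rintro _ ⟨x, hx, rfl⟩ _ ⟨x', hx', rfl⟩ n n'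
    exact ha ▸ map_mul φ x x' ▸ mem_map_of_mem _ ⟨mul_mem hx hx', h.mul hy y2 hx
      (fun e => n (ha ▸ mem_map_of_mem _ ⟨hx, e⟩)) hx' fun e => n' (ha ▸ mem_map_of_mem _ ⟨hx', e⟩)⟩
  obtain ⟨x, rfl, hx'⟩ := Pr.lift hf hx
  have h1 := e.trans (Cls.index_centralizer_map_dvd hf x)
  have := h.not_four hy y2
  rcases h.hy x hx' with e | e <;> rw [e] at h1 <;> omega

end Zs

end

/-- Let G be a finite group and m a natural number such that every element of prime-power order has a conjugacy class of size 1 or m. Then G is solvable. -/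
theorem result {G : Type*} [Group G] [Finite G] (m : ℕ)
    (h : ∀ x : G, (∃ (r : ℕ) (k : ℕ), r.Prime ∧ orderOf x = r ^ k) → (Subgroup.centralizer ({x} : Set G)).index = 1 ∨ (Subgroup.centralizer ({x} : Set G)).index = m) : Group.IsSolvable G := by
  have := Fact.mk Nat.prime_two
  by_contra hs
  have h2 : 2 ∣ m := by_contra fun e => hs (sol_of_odd_index fun x hx => by
    rcases h x hx with e1 | e1 <;> rw [e1] <;> omega)
  obtain ⟨P, hP⟩ := exists_syl 2 (⊤ : Subgroup G)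
  by_cases e : ∀ y ∈ P, φ y * φ y = 1
  · obtain ⟨x, hx, u, hu, u1, e⟩ := exists_small hP (fun x hx y hy => φ1.1 (by
      have := e _ (mul_mem hx hy)
      rwa [map_commutatorElement, commutatorElement_def, inv_eq_of_mul_eq_one_right (e x hx),
        inv_eq_of_mul_eq_one_right (e y hy), mul_assoc, ← map_mul])) hs
    rcases h x hx with e1 | e1 <;> rw [e1] at e
    · exact absurd ((Dvd.intro _ rfl).trans e) (by norm_num)
    rw [← idx h hP.isPGroup hu u1, mul_comm] at e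
    exact hP.not_dvd (relIndex_top_right P ▸
      Nat.dvd_of_mul_dvd_mul_left (relIndex_pos _ _) (e.trans (idx_dvd P u)))
  obtain ⟨y, hy, y2⟩ : ∃ y ∈ P, φ y * φ y ≠ 1 := by simpa using e
  have h3 := hP.isPGroup.map φ
  obtain ⟨_, ⟨⟨z, hz, rfl⟩, zc⟩, z1, z2⟩ := SE.exists_inv (dvd_card_of_isPGroup (h3.to_le (Zc_le _))
    (Zc_ne_bot (nil_of_isPGroup h3) fun e => y2 (by
      rw [mem_bot.1 (e.le (mem_map_of_mem φ hy)), mul_one])))
  exact hs (Zs.sol ⟨h, h2, hP, hz, z1, z2, fun x hx =>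
    mem_cent_iff.1 zc _ (mem_map_of_mem φ hx)⟩ hy y2)

end Cfsg.Agent.S4136
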