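import Cfsg.Statements.S4137
import Cfsg.Agent.Lib.Cls.Four

set_option autoImplicit false
open Cfsg

namespace Cfsg.Agent.S4137

open Subgroup Cfsg.Agent.Split Cfsg.Agent.FGroup Cfsg.Agent.TwoSizes Cfsg.Agent.Four

local notation "𝐂[" x "]" => Subgroup.centralizer ({x} : Set _)

theorem exists_not_dvd {G : Type*} [Group G] [Finite G] {p : ℕ} (hp : p.Prime)
    (h : p ∣ Nat.card G) : ∃ z : G, z ≠ 1 ∧ ¬ p ∣ 𝐂[z].index := by
  have := Fact.mk hp
  obtain ⟨P⟩ : Nonempty (Sylow p G) := inferInstance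
  obtain ⟨z, -, z1, -, hz⟩ := exists_mem_center P.2 fun e => by
    have := P.not_dvd_index
    rw [e, index_bot] at this
    exact this h
  exact ⟨z, z1, Cls.not_dvd_index_of_sylow_le hz⟩

/-- Let G be a finite group with trivial centre and at most three distinct sizes of conjugacy classes other than 1. Then G is solvable or G is isomorphic to PSL₂(2^a) for some a ≥ 1. -/
theorem result {G : Type*} [Group G] [Finite G]
    (hZ : Subgroup.center G = ⊥) (h : Nat.card {n : ℕ | 1 < n ∧ ∃ x : G, (Subgroup.centralizer ({x} : Set G)).index = n} ≤ 3) :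
    Group.IsSolvable G ∨ ∃ a : ℕ, 0 < a ∧ Nonempty (G ≃* Matrix.ProjectiveSpecialLinearGroup (Fin 2) (GaloisField 2 a)) := by
  by_cases hF : IsF G
  · exact (solvable_or_psl_of_isF hZ hF).imp_right fun ⟨n, hn, e⟩ => ⟨n, by omega, e⟩
  left
  unfold IsF at hF
  push Not at hF
  obtain ⟨y, x, hx, hle, hne⟩ := hF
  have one_lt : ∀ z : G, z ≠ 1 → 1 < 𝐂[z].index := fun z hz => by
    have h1 : 𝐂[z].index ≠ 1 := fun e => hz (by
      have := Cls.index_centralizer_eq_one_iff.1 e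
      rwa [hZ, mem_bot] at this)
    have h2 : 𝐂[z].index ≠ 0 := index_ne_zero_of_finite
    omega
  have x1 : x ≠ 1 := fun e => hx (e ▸ one_mem _)
  have y1 : y ≠ 1 := fun e => not_mem_center_of_le hx hle (e ▸ one_mem _)
  have h3 := relIndex_mul_index hle
  have h4 : 𝐂[y].relIndex 𝐂[x] ≠ 1 := fun e => hne (le_antisymm hle (relIndex_eq_one.mp e))
  have h5 : 𝐂[y].relIndex 𝐂[x] ≠ 0 := index_ne_zero_of_finite
  obtain ⟨p, hp, hpa⟩ := Nat.exists_prime_and_dvd (one_lt x x1).ne'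
  obtain ⟨z, z1, hz⟩ := exists_not_dvd hp (hpa.trans (index_dvd_card _))
  set T := {n : ℕ | 1 < n ∧ ∃ x : G, 𝐂[x].index = n} with hT
  have hfin : T.Finite := (Set.finite_range fun x : G => 𝐂[x].index).subset fun n hn => hn.2
  have hab : 𝐂[x].index ≠ 𝐂[y].index := fun e => hne (eq_of_le_of_index_eq hle e.symm)
  have hac : 𝐂[x].index ≠ 𝐂[z].index := fun e => hz (e ▸ hpa)
  have hbc : 𝐂[y].index ≠ 𝐂[z].index := fun e => hz (e ▸ hpa.trans (index_dvd_of_le hle))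
  have hTe : {𝐂[x].index, 𝐂[y].index, 𝐂[z].index} = T := by
    refine Set.eq_of_subset_of_ncard_le ?_ ?_ hfin
    · rintro n (rfl | rfl | rfl)
      exacts [⟨one_lt x x1, x, rfl⟩, ⟨one_lt y y1, y, rfl⟩, ⟨one_lt z z1, z, rfl⟩]
    · rw [Set.ncard_eq_three.2 ⟨_, _, _, hab, hac, hbc, rfl⟩]
      exact h
  have hidx : ∀ w : G, w ≠ 1 → 𝐂[w].index = 𝐂[x].index ∨ 𝐂[w].index = 𝐂[y].index ∨
      𝐂[w].index = 𝐂[z].index := fun w hw => hTe.ge ⟨one_lt w hw, w, rfl⟩
  refine Hyp.isSolvable (m := 𝐂[y].relIndex 𝐂[x]) (c := 𝐂[z].index)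
    ⟨hZ, one_lt x x1, by omega, one_lt z z1, ?_, by rwa [mul_comm, h3]⟩ rfl hle hne
  refine Nat.coprime_of_dvd fun r hr h1 h2 => ?_
  obtain ⟨w, w1, hw⟩ := exists_not_dvd hr (h1.trans (index_dvd_card _))
  rcases hidx w w1 with e | e | e <;> rw [e] at hw
  exacts [hw h1, hw (h1.trans (index_dvd_of_le hle)), hw h2]

end Cfsg.Agent.S4137
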