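import Cfsg.Statements.S4159
import Cfsg.Agent.Lib.Cls.RealOdd
import Cfsg.Agent.Lib.OO.Final

set_option autoImplicit false
open Cfsg

namespace Cfsg.Agent.S4159

open Subgroup

/-- Let G be a finite group such that in every subgroup H of G, any two conjugacy classes of H of size greater than 1 have non-coprime sizes. Then G is solvable. -/
theorem result {G : Type*} [Group G] [Finite G]
    (h : ∀ (H : Subgroup G) (x y : H), 1 < (Subgroup.centralizer ({x} : Set H)).index → 1 < (Subgroup.centralizer ({y} : Set H)).index →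
      ¬ ((Subgroup.centralizer ({x} : Set H)).index).Coprime (Subgroup.centralizer ({y} : Set H)).index) : Group.IsSolvable G := by
  by_cases h2 : 2 ∣ (pCore 2 G).index
  · exfalso
    obtain ⟨x, u, hx1, hxo, ⟨k, hk⟩, hux⟩ := Cls.exists_two_inverts h2
    have hne : ¬ u * x = x * u := fun e => hx1 (Cls.eq_one_of_odd_of_eq_inv hxo (by
      rw [← hux, e]; group))
    have hn : zpowers u ≤ normalizer ((zpowers x : Subgroup G) : Set G) := by
      rw [zpowers_le]
      refine mem_normalizer_fintype ?_
      rintro _ ⟨i, rfl⟩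
      refine ⟨-i, ?_⟩
      simp only
      rw [← conj_zpow, hux, inv_zpow']
    set H : Subgroup G := zpowers u ⊔ zpowers x with hH
    have huH : u ∈ H := mem_sup_left (mem_zpowers u)
    have hxH : x ∈ H := mem_sup_right (mem_zpowers x)
    have hcard : Nat.card H ∣ orderOf u * orderOf x := by
      have := Core.card_sup_dvd_of_le_normalizer hn
      rwa [Nat.card_zpowers, Nat.card_zpowers] at this
    have key : ∀ a b : H, Nat.card H ∣ orderOf a * orderOf b →
        (centralizer ({a} : Set H)).index ∣ orderOf b := by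
      intro a b hab
      have h1 := index_dvd_of_le (Cls.zpowers_le_centralizer_single a)
      refine h1.trans ?_
      rw [← (zpowers a).card_mul_index, Nat.card_zpowers] at hab
      exact Nat.dvd_of_mul_dvd_mul_left (orderOf_pos a) hab
    have hlt : ∀ a b : H, ¬ (b : G) * a = a * b → 1 < (centralizer ({a} : Set H)).index := by
      intro a b hab
      have h0 : (centralizer ({a} : Set H)).index ≠ 0 := FiniteIndex.index_ne_zero
      have h1 : (centralizer ({a} : Set H)).index ≠ 1 := fun e => by
        rw [Cls.index_centralizer_eq_one_iff, mem_center_iff] at e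
        exact hab (congrArg Subtype.val (e b))
      omega
    refine h H ⟨u, huH⟩ ⟨x, hxH⟩ (hlt _ ⟨x, hxH⟩ fun e => hne e.symm) (hlt _ ⟨u, huH⟩ hne) ?_
    have e1 := key ⟨u, huH⟩ ⟨x, hxH⟩ (by rwa [orderOf_mk, orderOf_mk])
    have e2 := key ⟨x, hxH⟩ ⟨u, huH⟩ (by rwa [orderOf_mk, orderOf_mk, mul_comm])
    rw [orderOf_mk] at e1 e2
    refine Nat.Coprime.coprime_dvd_left e1 (Nat.Coprime.coprime_dvd_right e2 ?_)
    rw [hk]
    exact (Nat.coprime_two_right.mpr hxo).pow_right k
  · have hN : IsPGroup 2 (pCore 2 G) := Core.isPGroup_pCore 2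
    refine Cls.isSolvable_of_normal_of_quotient (pCore 2 G) ?_ (OO.Feit_Thompson ?_)
    · have := hN.isNilpotent
      infer_instance
    · exact Nat.not_even_iff_odd.mp fun e => h2 e.two_dvd

end Cfsg.Agent.S4159
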