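import Cfsg.Statements.S4161
import Cfsg.Agent.Lib.CG.Diam

set_option autoImplicit false
open Cfsg

namespace Cfsg.Agent.S4161

/-- Let G be a finite non-solvable group and p ≠ q primes each dividing the size of some conjugacy class of G. Then either some class size is divisible by pq, or there is a prime r, different from p and q, such that some class size is divisible by pr and some class size is divisible by rq. -/
theorem result {G : Type*} [Group G] [Finite G] (hG : ¬ Group.IsSolvable G)
    (p q : ℕ) (hp : p.Prime) (hq : q.Prime) (hpq : p ≠ q) (hp' : ∃ x : G, p ∣ (Subgroup.centralizer ({x} : Set G)).index) (hq' : ∃ x : G, q ∣ (Subgroup.centralizer ({x} : Set G)).index) :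
    (∃ x : G, p * q ∣ (Subgroup.centralizer ({x} : Set G)).index) ∨ ∃ r : ℕ, r.Prime ∧ r ≠ p ∧ r ≠ q ∧ (∃ x : G, p * r ∣ (Subgroup.centralizer ({x} : Set G)).index) ∧ (∃ y : G, r * q ∣ (Subgroup.centralizer ({y} : Set G)).index) := by
  by_contra! h
  refine CG.diam hG hp hq hp' hq' fun r hr => ?_
  have c := fun {a b : ℕ} (ha : a.Prime) (hb : b.Prime) (e : a ≠ b) {n : ℕ} (h1 : a ∣ n) (h2 : b ∣ n) =>
    ((Nat.coprime_primes ha hb).2 e).mul_dvd_of_dvd_of_dvd h1 h2
  by_cases e : r = p
  · exact .inr fun x h1 h2 => h.1 x (c hp hq hpq (e ▸ h2) h1)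
  by_cases e' : r = q
  · exact .inl fun x h1 h2 => h.1 x (c hp hq hpq h1 (e' ▸ h2))
  exact or_iff_not_imp_left.2 fun h1 y h2 h3 => h.2 r hr e e' (by
    by_contra! h4
    exact h1 fun x h5 h6 => h4 x (c hp hr (Ne.symm e) h5 h6)) y (c hr hq e' h3 h2)

end Cfsg.Agent.S4161
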