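import Cfsg.Statements.S4190
import Cfsg.Agent.Lib.SLG.Fit

set_option autoImplicit false
open Cfsg

namespace Cfsg.Agent.S4190

/-- Let G be a finite solvable group and p a prime dividing the index of the Fitting subgroup of G. Then the number of conjugacy classes of G is at least p/(3·log₂ p). -/
theorem result {G : Type*} [Group G] [Finite G] (hG : Group.IsSolvable G) (p : ℕ) [Fact p.Prime] (hp : p ∣ (Cfsg.fittingSubgroup G).index) : (p : ℝ) / (3 * Real.logb 2 p) ≤ Nat.card (ConjClasses G) := by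
  have h2 := (Fact.out : p.Prime)
  have h3 : ((1 : ℕ) : ℝ) ≤ _ := SLG.le_logb (p := p) (j := 1) h2.two_le
  push_cast at h3
  rw [div_le_iff₀' (by linarith)]
  by_cases h : p ^ 2 ∣ Nat.card G
  · exact SLG.bd1 (j := 1) h2.two_le (by have := SLG.main _ G le_rfl h; omega)
  obtain ⟨x, hx⟩ := exists_prime_orderOf_dvd_card' p (hp.trans (Subgroup.index_dvd_card _))
  refine SLG.fit_main _ G le_rfl h x (hx ▸ pow_orderOf_eq_one x) fun hn => h ?_
  rw [← (Cfsg.fittingSubgroup G).card_mul_index, sq]
  refine Nat.mul_dvd_mul ?_ hp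
  rw [← hx, ← Nat.card_zpowers]
  exact Subgroup.card_dvd_of_le (Core.le_fitting (@CommGroup.isNilpotent _ IsCyclic.commGroup))

end Cfsg.Agent.S4190
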