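import Cfsg.Statements.S4193
import Cfsg.Agent.Lib.Cls.RealOdd
import Cfsg.Agent.Lib.Transfer.MinNonNilp
import Cfsg.Agent.Lib.OO.Final

set_option autoImplicit false
open Cfsg

namespace Cfsg.Agent.S4193

open Subgroup

theorem mem_normalizer_zpowers {G : Type*} [Group G] [Finite G] {x u : G}
    (hux : u * x * u⁻¹ = x⁻¹) : u ∈ normalizer ((zpowers x : Subgroup G) : Set G) := by
  refine mem_normalizer_fintype ?_
  rintro _ ⟨i, rfl⟩
  refine ⟨-i, ?_⟩
  simp only
  rw [← conj_zpow, hux, inv_zpow']

theorem odd_index {G : Type*} [Group G] [Finite G] (S : Sylow 2 G)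
    (hS : ∀ s : ↥(S : Subgroup G), IsConj s s⁻¹ → s ∈ Subgroup.center ↥(S : Subgroup G))
    {x m : G} {k : ℕ} (hx : orderOf x = 2 ^ k) (hm : m * x * m⁻¹ = x⁻¹) :
    ¬ 2 ∣ (centralizer ({x} : Set G)).index := by
  obtain ⟨u, -, ⟨j, hj⟩, hux⟩ := Cls.exists_two_part_inverts hm
  have hp : IsPGroup 2 (zpowers u ⊔ zpowers x : Subgroup G) :=
    PGrp.isPGroup_sup_of_le_normalizer
      (IsPGroup.of_card (n := j) (by rw [Nat.card_zpowers, hj]))
      (IsPGroup.of_card (n := k) (by rw [Nat.card_zpowers, hx]))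
      (zpowers_le.mpr (mem_normalizer_zpowers hux))
  obtain ⟨Q, hQ⟩ := hp.exists_le_sylow
  obtain ⟨g, rfl⟩ := MulAction.exists_smul_eq G S Q
  have h1 := Cls.mem_smul_sylow_iff.mp (hQ (mem_sup_left (mem_zpowers u)))
  have h2 := Cls.mem_smul_sylow_iff.mp (hQ (mem_sup_right (mem_zpowers x)))
  have h3 := hS ⟨_, h2⟩ (isConj_iff.mpr ⟨⟨_, h1⟩, Subtype.ext (by
    change g⁻¹ * u * g * (g⁻¹ * x * g) * (g⁻¹ * u * g)⁻¹ = (g⁻¹ * x * g)⁻¹
    calc _ = g⁻¹ * (u * x * u⁻¹) * g := by group
      _ = _ := by rw [hux]; group)⟩)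
  refine Cls.not_dvd_index_of_sylow_le (Q := g • S) fun y hy => ?_
  have h4 := congrArg Subtype.val
    (mem_center_iff.mp h3 ⟨_, Cls.mem_smul_sylow_iff.mp hy⟩)
  rw [Cls.mem_centralizer_single]
  change g⁻¹ * y * g * (g⁻¹ * x * g) = g⁻¹ * x * g * (g⁻¹ * y * g) at h4
  calc y * x = g * (g⁻¹ * y * g * (g⁻¹ * x * g)) * g⁻¹ := by group
    _ = x * y := by rw [h4]; group

/-- Let G be a finite group in which the conjugacy classes of all non-central real elements (elements conjugate to their inverses) have sizes with the same 2-part, and suppose G has a Sylow 2-subgroup S such that every element of S that is conjugate in S to its inverse lies in the centre of S. Then G is solvable and the subgroup generated by the 2-elements of G (the smallest normal subgroup of odd index) has a normal 2-complement. -/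
theorem result {G : Type*} [Group G] [Finite G] (a : ℕ) (h : ∀ x : G, IsConj x x⁻¹ → x ∉ Subgroup.center G → ((Subgroup.centralizer ({x} : Set G)).index).factorization 2 = a) (S : Sylow 2 G) (hS : ∀ s : ↥(S : Subgroup G), IsConj s s⁻¹ → s ∈ Subgroup.center ↥(S : Subgroup G)) : Group.IsSolvable G ∧ Cfsg.HasNormalPComplement 2 ↥(Subgroup.closure {g : G | ∃ k : ℕ, orderOf g = 2 ^ k}) := by
  have hFT : ∀ N : Subgroup G, ¬ 2 ∣ Nat.card N → Group.IsSolvable N := fun N hN =>
    OO.Feit_Thompson (Nat.not_even_iff_odd.mp fun e => hN e.two_dvd)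
  by_cases ha : a = 0
  · subst ha
    have hN : IsPGroup 2 (pCore 2 G) := Core.isPGroup_pCore 2
    have h2 : ¬ 2 ∣ (pCore 2 G).index := by
      intro h2
      obtain ⟨x, u, hx1, hxo, ⟨k, hk⟩, hux⟩ := Cls.exists_two_inverts h2
      have hne : u ∉ centralizer ({x} : Set G) := fun e =>
        hx1 (Cls.eq_one_of_odd_of_eq_inv hxo (by
          rw [Cls.mem_centralizer_single] at e
          rw [← hux, e]; group))
      have h3 := h x (isConj_iff.mpr ⟨u, hux⟩) fun hc => hne (by
        rw [Cls.centralizer_single_eq_top_iff.mpr hc]; exact mem_top u)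
      set C := centralizer ({x} : Set G) with hC
      have h4 : ¬ 2 ∣ C.index := fun e => by
        have := Nat.prime_two.factorization_pos_of_dvd FiniteIndex.index_ne_zero e
        omega
      have hu : u ∈ normalizer (C : Set G) := by
        have := Core.le_normalizer_centralizer (zpowers_le.mpr (mem_normalizer_zpowers hux))
          (mem_zpowers u)
        rwa [Cls.centralizer_zpowers] at this
      have h5 : zpowers (⟨u, hu⟩ : normalizer (C : Set G)) ≤ C.subgroupOf _ := by
        refine Core.le_of_coprime_card_index ?_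
        rw [Nat.card_zpowers, orderOf_mk, hk]
        refine Nat.Coprime.pow_left k ((Nat.Prime.coprime_iff_not_dvd Nat.prime_two).mpr
          fun e => h4 (e.trans (relIndex_dvd_index_of_le le_normalizer)))
      exact hne (h5 (mem_zpowers _))
    refine ⟨Cls.isSolvable_of_normal_of_quotient (pCore 2 G) ?_
      (OO.Feit_Thompson (Nat.not_even_iff_odd.mp fun e => h2 e.two_dvd)), ?_⟩
    · have := hN.isNilpotent
      infer_instance
    · refine Transfer.hasNormalPComplement_of_isPGroup (hN.to_le ?_)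
      rw [closure_le]
      rintro x ⟨k, hk⟩
      refine zpowers_le.mp (Core.le_of_coprime_card_index ?_)
      rw [Nat.card_zpowers, hk]
      exact Nat.Coprime.pow_left k ((Nat.Prime.coprime_iff_not_dvd Nat.prime_two).mpr h2)
  · have hn : HasNormalPComplement 2 G := by
      by_contra hn
      obtain ⟨X, -, q, g, hX⟩ := Transfer.exists_itoPair hn S
      refine hX.not_mem_centralizer fun x hx => ?_
      obtain ⟨w, -, hw⟩ := hX.exists_conj_eq_inv hx
      obtain ⟨k, hk⟩ := (IsPGroup.iff_orderOf.mp hX.isPGroup) ⟨x, hx⟩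
      rw [orderOf_mk] at hk
      by_contra hc
      have h1 := h x (isConj_iff.mpr ⟨w, hw⟩) fun e => hc (mem_center_iff.mp e g).symm
      rw [Nat.factorization_eq_zero_of_not_dvd (odd_index S hS hk hw)] at h1
      exact ha h1.symm
    refine ⟨?_, Transfer.hasNormalPComplement_subgroup hn _⟩
    obtain ⟨N, hN, h1, h2⟩ := Transfer.hasNormalPComplement_iff_exists_normal.mp hn
    refine Cls.isSolvable_of_normal_of_quotient N
      (hFT N ((Nat.Prime.coprime_iff_not_dvd Nat.prime_two).mp h1.symm)) ?_
    have := h2.isNilpotent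
    infer_instance

end Cfsg.Agent.S4193
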