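import Cfsg.Statements.S4196
import Mathlib
import Cfsg.Agent.S4195

set_option autoImplicit false
open Cfsg

namespace Cfsg.Agent.S4196

/-- A finite group G has elementary abelian Sylow 2-subgroups (commutative with every element squaring to the identity) if and only if every 2-element of G has a Sylow 2-subgroup in its centralizer and is conjugate to its inverse. -/
theorem result {G : Type*} [Group G] [Finite G] (P : Sylow 2 G) :
    (IsMulCommutative (P : Subgroup G) ∧ ∀ x ∈ (P : Subgroup G), x ^ 2 = 1) ↔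
      ∀ x : G, (∃ k : ℕ, orderOf x = 2 ^ k) → (∃ Q : Sylow 2 G, (Q : Subgroup G) ≤ Subgroup.centralizer ({x} : Set G)) ∧ IsConj x x⁻¹ := by
  constructor
  · rintro ⟨hc, he⟩ x ⟨k, hk⟩
    have hp : IsPGroup 2 (Subgroup.zpowers x) := IsPGroup.of_card (by rw [Nat.card_zpowers, hk])
    obtain ⟨Q, hQ⟩ := hp.exists_le_sylow
    have hx : x ∈ (Q : Subgroup G) := hQ (Subgroup.mem_zpowers x)
    let e := Q.equiv P
    refine ⟨⟨Q, fun y hy => Subgroup.mem_centralizer_singleton_iff.2 ?_⟩, ?_⟩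
    · exact congrArg Subtype.val (e.injective (a₁ := ⟨y, hy⟩ * ⟨x, hx⟩) (a₂ := ⟨x, hx⟩ * ⟨y, hy⟩)
        (by rw [map_mul, map_mul, hc.1.1]))
    · have : (⟨x, hx⟩ : (Q : Subgroup G)) ^ 2 = 1 :=
        e.injective (by rw [map_pow, map_one]; exact Subtype.ext (he _ (e _).2))
      have h2 : x * x = 1 := by rw [← sq]; exact congrArg Subtype.val this
      rw [← eq_inv_of_mul_eq_one_left h2]
  · intro h
    have he : ∀ x ∈ (P : Subgroup G), x ^ 2 = 1 := by
      intro x hx
      obtain ⟨k, hk⟩ := IsPGroup.iff_orderOf.1 P.2 ⟨x, hx⟩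
      obtain ⟨⟨Q, hQ⟩, hr⟩ := h x ⟨k, by rw [← hk, Subgroup.orderOf_mk]⟩
      by_cases h1 : x = 1
      · rw [h1, one_pow]
      · rw [← S4195.result x h1 Q hQ hr, pow_orderOf_eq_one]
    refine ⟨⟨⟨fun a b => ?_⟩⟩, he⟩
    have h2 : ∀ c : (P : Subgroup G), c⁻¹ = c := fun c =>
      inv_eq_of_mul_eq_one_left (by rw [← sq]; exact Subtype.ext (he c c.2))
    rw [← h2 (a * b), mul_inv_rev, h2, h2]

end Cfsg.Agent.S4196
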