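import Cfsg.Statements.S4233
import Cfsg.Agent.Lib.MN.Ext
import Cfsg.Agent.Lib.GW.Main

set_option autoImplicit false
set_option linter.unusedSectionVars false
open Cfsg

namespace Cfsg.Agent.S4233

open Subgroup Cfsg.Agent.Coprime Cfsg.Agent.OO Cfsg.Agent.E8 Cfsg.Agent.MN
open scoped Pointwise commutatorElement MatrixGroups

universe u v

variable {G : Type u} [Group G] [Finite G] {L : Type v} [Group L] [Finite L] {f : G →* L}
  {K : Subgroup G} {t s ρ : L} [IsSimpleGroup L] (hE : Ext f) (h : Res f K) (hL : Nat.card L = 1092)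
  (hV : GW.V4 ⊤ t s ρ)
include hE h hL

theorem not_dvd {l : ℕ} (hl : l.Prime) (l2 : l ≠ 2) (hd : l ∣ 1092) : ¬ l ∣ ♯f.ker := fun e => by
  have := Fact.mk hl
  obtain ⟨y, hy, y1⟩ := cauchy hl e
  obtain ⟨w, -, w1⟩ := cauchy (H := (⊤ : Subgroup L)) hl (by rwa [card_top, hL])
  have hw := ne_one_of_prime (w1 ▸ hl)
  obtain ⟨k, hk, k1⟩ := SetLike.not_le_iff_exists.1 (Ord1092.not_norm_le_cent hL
    (w1 ▸ Res.syl_of_order hL (w1 ▸ hl) (w1 ▸ l2)) (zp_ne hw) (Ord1092.ne_top_of_card hL (by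
      rw [Nat.card_zpowers, w1]; rintro rfl; norm_num at hl)))
  obtain ⟨x, hx, rfl, x1⟩ := exists_lift h.map (π := {l}) (y := w)
    (by rw [PiElt, w1]; exact (isPiNum_prime hl).2 rfl)
  obtain ⟨k, hk', rfl⟩ := h.map.ge (mem_top k)
  have hc : ∀ g ∈ K, g * y = y * g := fun g hg => mem_cent_iff.1 (h.cent hy) g hg
  have hP : IsPGroup l (zpowers (x * y)) := isPGroup_zpowers_iff.2
    (x1.mul_of_commute (isPGroup_zpowers_iff.1 (isP_zp y1)) (hc x hx))
  have fy : f (x * y) = f x := by rw [map_mul, MonoidHom.mem_ker.1 hy, mul_one]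
  have h0 : K ⊓ f.ker ⊓ zpowers (x * y) = ⊥ :=
    inf_eq_bot_of_coprime_card (coprime_of_isPGroup_ne (h.isP hL) hP l2.symm)
  have h1 := hE.mem_norm hl hl (piGrp_of_isPGroup hP (.inl rfl))
    (fun e => hw (fy ▸ e (mem_zpowers _))) (x := k) (by rwa [MonoidHom.map_zpowers, fy])
  have h2 : (x * y) ^ l = 1 := h0.le ⟨mem_inf.2 ⟨by
    rw [(show Commute x y from hc x hx).mul_pow, ← y1, pow_orderOf_eq_one, mul_one]
    exact pow_mem hx _, by
      rw [MonoidHom.mem_ker, map_pow, fy, ← w1, pow_orderOf_eq_one]⟩,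
    pow_mem (mem_zpowers _) l⟩
  have h3 := inf_eq_bot_of_prime (H := zpowers (x * y)) (K := K) (by
    rwa [Nat.card_zpowers, orderOf_eq_prime h2 fun e => hw (by rw [← fy, e, map_one])]) fun e =>
      not_mem_of_two (h.isP hL) (y1 ▸ hl) (y1 ▸ l2) ⟨(mul_mem_cancel_left hx).1 (e (mem_zpowers _)), hy⟩
  have h4 : k * (x * y) * k⁻¹ * (x * y)⁻¹ = k * x * k⁻¹ * x⁻¹ := by
    rw [← conj_mul, hc k hk']; group
  have h5 := h3.le (mem_inf.2 ⟨mul_mem (conj_mem_of_norm h1 (mem_zpowers _)) (inv_mem (mem_zpowers _)),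
    h4 ▸ mul_mem (h.normal.conj_mem x hx k) (inv_mem hx)⟩)
  rw [h4, mem_bot, mul_inv_eq_one] at h5
  exact k1 (by rw [cent_zpowers, mem_cent1_iff_conj, ← map_inv, ← map_mul, ← map_mul, h5])

include hV in
theorem syl_two : Syl 2 (K ⊓ f.ker) f.ker := by
  refine ⟨inf_le_right, h.isP hL, fun e => ?_⟩
  have := h.normal
  obtain ⟨a, ha, k, hk, rfl, rfl, -, h2⟩ := h.exists_comm hL hV
  let π := QuotientGroup.mk' (K ⊓ f.ker)
  have hπ : ∀ x, π x = 1 ↔ x ∈ K ⊓ f.ker := QuotientGroup.eq_one_iff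
  rw [← QuotientGroup.ker_mk' (K ⊓ f.ker), relIndex_ker] at e
  obtain ⟨_, ⟨y, hy, rfl⟩, y1⟩ := cauchy Nat.prime_two e
  have y2 : y * y ∈ K ⊓ f.ker := (hπ _).1 (by rw [map_mul, ← pow_two, ← y1, pow_orderOf_eq_one])
  have y3 : y ∉ K := fun e => ne_one_of_prime (y1 ▸ Nat.prime_two) ((hπ _).2 ⟨e, hy⟩)
  have hb := h.normal.conj_mem a ha k
  have hs : f (k * a * k⁻¹) = s := by rw [← hV.ρt, map_mul, map_mul, map_inv]
  have ea : a = k⁻¹ * (k * a * k⁻¹) * k := by group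
  generalize k * a * k⁻¹ = b at *
  subst hs
  have hc : ∀ g ∈ K, g * y = y * g := fun g hg => mem_cent_iff.1 (h.cent hy) g hg
  have p2 : ∀ g : G, g * g ∈ K ⊓ f.ker → IsPGroup 2 (zpowers g) := fun g hg =>
    isPGroup_zpowers_iff.2 fun r hr e => (Nat.prime_dvd_prime_iff_eq hr Nat.prime_two).1
      (hr.dvd_of_dvd_pow (n := 2) (e.trans (orderOf_dvd_of_pow_eq_one (by
        rw [← h2 _ hg, pow_two 2, pow_mul, pow_two, pow_two]))))
  have q1 : a * y * (a * y) ∈ K ⊓ f.ker := by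
    rw [mul_assoc, ← mul_assoc y, ← hc a ha, mul_assoc, ← mul_assoc]
    exact mul_mem (mem_inf.2 ⟨mul_mem ha ha, (map_mul f a a).trans hV.t_sq⟩) y2
  have n1 : zpowers (a * y) ≤ 𝐍(zpowers b ⊔ K ⊓ f.ker) := zpowers_le.2 (mem_norm_of_conj_le (by
    rw [conj_sup, conj_zpowers, conj_eq_of_mem_norm (le_normalizer_of_normal (mem_top _)),
      show a * y * b * (a * y)⁻¹ = b * (b⁻¹ * a * b * a⁻¹) by rw [mul_assoc a, ← hc b hb]; group]
    refine sup_le (zpowers_le.2 (mul_mem_sup (mem_zpowers b) (mem_inf.2 ⟨mul_mem (mul_mem (mul_mem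
      (inv_mem hb) ha) hb) (inv_mem ha), ?_⟩))) le_sup_right
    rw [MonoidHom.mem_ker, map_mul, map_mul, map_mul, mul_assoc _ (f a), hV.comm.eq, map_inv, map_inv]
    group))
  have fy : f (a * y) = f a := by rw [map_mul, MonoidHom.mem_ker.1 hy, mul_one]
  have m1 : (zpowers b ⊔ K ⊓ f.ker).map f = zpowers (f b) := by
    rw [Subgroup.map_sup, MonoidHom.map_zpowers, (Subgroup.map_eq_bot_iff _).2 inf_le_right, sup_bot_eq]
  have h1 := hE.mem_norm Nat.prime_two Nat.prime_two (piGrp_of_isPGroup (isPGroup_sup (p2 _ q1)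
    (isPGroup_sup (p2 b (mem_inf.2 ⟨mul_mem hb hb, (map_mul f b b).trans hV.pair.s_sq⟩)) (h.isP hL)
      (.inl le_normalizer_of_normal)) (.inl n1)) (.inl rfl))
    (fun e => hV.t_ne (fy ▸ e (mem_sup_left (mem_zpowers _)))) (x := k)
    (by rw [Subgroup.map_sup, MonoidHom.map_zpowers, fy, m1]; exact hV.mem_norm)
  obtain ⟨_, ⟨j, rfl⟩, α, hα, e1⟩ := (mem_sup_norm_right n1).1
    (conj_mem_of_norm' h1 (mem_sup_right (mem_sup_left (mem_zpowers b))))
  rw [← ea] at e1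
  beta_reduce at e1
  obtain ⟨j, rfl | rfl⟩ := Int.even_or_odd' j
  · have := mem_map_of_mem f (mul_mem (mem_sup_right (zpow_mem q1 j)) hα)
    rw [← zpow_two, ← zpow_mul, e1, m1, GW.mem_zp hV.pair.s_sq] at this
    exact this.elim hV.t_ne hV.pair.ne
  · refine y3 ((mul_mem_cancel_left ha).1 ?_)
    have h3 := (sup_le (zpowers_le.2 hb) inf_le_left) hα
    rwa [← e1, mul_mem_cancel_right h3, zpow_add, zpow_mul, zpow_two, zpow_one,
      mul_mem_cancel_left (zpow_mem (mem_inf.1 q1).1 j)] at ha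

theorem conj_mem {y r : G} (hy : y ∈ Op' 2 f.ker) (hr : r ∈ f.ker) : r * y * r⁻¹ ∈ zpowers y := by
  have := Fact.mk Nat.prime_three
  obtain ⟨w, -, w1⟩ := cauchy (H := (⊤ : Subgroup L)) Nat.prime_three (by rw [card_top, hL]; decide)
  obtain ⟨x, hx, rfl, x1⟩ := exists_lift h.map (π := {3}) (y := w)
    (by rw [PiElt, w1]; exact (isPiNum_prime Nat.prime_three).2 rfl)
  replace x1 := isPGroup_zpowers_iff.2 x1
  refine mem_of_forall_constt_mem fun p hp e => ?_
  have := Fact.mk hp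
  have p3 : p ≠ 3 := fun e' => not_dvd hE h hL Nat.prime_three (by decide) (by decide)
    (e' ▸ e.trans (orderOf_conj r y ▸ OO.orderOf_dvd_card (Opi_le _ _ hy)))
  have h1 := isPGroup_zpowers_iff.2 (piElt_constt {p} y)
  have h2 : zpowers (constt {p} y) ≤ 𝐂(zpowers x) := (zpowers_le.2 (constt_mem _ (Opi_le _ _ hy))).trans
    (h.cent.trans (cent_anti (zpowers_le.2 hx)))
  rw [constt_conj]
  exact zpowers_le.2 (constt_mem_zpowers _ y) (conj_mem_of_norm ((syl_sup h1 x1 p3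
    (.inl (le_norm_of_le_cent h2))).norm_le_norm_of_normal (sup_le (le_norm_self _)
      (le_norm_of_le_cent (le_cent_symm h2))) (hE.ker_le_norm hp Nat.prime_three
        ((piGrp_of_isPGroup h1 (.inl rfl)).sup (piGrp_of_isPGroup x1 (.inr rfl))
          (.inl (le_norm_of_le_cent h2))) (fun e => ne_one_of_prime (w1 ▸ Nat.prime_three)
            (e (mem_sup_right (mem_zpowers x)))) hr)) (mem_zpowers _))

include hV in
theorem exists_compl : ∃ S : Subgroup G, S.Normal ∧ K ⊓ S = ⊥ ∧ K ⊔ S = ⊤ ∧ IsMulCommutative S ∧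
    (Nat.card K).Coprime (Nat.card S) := by
  have h1 := Burnside_normal_complement (syl_two hE h hL hV)
    (inf_le_left.trans (h.cent.trans (cent_anti inf_le_left)))
  have h2 := not_dvd_Op' (p := 2) f.ker
  refine ⟨Op' 2 f.ker, normal_of_top_le (le_norm_Opi _ le_normalizer_of_normal),
    eq_bot_iff.2 ((le_inf inf_le_right (inf_le_inf_left _ h1.left_le)).trans h1.inf_eq.le),
    eq_top_iff.2 (h.sup_eq.ge.trans (sup_le le_sup_left (h1.sup_eq.ge.trans
      (sup_le le_sup_right (le_sup_of_le_left inf_le_left))))),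
    PGrp.isMulCommutative_of_dedekind_of_odd (fun y => ⟨fun x hx g => ?_⟩)
      (Nat.odd_iff.2 (by omega)), Nat.coprime_of_dvd fun l hl e e' => ?_⟩
  · obtain ⟨i, rfl⟩ := hx
    obtain ⟨j, hj⟩ := conj_mem hE h hL y.2 (h1.left_le g.2)
    beta_reduce
    rw [← conj_zpow]
    exact zpow_mem (⟨j, Subtype.ext hj⟩ : g * y * g⁻¹ ∈ zpowers y) i
  have l2 : l ≠ 2 := fun e => h2 (e ▸ e')
  rw [← card_inf_mul_relIndex f.ker K, relIndex_ker, h.map, card_top, hL, inf_comm] at e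
  exact not_dvd hE h hL hl l2 (((Nat.Prime.dvd_mul hl).1 e).resolve_left fun e =>
    l2 (piGrp_singleton (h.isP hL) l hl e)) (e'.trans (card_dvd h1.left_le))

omit hE h hL

/-- Let G be a finite non-solvable group in which every subgroup H that is not subnormal and whose order has at most two prime divisors has a normalizer N_G(H) that is a maximal subgroup of G. Then G is the internal direct product of normal subgroups K and S with K isomorphic to PSL(2, 13) or to SL(2, 13), S abelian, and the orders of K and S coprime. -/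
theorem result {G : Type*} [Group G] [Finite G] (hG : ¬ Group.IsSolvable G)
    (h : ∀ H : Subgroup G, ¬ H.IsSubnormal →
      (∃ p q : ℕ, p.Prime ∧ q.Prime ∧ ∀ r : ℕ, r.Prime → r ∣ Nat.card H → r = p ∨ r = q) →
      IsCoatom (Subgroup.normalizer (H : Set G))) :
    ∃ K S : Subgroup G, K.Normal ∧ S.Normal ∧ K ⊓ S = ⊥ ∧ K ⊔ S = ⊤ ∧
      (Nonempty (K ≃* Matrix.ProjectiveSpecialLinearGroup (Fin 2) (ZMod 13)) ∨
        Nonempty (K ≃* Matrix.SpecialLinearGroup (Fin 2) (ZMod 13))) ∧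
      IsMulCommutative S ∧ (Nat.card K).Coprime (Nat.card S) := by
  have hE : Ext (QuotientGroup.mk' (solvableRadical G)) :=
    ⟨h, QuotientGroup.mk'_surjective _, QuotientGroup.ker_mk' _⟩
  have : Nontrivial (G ⧸ solvableRadical G) :=
    QuotientGroup.nontrivial_iff.2 (mt Core.solvableRadical_eq_top_iff.1 hG)
  obtain ⟨h1, h2⟩ := hE.hyp.simple hE.rad
  have h3 : ¬ Sol (⊤ : Subgroup (G ⧸ solvableRadical G)) := fun e =>
    top_ne_bot (hE.rad _ inferInstance e)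
  obtain ⟨F, _, _, h5, h8, ⟨e⟩⟩ := R1.gw4 _ h1 (fun e => h3 (sol_of_ab (ab_iff.2 fun a _ b _ =>
    e.is_comm.comm a b))) h2
  have hE' : Ext (e.toMonoidHom.comp (QuotientGroup.mk' _)) :=
    ⟨h, e.surjective.comp hE.surj, (MonoidHom.ker_comp_of_injective _ _ e.injective).trans hE.ker⟩
  have := e.symm.isSimpleGroup
  have hq := hE'.hyp.card_eq (fun e => top_ne_bot (hE'.rad _ inferInstance e)) h5 h8
  have h13 : (2 : ZMod 13) ≠ 0 := by decide
  have : Fact (Nat.Prime 13) := ⟨by norm_num⟩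
  obtain ⟨e'⟩ := psl_congr (ZMod.ringEquivOfPrime F this.out hq).symm
  have hL : Nat.card (G ⧸ solvableRadical G) = 1092 := by
    have := BR.card_PSL2 (F := ZMod 13) h13
    rw [ZMod.card, ← Nat.card_congr (e.trans e').toEquiv] at this
    omega
  obtain ⟨K, hK⟩ := hE.exists_res (hL ▸ by decide)
  obtain ⟨t, s, ρ, hV, -⟩ := hE.hyp.exists_v4 h3
  obtain ⟨S, s1, s2, s3, s4⟩ := exists_compl hE hK hL hV
  exact ⟨K, S, hK.normal, s1, s2, s3, hK.iso hL hV 13 h13 (e.trans e'), s4⟩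

end Cfsg.Agent.S4233
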