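import Cfsg.Statements.S4248
import Cfsg.Agent.Lib.Part.Odd
import Cfsg.Agent.Lib.R1.ZT

set_option autoImplicit false
open Cfsg

namespace Cfsg.Agent.S4248

open Subgroup Cfsg.Agent.Coprime Cfsg.Agent.OO Cfsg.Agent.Part in
/-- Let G be a finite group admitting a nontrivial partition: a family of at least two nontrivial subgroups such that every non-identity element of G lies in exactly one member. Then G is isomorphic to the symmetric group of degree 4; or, for some prime p, the Hughes subgroup generated by the elements g with g^p ≠ 1 is proper (G a p-group or a group of Hughes–Thompson type); or G is a Frobenius group; or G is isomorphic to PSL(2, q) with q ≥ 4, to PGL(2, q) with q ≥ 5 odd, or to a Suzuki group. -/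
theorem result {G : Type*} [Group G] [Finite G] (S : Set (Subgroup G)) (hS2 : ∃ H ∈ S, ∃ K ∈ S, H ≠ K)
    (hS1 : ∀ H ∈ S, H ≠ ⊥) (hpart : ∀ g : G, g ≠ 1 → ∃! H : Subgroup G, H ∈ S ∧ g ∈ H) :
    Nonempty (G ≃* Equiv.Perm (Fin 4)) ∨
    (∃ p : ℕ, p.Prime ∧ Subgroup.closure {g : G | g ^ p ≠ 1} ≠ ⊤) ∨
    (∃ H : Subgroup G, Cfsg.IsFrobeniusComplement H) ∨
    (∃ (F : Type) (_ : Field F) (_ : Fintype F), 4 ≤ Fintype.card F ∧
        Nonempty (G ≃* Matrix.ProjectiveSpecialLinearGroup (Fin 2) F)) ∨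
    (∃ (F : Type) (_ : Field F) (_ : Fintype F), 5 ≤ Fintype.card F ∧ Odd (Fintype.card F) ∧
        Nonempty (G ≃* (GL (Fin 2) F ⧸ Subgroup.center (GL (Fin 2) F)))) ∨
    Cfsg.Lie.IsoSuzuki G := by
  obtain ⟨P, hP⟩ := exists_par S hS2 hS1 hpart
  refine or_iff_not_imp_left.2 fun h4 => or_iff_not_imp_left.2 fun hH => or_iff_not_imp_left.2 fun hF => ?_
  have h : Gen P := ⟨hP, fun H e => hF ⟨H, e⟩, fun p hp => by_contra fun e => hH ⟨p, hp, e⟩⟩
  have hR : ∀ N : Subgroup G, N.Normal → Sol N → N = ⊥ := fun N hN hs => by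
    by_contra h0
    obtain ⟨p, hp, h1⟩ := exists_Op_ne_bot hs h0
    have := Fact.mk hp
    exact h4 (h.baer (ne_bot_of_le_ne_bot h1 (Op_le_of_normal p (normalIn_top.2 hN))))
  obtain ⟨T, hT⟩ := exists_syl 2 (⊤ : Subgroup G)
  have h0 : T ≠ ⊥ := hT.ne_bot (by_contra fun e => by
    obtain ⟨H, hH, -⟩ := hS2
    exact hS1 H hH (le_bot_iff.1 (hR ⊤ inferInstance (sol_of_odd e) ▸ le_top)))
  by_contra hcon
  have zt : ∀ (H : Subgroup G) (τ : G), ¬ BSW.HypC H τ := fun H τ hC => by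
    refine hcon ?_
    rcases R1.zt G H τ hC with ⟨n, h1, -, h2⟩ | ⟨m, h1, -, -, h2⟩
    · exact Or.inl ⟨GaloisField 2 n, inferInstance, Fintype.ofFinite _, by
        rw [← @Nat.card_eq_fintype_card _ (_), GaloisField.card 2 n (by omega)]
        exact Nat.pow_le_pow_right two_pos h1, h2⟩
    · exact Or.inr (Or.inr ⟨_, inferInstance, Fintype.ofFinite _, m, h1, by
        rw [← @Nat.card_eq_fintype_card _ (_), GaloisField.card 2 _ (by omega)], h2⟩)
  obtain ⟨t, ht, ho⟩ := cauchy Nat.prime_two (dvd_card_of_isPGroup (hT.isPGroup.to_le (Zc_le T))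
    (Zc_ne_bot hT.nil h0))
  have t1 : t ≠ 1 := fun e => by simp [e] at ho
  have t2 := mul_self_of_ord ho
  by_cases hle : T ≤ P t
  · obtain ⟨τ, hτ⟩ := h.hypC_of_le hT h0 t1 hle
    exact zt _ τ hτ
  obtain ⟨s, hs, hs'⟩ := SetLike.not_le_iff_exists.1 hle
  have hst := (mem_Zc.1 ht).2 s hs
  have hII : ∀ u : G, u ≠ 1 → u * u = 1 → ∃ s, s * u = u * s ∧ s ∉ P u := fun u u1 u2 => by
    obtain ⟨g, -, hg⟩ := hT.exists_conj_le (Q := zpowers u) le_top
      (Core.isPGroup_zpowers_of_pow_eq_one (k := 1) ((sq u).trans u2))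
    have h1 := hg (conj_mem_conj (mem_zpowers u))
    suffices ∃ s, s ∈ 𝐂[g * u * g⁻¹] ∧ s ∉ P (g * u * g⁻¹) by
      obtain ⟨s, h2, h3⟩ := this
      rw [cent1_conj, mem_conj, mem_cent1] at h2
      exact ⟨_, h2, by rwa [hP.conj, mem_conj] at h3⟩
    by_cases e : t ∈ P (g * u * g⁻¹)
    · rw [← hP.eq _ (BSW.conj_ne_one u1) t e t1]
      refine ⟨s, mem_cent1_iff_conj.2 ((hP.inv_of_comm t1 t2 hst hs' ?_).trans
        (BSW.inv_eq_of_mul_self (BSW.conj_mul_self u2))), hs'⟩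
      exact hP.eq _ (BSW.conj_ne_one u1) t e t1 ▸ hP.mem _ (BSW.conj_ne_one u1)
    · exact ⟨t, mem_cent1.2 ((mem_Zc.1 ht).2 _ h1).symm, e⟩
  have small : ∀ u : G, u ≠ 1 → u * u = 1 → (∀ y ∈ P u, y * y = 1) → ∀ g, g * u = u * g → g * g = 1 :=
    fun u u1 u2 k g hg => by
      by_cases e : g ∈ P u
      exacts [k g e, hP.sq_of_comm u1 u2 hg e]
  by_cases hb : ∃ u, u ≠ 1 ∧ u * u = 1 ∧ T ≤ 𝐂[u] ∧ ∃ y ∈ P u, y * y ≠ 1
  · obtain ⟨u, u1, u2, h1, y, hy, y2⟩ := hb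
    obtain ⟨F, _, _, h2, h3, h5 | h5⟩ := odd_case hP hR hII hT h1 u1 u2 hy y2
    · exact hcon (Or.inl ⟨F, inferInstance, inferInstance, by omega, h5⟩)
    · exact hcon (Or.inr (Or.inl ⟨F, inferInstance, inferInstance, h3, h2, h5⟩))
  push Not at hb
  have h1 : ∀ g ∈ T, g * g = 1 := fun g hg => small t t1 t2 (hb t t1 t2 fun g hg =>
    mem_cent1.2 ((mem_Zc.1 ht).2 g hg)) g ((mem_Zc.1 ht).2 g hg)
  obtain ⟨τ, hτ⟩ := hypC_of_small hT (fun e => h0 (hR T (normalizer_eq_top_iff.1 e) hT.sol)) ht t1 hs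
    (fun e => hs' (e ▸ one_mem _)) (fun e => hs' (e ▸ hP.mem t t1)) fun z hz z1 =>
      small z z1 (h1 z hz) (hb z z1 (h1 z hz) fun g hg => mem_cent1.2 (by
        rw [← BSW.inv_eq_of_mul_self (h1 _ (mul_mem hg hz)), mul_inv_rev, BSW.inv_eq_of_mul_self (h1 g hg),
          BSW.inv_eq_of_mul_self (h1 z hz)]))
  exact zt _ τ hτ

end Cfsg.Agent.S4248
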