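import Cfsg.Statements.S4273
import Cfsg.Agent.Lib.JO.Gens

set_option autoImplicit false
open Cfsg

namespace Cfsg.Agent.JO

open Subgroup Cfsg.Agent.OO

/-- the action on the involutions, read off from the coset table -/
theorem rep {G : Type*} [Group G] [Finite G] [IsSimpleGroup G] (hG : Nat.card G = 175560) :
    ∃ (ρ : G →* Equiv.Perm (Fin 1463)) (γ : Fin 5 → G), Function.Injective ρ ∧
      closure (Set.range γ) = ⊤ ∧ ∀ i u, (ρ (γ i) u : ℕ) = tab tF tI i u := by
  obtain ⟨γ, sq, h7, a1, H, gen⟩ := gens hG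
  obtain ⟨p, p0, hp⟩ := table sq h7 H
  let S : Set G := Set.range fun u : Fin 1463 => p u
  have hS : ∀ g : G, ∀ x ∈ S, g * x * g⁻¹ ∈ S := fun g x hx => by
    have : normalizer S = ⊤ := gen _ fun i hi => by
      have key : ∀ x ∈ S, γ i * x * (γ i)⁻¹ ∈ S := by
        rintro _ ⟨u, rfl⟩
        exact ⟨⟨_, (hp u u.2 i hi).1⟩, by rw [GW.inv_eq (sq i)]; exact (hp u u.2 i hi).2.symm⟩
      refine mem_set_normalizer_iff.2 fun x => ⟨key x, fun e => ?_⟩
      have := key _ e
      rwa [GW.inv_eq (sq i), conj_conj sq] at this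
    exact (mem_set_normalizer_iff.1 (this.ge (mem_top g)) x).1 hx
  have a0 : γ 4 ∈ S := ⟨0, p0⟩
  let act : MulAction G S :=
    { smul := fun g x => ⟨g * x * g⁻¹, hS g x x.2⟩
      one_smul := fun x => Subtype.ext (show 1 * x.1 * 1⁻¹ = x by simp)
      mul_smul := fun g h x => Subtype.ext (show g * h * x.1 * (g * h)⁻¹ = g * (h * x * h⁻¹) * g⁻¹ by group) }
  have hc : Nat.card (Fin 1463) ≤ Nat.card S := by
    have h1 := Set.ncard_le_ncard (show {y | ∃ x ∈ (⊤ : Subgroup G), x * γ 4 * x⁻¹ = y} ⊆ S by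
      rintro _ ⟨g, -, rfl⟩; exact hS g _ a0)
    have h2 := 𝐂[γ 4].card_mul_index
    rw [E8.ncard_cls, relIndex_top_right] at h1
    rw [(exists_model hG a1 (sq 4)).1, hG] at h2
    rw [Nat.card_coe_set_eq, Nat.card_eq_fintype_card, Fintype.card_fin]
    omega
  let e : Fin 1463 ≃ S := Equiv.ofBijective _ (Set.rangeFactorization_surjective.bijective_of_nat_card_le hc)
  refine ⟨e.symm.permCongrHom.toMonoidHom.comp (MulAction.toPermHom G S), fun i => γ i,
    e.symm.permCongrHom.injective.comp ((MonoidHom.ker_eq_bot_iff _).1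
      ((IsSimpleGroup.eq_bot_or_eq_top_of_normal _ inferInstance).resolve_right fun h =>
        cent_ne_top hG a1 (eq_top_iff.2 fun g _ => mem_cent1_iff_conj.2 (congrArg Subtype.val
          (Equiv.congr_fun (MonoidHom.mem_ker.1 (h.ge (mem_top g))) ⟨_, a0⟩))))),
    gen _ fun i hi => subset_closure ⟨⟨i, hi⟩, rfl⟩, fun i u => ?_⟩
  obtain ⟨h1, h2⟩ := hp u u.2 i i.2
  refine congrArg Fin.val (?_ : e.symm (γ i • e u) = ⟨_, h1⟩)
  rw [Equiv.symm_apply_eq]
  exact Subtype.ext (show γ i * p u * (γ i)⁻¹ = p _ by rw [GW.inv_eq (sq i), h2])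

end Cfsg.Agent.JO

namespace Cfsg.Agent.S4273

/-- Uniqueness of the simple group of order 175560: any two finite simple groups of order 175560 are isomorphic. -/
theorem result {G : Type*} {H : Type*} [Group G] [Finite G] [IsSimpleGroup G] [Group H] [Finite H] [IsSimpleGroup H] (hG : Nat.card G = 175560) (hH : Nat.card H = 175560) : Nonempty (G ≃* H) := by
  obtain ⟨ρ, γ, h1, h2, h3⟩ := JO.rep hG
  obtain ⟨ρ', γ', h1', h2', h3'⟩ := JO.rep hH
  have : ρ.range = ρ'.range := by
    rw [MonoidHom.range_eq_map, MonoidHom.range_eq_map, ← h2, ← h2', MonoidHom.map_closure,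
      MonoidHom.map_closure, ← Set.range_comp, ← Set.range_comp,
      show ρ ∘ γ = ρ' ∘ γ' from funext fun i => Equiv.ext fun u => Fin.ext ((h3 i u).trans (h3' i u).symm)]
  exact ⟨(MonoidHom.ofInjective h1).trans ((MulEquiv.subgroupCongr this).trans
    (MonoidHom.ofInjective h1').symm)⟩

end Cfsg.Agent.S4273
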