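import Cfsg.Statements.S4340
import Mathlib
import Cfsg.Agent.Lib.BR.L3C

set_option autoImplicit false
open Cfsg

namespace Cfsg.Agent.S4340

/-- Let S be a finite non-abelian simple group and p a prime dividing its order. Then S has fewer than p² Sylow p-subgroups if and only if one of the following holds: S is isomorphic to PSL(2, p); or p = 13 and S is isomorphic to PSL(3, 3); or p > 3, p - 1 is a power of 2 and S is isomorphic to PSL(2, p - 1); or p > 3, p + 1 is a power of 2 and S is isomorphic to PSL(2, p + 1). -/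
theorem result {S : Type*} [Group S] [Finite S] [IsSimpleGroup S]
    (hS : ¬ IsMulCommutative S) (p : ℕ) [Fact p.Prime] (hp : p ∣ Nat.card S) :
    Nat.card (Sylow p S) < p ^ 2 ↔
      ((∃ (F : Type) (_ : Field F) (_ : Fintype F), Fintype.card F = p ∧
          Nonempty (S ≃* Matrix.ProjectiveSpecialLinearGroup (Fin 2) F)) ∨
       (p = 13 ∧ ∃ (F : Type) (_ : Field F) (_ : Fintype F), Fintype.card F = 3 ∧
          Nonempty (S ≃* Matrix.ProjectiveSpecialLinearGroup (Fin 3) F)) ∨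
       (3 < p ∧ (∃ k : ℕ, p = 2 ^ k + 1) ∧ ∃ (F : Type) (_ : Field F) (_ : Fintype F), Fintype.card F = p - 1 ∧
          Nonempty (S ≃* Matrix.ProjectiveSpecialLinearGroup (Fin 2) F)) ∨
       (3 < p ∧ (∃ k : ℕ, p + 1 = 2 ^ k) ∧ ∃ (F : Type) (_ : Field F) (_ : Fintype F), Fintype.card F = p + 1 ∧
          Nonempty (S ≃* Matrix.ProjectiveSpecialLinearGroup (Fin 2) F))) := by
  have s : BR.NS S := ⟨inferInstance, hS⟩
  have hp' : p.Prime := Fact.out
  obtain ⟨P⟩ : Nonempty (Sylow p S) := inferInstance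
  refine ⟨fun hn => ?_, fun h => ?_⟩
  · obtain ⟨x, y, K, H, d, -⟩ := BR.exists_dat P (Coprime.card_sylow_eq_of_card_sylow_lt hS hp hn P)
    obtain ⟨r, hN, hr⟩ := d.exists_r' hn
    obtain ⟨I, δ, ξ, δ0, b⟩ := d.exists_brauer
    have h3 := b.two_le_e s
    obtain ⟨hK, ⟨rfl, h, h1⟩ | ⟨-, m, h1, h4, h5⟩ | ⟨h, -, m, h1, h4, h5⟩ |
      ⟨rfl, rfl, h1, h2, h4, χ, θ, c⟩⟩ := b.main s hN hr
    · obtain ⟨w, i1, i2, i3⟩ := h1.elim (fun h1 => d.exists_w hK s hN h1 h3) id
      exact .inl (d.psl2 hK hN h h3 i1 i2 i3)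
    · have := Nat.pow_le_pow_right two_pos h1
      exact .inr (.inr (.inl ⟨by omega, ⟨m, h4⟩, _, _, Fintype.ofFinite _, by
        rw [← @Nat.card_eq_fintype_card, GaloisField.card 2 m (by omega)]; omega, h5⟩))
    · exact .inr (.inr (.inr ⟨h, ⟨m, h4⟩, _, _, Fintype.ofFinite _, by
        rw [← @Nat.card_eq_fintype_card, GaloisField.card 2 m (by omega), h4], h5⟩))
    · exact .inr (.inl ⟨rfl, ZMod 3, inferInstance, inferInstance, ZMod.card 3,
        (b.l3 hK hN h1 h2 h4 c).iso s⟩)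
  have h1 : 2 * (p * Nat.card (Sylow p S)) ≤ Nat.card S := by
    by_cases e : Nat.card P = p
    · obtain ⟨x, y, K, H, d, -⟩ := BR.exists_dat P e
      obtain ⟨I, δ, ξ, δ0, b⟩ := d.exists_brauer
      rw [d.cardG, d.card_sylow, mul_left_comm]
      exact Nat.mul_le_mul (Nat.le_mul_of_pos_right _ Nat.card_pos)
        (Nat.mul_le_mul_right _ (b.two_le_e s))
    · obtain ⟨k, hk⟩ := IsPGroup.iff_card.1 P.2
      have h2 := P.dvd_card_of_dvd_card hp
      have h3 : p * p ≤ Nat.card P := by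
        rw [hk] at e h2 ⊢
        rcases k with _ | _ | k
        · exact absurd h2 hp'.not_dvd_one
        · exact absurd (pow_one p) e
        · exact (sq p).ge.trans (Nat.pow_le_pow_right hp'.pos (by omega))
      rw [P.card_eq_index_normalizer, ← Subgroup.card_mul_index (Subgroup.normalizer (P : Set S)),
        ← mul_assoc]
      exact Nat.mul_le_mul_right _ (((Nat.mul_le_mul_right p hp'.two_le).trans h3).trans
        (Subgroup.card_le_of_le Subgroup.le_normalizer))
  have h2 : ∀ (F : Type) [Field F] [Fintype F],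
      Nonempty (S ≃* Matrix.ProjectiveSpecialLinearGroup (Fin 2) F) →
      2 * (p * Nat.card (Sylow p S)) ≤
        Fintype.card F * ((Fintype.card F - 1) * (Fintype.card F + 1)) := fun F _ _ ⟨e⟩ => by
    rw [← Lin.card_SL2]
    exact h1.trans ((Nat.card_congr e.toEquiv).trans_le
      (Nat.le_of_dvd Nat.card_pos (Subgroup.card_quotient_dvd_card _)))
  obtain ⟨q, rfl⟩ : ∃ q, p = q + 2 := ⟨p - 2, by have := hp'.two_le; omega⟩
  rcases h with ⟨F, _, _, h, e⟩ | ⟨h, F, _, _, h3, ⟨e⟩⟩ | ⟨-, -, F, _, _, h, e⟩ | ⟨h3, -, F, _, _, h, e⟩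
  · have := h2 F e
    rw [h, show q + 2 - 1 = q + 1 from rfl] at this
    nlinarith
  · have h4 : Nat.card S ∣ 5616 := BR.Plane.card_SL3 h3 ▸
      (Nat.card_congr e.toEquiv).dvd.trans (Subgroup.card_quotient_dvd_card _)
    have h5 := (P.card_eq_index_normalizer.dvd.trans (Subgroup.index_dvd_card _)).trans h4
    have h6 := card_sylow_modEq_one (q + 2) S
    have h7 := Nat.le_of_dvd (by norm_num) h4
    generalize Nat.card (Sylow (q + 2) S) = n at h1 h5 h6
    rw [h] at h1 h6 ⊢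
    exact (by decide +kernel : ∀ n < 217, n ∣ 5616 → n ≡ 1 [MOD 13] → n < 13 ^ 2) n (by omega) h5 h6
  · have := h2 F e
    rw [h, show q + 2 - 1 = q + 1 from rfl, Nat.add_sub_cancel] at this
    nlinarith
  · have := h2 F e
    rw [h, Nat.add_sub_cancel, mul_left_comm, mul_left_comm _ (q + 2)] at this
    have := Nat.le_of_mul_le_mul_left this (by omega)
    nlinarith

end Cfsg.Agent.S4340
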