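import Cfsg.Statements.S4348
import Cfsg.Agent.Lib.Coprime.SylowCount

set_option autoImplicit false
open Cfsg

namespace Cfsg.Agent.S4348

/-- Let G be a finite group, p a prime and P a Sylow p-subgroup of G, and let O_p(G) be the largest normal p-subgroup of G. If P/O_p(G) is cyclic, then some element of p-power order of G lies in exactly one Sylow p-subgroup. -/
theorem result {G : Type*} [Group G] [Finite G]
    (p : ℕ) [Fact p.Prime] (P : Sylow p G)
    [hn : ((Cfsg.pCore p G).subgroupOf (P : Subgroup G)).Normal]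
    (hc : IsCyclic ((P : Subgroup G) ⧸ (Cfsg.pCore p G).subgroupOf (P : Subgroup G))) :
    ∃ x : G, (∃ k : ℕ, orderOf x = p ^ k) ∧ ∃! Q : Sylow p G, x ∈ Q := by
  obtain ⟨y, hy⟩ := hc.exists_generator
  obtain ⟨x, rfl⟩ := QuotientGroup.mk_surjective y
  refine ⟨x, ?_, P, x.2, fun Q hQ => ?_⟩
  · obtain ⟨k, hk⟩ := IsPGroup.iff_orderOf.mp P.isPGroup' x
    exact ⟨k, by rw [Subgroup.orderOf_coe, hk]⟩
  · refine Sylow.ext (P.is_maximal' Q.isPGroup' fun a ha => ?_)
    obtain ⟨n, hn⟩ := hy (QuotientGroup.mk (⟨a, ha⟩ : (P : Subgroup G)))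
    have h1 : ((x ^ n)⁻¹ * ⟨a, ha⟩ : (P : Subgroup G)) ∈
        (Cfsg.pCore p G).subgroupOf (P : Subgroup G) := by
      rw [← QuotientGroup.eq, ← hn]
      simp
    have h2 : ((x : G) ^ n)⁻¹ * a ∈ (Q : Subgroup G) := Core.pCore_le_sylow Q (by simpa using Subgroup.mem_subgroupOf.mp h1)
    exact (Subgroup.mul_mem_cancel_left _
      (Subgroup.inv_mem _ (Subgroup.zpow_mem (Q : Subgroup G) hQ n))).mp h2

end Cfsg.Agent.S4348
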