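import Cfsg.Statements.S4349
import Mathlib
import Cfsg.Agent.Lib.PGrp.Basic
import Cfsg.Agent.Lib.Core.PPrimeCore
import Cfsg.Agent.Lib.Transfer.SylowIn

set_option autoImplicit false
open Cfsg

namespace Cfsg.Agent.S4349

open Equiv Equiv.Perm Subgroup

/-- An involution with at most one fixed point. -/
def NP {α : Type*} (z : Perm α) : Prop := z * z = 1 ∧ ∀ a b, z a = a → z b = b → a = b

/-- At most two fixed points, and cycles of different lengths. -/
def Good {α : Type*} (x : Perm α) : Prop :=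
  (∀ a b c, x a = a → x b = b → x c = c → a = b ∨ a = c ∨ b = c) ∧
    ∀ a b, x a ≠ a → (∀ i : ℤ, (x ^ i) a = a ↔ (x ^ i) b = b) → x.SameCycle a b

variable {α : Type*} {x z z' : Perm α} {a : α}

theorem exists_involution [Finite α] [Nontrivial α] {R : Subgroup (Perm α)} (hR : IsPGroup 2 R) :
    ∃ u : Perm α, u ≠ 1 ∧ u * u = 1 ∧ ∀ g ∈ R, g * u = u * g := by
  classical
  by_cases h : R = ⊥
  · obtain ⟨a, b, hab⟩ := exists_pair_ne α
    exact ⟨swap a b, swap_eq_one_iff.not.2 hab, swap_mul_self a b, by simp [h]⟩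
  have := (nontrivial_iff_ne_bot R).2 h
  obtain ⟨u, -, hu, h2⟩ := PGrp.exists_mem_center_orderOf_eq hR (N := ⊤) top_ne_bot
  refine ⟨u, fun h => ?_, ?_, fun g hg => congrArg Subtype.val (mem_center_iff.1 hu ⟨g, hg⟩)⟩
  · simp [show u = 1 from Subtype.ext h] at h2
  · rw [← sq, ← h2, ← orderOf_coe, pow_orderOf_eq_one]

theorem exists_np [Finite α] {Q : Subgroup (Perm α)} (hQ : IsPGroup 2 Q) (s : Perm α)
    (hs : s * s = 1) (hsQ : ∀ g ∈ Q, g * s = s * g) :
    ∃ z, NP z ∧ (∀ g ∈ Q, g * z = z * g) ∧ ∀ a, s a ≠ a → z a = s a := by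
  classical
  induction h : {a | s a = a}.ncard using Nat.strong_induction_on generalizing s with
  | h n ih =>
  by_cases h1 : ∀ a b, s a = a → s b = b → a = b
  · exact ⟨s, ⟨hs, h1⟩, hsQ, fun _ _ => rfl⟩
  push Not at h1
  obtain ⟨a, b, ha, hb, hab⟩ := h1
  have : Nontrivial {a // s a = a} := ⟨⟨a, ha⟩, ⟨b, hb⟩, fun h => hab (congrArg Subtype.val h)⟩
  have h2 : ∀ g ∈ Q, ∀ a, s (g a) = g a ↔ s a = a := fun g hg a => by
    rw [← mul_apply, ← hsQ g hg, mul_apply, g.apply_eq_iff_eq]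
  let φ : Q →* Perm {a // s a = a} :=
    { toFun g := (g : Perm α).subtypePerm (h2 g g.2)
      map_one' := by ext; rfl
      map_mul' _ _ := by ext; rfl }
  obtain ⟨u, hu1, hu2, hu⟩ := exists_involution (R := φ.range)
    (hQ.of_surjective _ φ.rangeRestrict_surjective)
  have h3 : Perm.Disjoint s (ofSubtype u) := fun a =>
    (em (s a = a)).imp_right (ofSubtype_apply_of_not_mem u)
  have h4 : ∀ a, s a ≠ a → (s * ofSubtype u) a = s a := fun a ha => by
    rw [mul_apply, (h3 a).resolve_left ha]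
  refine (ih _ (h ▸ Set.ncard_lt_ncard ⟨fun a ha => ?_, fun h => ?_⟩)
    (s * ofSubtype u) (by rw [h3.commute.symm.mul_mul_mul_comm, hs, ← map_mul, hu2, map_one, one_mul])
    (fun g hg => ?_) rfl).imp fun z hz =>
      ⟨hz.1, hz.2.1, fun a ha => (hz.2.2 a (by rwa [h4 a ha])).trans (h4 a ha)⟩
  · rw [← mul_assoc, hsQ g hg, mul_assoc, mul_assoc]
    congr 1
    ext a
    by_cases ha : s a = a
    · rw [mul_apply, mul_apply, ofSubtype_apply_of_mem u ha,
        ofSubtype_apply_of_mem u ((h2 g hg a).2 ha)]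
      exact congrArg Subtype.val (Equiv.congr_fun (hu _ ⟨⟨g, hg⟩, rfl⟩) ⟨a, ha⟩)
    · rw [mul_apply, mul_apply, ofSubtype_apply_of_not_mem u ha,
        ofSubtype_apply_of_not_mem u ((h2 g hg a).not.2 ha)]
  · exact by_contra fun h => h ((h4 a h).symm.trans ha)
  · refine hu1 (Equiv.ext fun a => Subtype.ext ?_)
    simpa [ofSubtype_apply_coe, (u a).2] using h a.2

theorem NP.apply (hz : NP z) (a : α) : z (z a) = a := Equiv.congr_fun hz.1 a

theorem comm (h : x * z = z * x) (i : ℤ) (a : α) : (x ^ i) (z a) = z ((x ^ i) a) :=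
  Equiv.congr_fun (Commute.zpow_left h i).eq a

theorem moved (hx : Good x) (hz : NP z) (h : x * z = z * x) (ha : x a ≠ a) :
    z a ≠ a ∧ (∃ j : ℤ, (x ^ j) a = z a ∧ (x ^ (2 * j)) a = a) ∧
      (∀ i : ℤ, (x ^ (2 * i)) a = a ↔ (x ^ i) a = a ∨ (x ^ i) a = z a) ∧
        ∀ i : ℤ, (x ^ i) a = a → 2 ∣ i := by
  have h1 : z a ≠ a := fun h1 => ha (hz.2 _ _ (by simpa [h1] using (comm h 1 a).symm) h1)
  obtain ⟨j, hj⟩ := hx.2 a (z a) ha fun i => by rw [comm h, z.apply_eq_iff_eq]
  have h2 : ∀ i : ℤ, (x ^ i) a = z a → (x ^ (2 * i)) a = a := fun i hi => by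
    rw [two_mul, zpow_add, mul_apply, hi, comm h, hi, hz.apply]
  obtain ⟨N, hN⟩ : ∃ N : ℤ, ∀ i : ℤ, (x ^ i) a = a ↔ N ∣ i :=
    ⟨_, fun _ => MulAction.zpow_smul_eq_iff_minimalPeriod_dvd (a := x) (b := a)⟩
  obtain ⟨u, hu⟩ := (hN _).1 (h2 j hj)
  have h3 : ∀ i u, 2 * i = N * u → ¬ N ∣ i → ∃ v, u = 2 * v + 1 := fun i u h h' =>
    (Int.even_or_odd' u).imp fun v hv => hv.resolve_left fun hv => h' ⟨v, by rw [hv] at h; linarith⟩
  obtain ⟨v, rfl⟩ := h3 j u hu fun h => h1 (hj.symm.trans ((hN j).2 h))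
  refine ⟨h1, ⟨j, hj, h2 j hj⟩, fun i => ⟨fun hi => or_iff_not_imp_left.2 fun h4 => ?_, ?_⟩,
    fun i hi => Dvd.dvd.trans ⟨j - N * v, by linarith⟩ ((hN i).1 hi)⟩
  · obtain ⟨w, hw⟩ := (hN _).1 hi
    obtain ⟨t, rfl⟩ := h3 i w hw ((hN i).not.1 h4)
    rw [← hj, ← add_sub_cancel j i, zpow_add, mul_apply, (hN _).2 ⟨t - v, by linarith⟩]
  · rintro (h | h)
    · exact (hN _).2 (((hN _).1 h).mul_left 2)
    · exact h2 i h

theorem np_unique (hx : Good x) (hz : NP z) (h : x * z = z * x) (hz' : NP z')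
    (h' : x * z' = z' * x) : z = z' := by
  ext a
  by_cases ha : x a = a
  · have h1 := comm h 1
    have h2 := comm h' 1
    have h3 := hx.1 a (z a) (z' a) ha
    have h4 := hx.1 a (z' a) (z (z' a)) ha
    have h5 := hx.1 a (z a) (z' (z a)) ha
    have := hz.2 a (z' a)
    have := hz'.2 a (z a)
    have := hz.apply (z' a)
    have := hz'.apply (z a)
    simp only [zpow_one] at h1 h2
    grind
  obtain ⟨h1, ⟨j, hj, h2⟩, -⟩ := moved hx hz h ha
  exact hj.symm.trans ((((moved hx hz' h' ha).2.2.1 j).1 h2).resolve_left (hj ▸ h1))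

theorem exists_max (n : ℕ) {α : Type} [Finite α] (hn : Nat.card α = n) {x : Perm α} (hx : Good x)
    (h2 : IsPGroup 2 (zpowers x)) :
    ∃ P : Subgroup (Perm α), IsPGroup 2 P ∧ 
      ∀ Q : Subgroup (Perm α), IsPGroup 2 Q → x ∈ Q → Q ≤ P := by
  induction n using Nat.strong_induction_on generalizing α with
  | h n ih =>
  rcases subsingleton_or_nontrivial α with h | h
  · exact ⟨⊥, IsPGroup.of_bot, fun Q _ _ => (Subsingleton.elim _ _).le⟩
  obtain ⟨z, hz, hxz, -⟩ := exists_np h2 1 (one_mul 1) (by simp)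
  replace hxz := hxz x (mem_zpowers x)
  let r : Setoid α := ⟨fun a b => a = b ∨ a = z b, fun _ => Or.inl rfl,
    fun h => h.imp Eq.symm fun h => by rw [h, hz.apply], by have := hz.apply; grind⟩
  let C := centralizer ({z} : Set (Perm α))
  have hC : ∀ (g : C) a, g.1 (z a) = z (g.1 a) := fun g =>
    Equiv.congr_fun (mem_centralizer_singleton_iff.1 g.2)
  let π : C →* Perm (Quotient r) :=
    { toFun g := Quotient.congr g.1 fun a b => show a = b ∨ a = z b ↔ _ ∨ _ by
        rw [← hC, g.1.apply_eq_iff_eq, g.1.apply_eq_iff_eq]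
      map_one' := Equiv.ext fun a => Quotient.inductionOn a fun _ => rfl
      map_mul' _ _ := Equiv.ext fun a => Quotient.inductionOn a fun _ => rfl }
  let y : C := ⟨x, mem_centralizer_singleton_iff.2 hxz⟩
  have h1 : ∀ (i : ℤ) a, (π y ^ i) ⟦a⟧ = ⟦(x ^ i) a⟧ := fun i a => by rw [← map_zpow]; rfl
  have h3 : ∀ a b, x a ≠ a → x b ≠ b → (∀ i : ℤ, (π y ^ i) ⟦a⟧ = ⟦a⟧ ↔ (π y ^ i) ⟦b⟧ = ⟦b⟧) →
      (π y).SameCycle ⟦a⟧ ⟦b⟧ := fun a b ha hb h => by
    obtain ⟨-, -, h3, h4⟩ := moved hx hz hxz ha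
    obtain ⟨-, -, h5, h6⟩ := moved hx hz hxz hb
    have h7 : ∀ i : ℤ, (x ^ (2 * i)) a = a ↔ (x ^ (2 * i)) b = b := fun i => by
      simpa only [h1, Quotient.eq, h3, h5] using! h i
    obtain ⟨i, rfl⟩ := hx.2 a b ha fun i => ⟨fun hi => by
      obtain ⟨j, rfl⟩ := h4 i hi
      exact (h7 j).1 hi, fun hi => by
      obtain ⟨j, rfl⟩ := h6 i hi
      exact (h7 j).2 hi⟩
    exact ⟨i, h1 i a⟩
  have h4 : ∀ a b, x a = a → x b = b → (⟦a⟧ : Quotient r) = ⟦b⟧ := fun a b ha hb => by
    refine Quotient.sound (show a = b ∨ a = z b from ?_)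
    have h1 := comm hxz 1
    have := hx.1 a b (z a) ha hb
    have := hx.1 a b (z b) ha hb
    have := hz.2 a b
    have := hz.apply a
    simp only [zpow_one] at h1
    grind
  have h5 : ∀ a b, x a ≠ a → x b ≠ b → π y ⟦a⟧ = ⟦a⟧ → π y ⟦b⟧ = ⟦b⟧ →
      (⟦a⟧ : Quotient r) = ⟦b⟧ := fun a b ha hb h h' => (h3 a b ha hb fun i =>
    iff_of_true (zpow_apply_eq_self_of_apply_eq_self h i)
      (zpow_apply_eq_self_of_apply_eq_self h' i)).eq_of_left h
  have h0 : Nat.card (Quotient r) < Nat.card α := by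
    have := Fintype.ofFinite α
    have := Fintype.ofFinite (Quotient r)
    rw [Nat.card_eq_fintype_card, Nat.card_eq_fintype_card]
    refine Fintype.card_lt_of_surjective_not_injective _ Quotient.mk_surjective fun h => ?_
    obtain ⟨a, b, hab⟩ := exists_pair_ne α
    exact hab (hz.2 a b (h (Quotient.sound (Or.inr rfl))) (h (Quotient.sound (Or.inr rfl))))
  obtain ⟨P, hP, h6⟩ := ih _ (hn ▸ h0) rfl (x := π y)
    ⟨fun a b c => Quotient.inductionOn₃ a b c fun a b c => by
      have := h4 a b; have := h4 a c; have := h4 b c; have := h5 a b; have := h5 a c; have := h5 b c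
      tauto, fun a b => Quotient.inductionOn₂ a b fun a b ha h => h3 a b
        (fun h => ha (congrArg (Quotient.mk r) h))
        (fun h' => ha ((h 1).2 (congrArg (Quotient.mk r) h'))) h⟩
    (MonoidHom.map_zpowers π y ▸ IsPGroup.map ((h2.comap_subtype (K := C)).to_le
      (zpowers_le.2 (mem_zpowers x))) π)
  · refine ⟨(P.comap π).map C.subtype, (hP.comap_of_ker_isPGroup π fun g => ⟨1, ?_⟩).map _,
      fun Q hQ hxQ g hg => ?_⟩
    · refine Subtype.ext (Subtype.ext (Equiv.ext fun a => ?_))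
      have h7 : ∀ a, g.1.1 a = a ∨ g.1.1 a = z a := fun a =>
        Quotient.exact (Equiv.congr_fun g.2 ⟦a⟧)
      change g.1.1 (g.1.1 a) = a
      rcases h7 a with h | h
      · rw [h, h]
      · rw [h, hC, h, hz.apply]
    · obtain ⟨w, hw, hQw, -⟩ := exists_np hQ 1 (one_mul 1) (by simp)
      obtain rfl := np_unique hx hw (hQw x hxQ) hz hxz
      exact ⟨⟨g, mem_centralizer_singleton_iff.2 (hQw g hg)⟩, h6 _ ((hQ.comap_subtype (K := C)).map π)
        (mem_map_of_mem π (show y ∈ _ from hxQ)) (mem_map_of_mem π hg), rfl⟩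

variable [Fintype α] [DecidableEq α]

theorem NP.isConj (hz : NP z) (hz' : NP z') : IsConj z z' := by
  have h : ∀ {z : Perm α}, NP z → z.cycleType = Multiset.replicate (Fintype.card α / 2) 2 :=
    fun {z} hz => by
      have h1 := cycleType_of_pow_prime_eq_one (p := 2) ((sq z).trans hz.1)
      have h2 := sum_cycleType z
      have h3 := Finset.card_le_one.2 (show ∀ a ∈ z.supportᶜ, ∀ b ∈ z.supportᶜ, a = b by
        simpa using fun a ha b => hz.2 a b ha)
      have := z.support.card_le_univ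
      rw [h1, Multiset.sum_replicate, smul_eq_mul] at h2
      rw [Finset.card_compl] at h3
      rw [h1]
      congr 1
      omega
  exact isConj_iff_cycleType_eq.2 ((h hz).trans (h hz').symm)

theorem exists_comm {P : Sylow 2 (Perm α)} (hP : x ∈ P) (h : ∀ Q : Sylow 2 (Perm α), x ∈ Q → Q = P)
    {s u : Perm α} (hs : s * s = 1) (hsx : x * s = s * x) (hu : IsPGroup 2 (zpowers u))
    (hux : x * u = u * x) {a : α} (h1 : s a ≠ a) (h2 : s (u a) ≠ u a) : u (s a) = s (u a) := by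
  have hx := P.isPGroup'.to_le (zpowers_le.2 hP)
  obtain ⟨z, hz, hxz, hzs⟩ := exists_np hx s hs fun g hg =>
    mem_centralizer_singleton_iff.1 (zpowers_le.2 (mem_centralizer_singleton_iff.2 hsx) hg)
  obtain ⟨w, hw, hPw, -⟩ := exists_np P.isPGroup' 1 (one_mul 1) (by simp)
  obtain ⟨g, rfl⟩ := isConj_iff.1 (hw.isConj hz)
  have h3 : ∀ n ∈ centralizer {g * w * g⁻¹},
      ((n * g) • P : Sylow 2 (Perm α)) ≤ centralizer {g * w * g⁻¹} := fun n hn y hy => by
    have h3 := hPw _ (Transfer.mem_sylow_smul_iff.1 hy)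
    rw [show y = n * (g * ((n * g)⁻¹ * y * (n * g)) * g⁻¹) * n⁻¹ by group]
    refine mul_mem (mul_mem hn (mem_centralizer_singleton_iff.2 ?_)) (inv_mem hn)
    exact (Commute.map h3 (MulAut.conj g)).eq
  obtain ⟨n, hn, h4⟩ := (Transfer.isSylowIn_of_sylow_le _ (h3 1 (one_mem _))).exists_conj_le hx
    fun y hy => mem_centralizer_singleton_iff.2 (hxz y hy)
  have h5 := h3 _ (inv_mem hn)
  rw [h ((n⁻¹ * g) • P) (Transfer.mem_sylow_smul_iff.2 (by
    simpa [mul_assoc] using Transfer.mem_sylow_smul_iff.1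
      (h4 (Transfer.conj_mem_conj_smul (mem_zpowers x)))))] at h5
  have h6 : u ∈ (P : Subgroup (Perm α)) := zpowers_le.1 (inf_eq_left.1 (by
    rw [← hu.inf_normalizer_sylow, inf_eq_left, zpowers_le, ← Sylow.smul_eq_iff_mem_normalizer]
    exact h _ (Transfer.mem_sylow_smul_iff.2 (by rwa [mul_assoc, hux, inv_mul_cancel_left]))))
  rw [← hzs a h1, ← hzs _ h2]
  exact Equiv.congr_fun (mem_centralizer_singleton_iff.1 (h5 h6)) a


/-- Let n ≥ 2 and let x be an element of 2-power order of the symmetric group of degree n. Then x lies in exactly one Sylow 2-subgroup if and only if x has at most two fixed points and the nontrivial cycles of x have pairwise different lengths. -/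
theorem result (n : ℕ) (hn : 2 ≤ n)
    (x : Equiv.Perm (Fin n)) (hx : ∃ k : ℕ, orderOf x = 2 ^ k) :
    (∃! P : Sylow 2 (Equiv.Perm (Fin n)), x ∈ P) ↔ (n ≤ x.support.card + 2 ∧ x.cycleType.Nodup) := by
  obtain ⟨k, hk⟩ := hx
  have h2 := Core.isPGroup_zpowers_of_orderOf hk
  have hc := Finset.card_compl x.support
  rw [Fintype.card_fin] at hc
  rw [cycleType_def, Multiset.nodup_map_iff_inj_on x.cycleFactorsFinset.2]
  constructor
  · rintro ⟨P, hP, h⟩
    refine ⟨by_contra fun h1 => ?_, fun c hc d hd hcd => by_contra fun h1 => ?_⟩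
    · obtain ⟨a, b, c, ha, hb, hc, hab, hac, hbc⟩ :=
        Finset.two_lt_card_iff.1 (show 2 < x.supportᶜ.card by omega)
      rw [Finset.mem_compl, notMem_support] at ha hb hc
      have h3 := swap_apply_of_ne_of_ne hab hac
      have := exists_comm hP h (swap_mul_self a b) (by rw [mul_swap_eq_swap_mul, ha, hb])
        (u := swap b c) (Core.isPGroup_zpowers_of_orderOf (k := 1) (IsSwap.orderOf ⟨b, c, hbc, rfl⟩))
        (by rw [mul_swap_eq_swap_mul, hb, hc]) (a := a) (by simpa using hab.symm)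
        (by simpa [h3] using hab.symm)
      exact hbc (by simpa [h3, eq_comm] using this)
    rw [Finset.mem_val] at hc hd
    have hc' := mem_cycleFactorsFinset_iff.1 hc
    have hd' := mem_cycleFactorsFinset_iff.1 hd
    obtain ⟨g, hg⟩ := isConj_iff.1 (hc'.1.isConj hd'.1 hcd)
    have h3 : ∀ a, d (g a) = g (c a) := fun a => by simp [← hg]
    have h4 : ∀ a, g a ∈ d.support ↔ a ∈ c.support := fun a => by simp [h3]
    have h5 : ∀ a ∈ c.support, a ∉ d.support := Finset.disjoint_left.1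
      (x.cycleFactorsFinset_pairwise_disjoint hc hd h1).disjoint_support
    have h6 := mem_cycleFactorsFinset_support hc
    have h7 := mem_cycleFactorsFinset_support hd
    let f : Fin n → Fin n := fun a => if a ∈ c.support then g a else if a ∈ d.support then g⁻¹ a else a
    have hf1 : ∀ a ∈ c.support, f a = g a := fun a ha => if_pos ha
    have hf2 : ∀ a ∈ c.support, f (g a) = a := fun a ha => by
      simp only [f, if_neg fun h => h5 _ h ((h4 a).2 ha), if_pos ((h4 a).2 ha)]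
      exact g.symm_apply_apply a
    have hf3 : ∀ a ∉ c.support, a ∉ d.support → f a = a := fun a ha ha' => by
      simp only [f, if_neg ha, if_neg ha']
    have h8 : ∀ a, a ∈ c.support ∨ (∃ b ∈ c.support, a = g b) ∨ (a ∉ c.support ∧ a ∉ d.support) :=
      fun a => by
        obtain ⟨b, rfl⟩ := g.surjective a
        have := h4 b
        grind
    have hf : Function.Involutive f := fun a => by
      rcases h8 a with h | ⟨b, h, rfl⟩ | h
      · rw [hf1 a h, hf2 a h]
      · rw [hf2 b h, hf1 b h]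
      · rw [hf3 a h.1 h.2, hf3 a h.1 h.2]
    have h9 : ∀ a ∈ c.support, x (g a) = g (x a) := fun a ha => by
      rw [← hd'.2 _ ((h4 a).2 ha), h3, hc'.2 a ha]
    have h10 : ∀ a ∈ c.support, f a ≠ a := fun a ha h =>
      h5 a ha (h ▸ hf1 a ha ▸ (h4 a).2 ha)
    obtain ⟨a, ha⟩ := hc'.1.nonempty_support
    have ha' := apply_mem_support.2 ha
    obtain ⟨j, -, hj⟩ := (Nat.dvd_prime_pow Nat.prime_two).1 (hk ▸ hc'.1.orderOf.dvd.trans
      (dvd_of_mem_cycleType (Multiset.mem_map_of_mem _ hc)))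
    have := exists_comm hP h (s := hf.toPerm f) (Equiv.ext hf) (Equiv.ext fun a => by
        change x (f a) = f (x a)
        rcases h8 a with h | ⟨b, h, rfl⟩ | h
        · rw [hf1 a h, hf1 _ ((h6 a).2 h), h9 a h]
        · rw [hf2 b h, h9 b h, hf2 _ ((h6 b).2 h)]
        · rw [hf3 a h.1 h.2, hf3 _ ((h6 a).not.2 h.1) ((h7 a).not.2 h.2)])
      (Core.isPGroup_zpowers_of_orderOf hj) (self_mem_cycle_factors_commute hc).symm
      (h10 a ha) (h10 _ ha')
    change c (f a) = f (c a) at this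
    rw [hf1 a ha, hf1 _ ha', notMem_support.1 fun h => h5 _ h ((h4 a).2 ha)] at this
    exact mem_support.1 ha (g.injective this).symm
  · rintro ⟨h1, h3⟩
    refine (exists_max _ rfl (x := x) ⟨fun a b c ha hb hc => by_contra fun h => ?_,
      fun a b ha h => ?_⟩ h2).elim fun P ⟨hP, h⟩ => ?_
    rotate_right
    · obtain ⟨Q, hQ⟩ := h2.exists_le_sylow
      have hxQ := hQ (mem_zpowers x)
      exact ⟨Q, hxQ, fun R hR => Sylow.ext ((R.3 hP (h _ R.2 hR)).symm.trans (Q.3 hP (h _ Q.2 hxQ)))⟩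
    · push Not at h
      exact absurd (Finset.two_lt_card_iff.2 ⟨a, b, c, by simpa using ha, by simpa using hb,
        by simpa using hc, h⟩ : 2 < x.supportᶜ.card) (by omega)
    · have hb : x b ≠ b := fun hb => ha ((h 1).2 hb)
      have h4 : ∀ a, x a ≠ a → ∀ i : ℤ, (x ^ i) a = a ↔ ((x.cycleOf a).support.card : ℤ) ∣ i :=
        fun a ha i => by
          simpa [Int.emod_emod_of_dvd] using zpow_eq_zpow_on_iff x (m := i) (n := 0) ha
      refine (sameCycle_iff_cycleOf_eq_of_mem_support (mem_support.2 ha) (mem_support.2 hb)).2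
        (h3 _ (Finset.mem_def.1 (cycleOf_mem_cycleFactorsFinset_iff.2 (mem_support.2 ha))) _
          (Finset.mem_def.1 (cycleOf_mem_cycleFactorsFinset_iff.2 (mem_support.2 hb)))
          (Nat.dvd_antisymm ?_ ?_))
      · exact Int.natCast_dvd_natCast.1 ((h4 a ha _).1 ((h _).2 ((h4 b hb _).2 dvd_rfl)))
      · exact Int.natCast_dvd_natCast.1 ((h4 b hb _).1 ((h _).1 ((h4 a ha _).2 dvd_rfl)))

end Cfsg.Agent.S4349
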