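import Cfsg.Statements.S4351
import Cfsg.Agent.Lib.CIT.Local

set_option autoImplicit false
open Cfsg

namespace Cfsg.Agent.S4351

open Subgroup Cfsg.Agent.Coprime Cfsg.Agent.OO Cfsg.Agent.CIT
open scoped Pointwise

theorem isCIT {G : Type*} [Group G] [Finite G] (hG : ¬ Group.IsSolvable G)
    (hCN : ∀ x : G, x ≠ 1 → Nil 𝐂[x]) : IsCIT G := fun t x t1 t2 e ho => by_contra fun x1 => by
  have cm : ∀ {y a b : G}, y ≠ 1 → a ∈ 𝐂[y] → b ∈ 𝐂[y] → PiElt {2} a → PiElt {2}ᶜ b → a ∈ 𝐂[b] :=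
    fun y1 ha hb h1 h2 => mem_cent1.2 (commute_of_nil_of_coprime (hCN _ y1) ha hb (h1.coprime h2))
  obtain ⟨S, hS, hle⟩ := exists_syl_ge le_top (ZN.isPGroup_zpowers_inv (orderOf_inv' t1 t2))
  have ht := zpowers_le.1 hle
  obtain ⟨z, hz, z1, z2, hc⟩ := exists_central hS.isPGroup fun e => t1 (mem_bot.1 (e ▸ ht))
  have pz := hS.piGrp.piElt hz
  have px : PiElt {2}ᶜ x := (isPiNum_compl_singleton Nat.prime_two).2 ho.not_two_dvd_nat
  have hx : x ∈ 𝐂[z] := mem_cent1_comm.1 (cm t1 (mem_cent1_comm.1 (hc ht)) (mem_cent1.2 e) pz px)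
  have key : ∀ w ∈ 𝐂[z], w ≠ 1 → PiElt {2}ᶜ w → ∀ g ∈ 𝐂[w], PiElt {2} g → g ∈ 𝐂[z] :=
    fun w hw w1 pw g hg pg => by
      have h1 := hS.mono (fun s hs => cm z1 (hc hs) hw (hS.piGrp.piElt hs) pw) le_top
      exact hc (h1.mem_of_mem_norm hg (h1.norm_of_nil (hCN w w1) hg) pg)
  obtain ⟨u, h⟩ := hypC_of_cc hG (H := 𝐂[z]) (fun y hy y1 g hg => by
    refine mem_of_constt_mem (π := {2}) ?_ (mem_cent1_comm.1 (cm y1 (mem_cent1_comm.1 hy)
      (constt_mem _ hg) pz (piElt_constt _ g)))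
    by_cases h1 : constt {2}ᶜ y = 1
    · exact key x hx x1 px _ (cm y1 (constt_mem _ hg) (mem_cent1_comm.1 (cm z1 hy hx
        (by simpa using constt_eq_one_iff.1 h1) px)) (piElt_constt _ g) px) (piElt_constt _ g)
    · exact key _ (constt_mem _ hy) h1 (piElt_constt _ y) _
        (constt_mem _ (cent1_le_cent1_constt _ y hg)) (piElt_constt _ g))
    (mem_cent1_self z) z1 z2 le_rfl (sol_of_nil (hCN z z1))
  exact x1 (Transfer.eq_one_of_coprime_of_mem_isPGroup (hyp_two h) (Nat.coprime_two_right.2 ho) hx)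

/-- Let G be a finite non-solvable group in which the centralizer of every non-identity element is nilpotent. Then G is a non-abelian simple group; or G has a normal subgroup of index 2 isomorphic to PSL(2, 9); or G has a nontrivial normal elementary abelian 2-subgroup N such that G/N is isomorphic to PSL(2, q) for some q = 2ⁿ ≥ 4 or is a simple group of Suzuki type (simple, of the order of a Suzuki group). -/
theorem result {G : Type*} [Group G] [Finite G] (hG : ¬ Group.IsSolvable G)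
    (hCN : ∀ x : G, x ≠ 1 → Group.IsNilpotent (Subgroup.centralizer ({x} : Set G))) :
    (IsSimpleGroup G ∧ ¬ IsMulCommutative G) ∨
    (∃ (N : Subgroup G), N.Normal ∧ N.index = 2 ∧ ∃ (F : Type) (_ : Field F) (_ : Fintype F), Fintype.card F = 9 ∧
        Nonempty (N ≃* Matrix.ProjectiveSpecialLinearGroup (Fin 2) F)) ∨
    (∃ (N : Subgroup G) (_ : N.Normal), N ≠ ⊥ ∧ IsPGroup 2 N ∧ IsMulCommutative N ∧ (∀ x ∈ N, x * x = 1) ∧
        ((∃ (F : Type) (_ : Field F) (_ : Fintype F), CharP F 2 ∧ 4 ≤ Fintype.card F ∧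
            Nonempty (G ⧸ N ≃* Matrix.ProjectiveSpecialLinearGroup (Fin 2) F)) ∨ Cfsg.IsSuzuki (G ⧸ N))) := by
  have hC := isCIT hG hCN
  have key : IsSimpleGroup G → IsSimpleGroup G ∧ ¬ IsMulCommutative G := fun h =>
    ⟨h, fun h => hG (Group.isSolvable_of_comm h.is_comm.comm)⟩
  by_cases hO : pCore 2 G = ⊥
  · rcases hC.cases hG hO with ⟨S, t, h⟩ | ⟨F, _, _, h, -, ⟨e⟩⟩ | h | ⟨D, S, t, h⟩
    · exact Or.inl (key h.isSimpleGroup)
    · have := Matrix.ProjectiveSpecialLinearGroup.rank_two_simple (F := F) (by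
        rw [Nat.card_eq_fintype_card]; omega)
      exact Or.inl (key e.isSimpleGroup)
    · exact Or.inr (Or.inl h)
    · exact Or.inl (key (h.isSimpleGroup hO))
  obtain ⟨⟨S, t, h⟩, h2⟩ := hC.main hG hO
  refine Or.inr (Or.inr ⟨_, inferInstance, hO, Core.isPGroup_pCore 2, ab_of_mul_self h2, h2, ?_⟩)
  rcases R1.zt1 _ S t h with h3 | ⟨h3, h4⟩
  · obtain ⟨n, hn, -, -, e⟩ := h.main fun x hx j hj => (h.comm hx (h3 x hx) (h.K_conj_mem hj hx)).symm
    let := Fintype.ofFinite (GaloisField 2 n)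
    refine Or.inl ⟨_, _, this, inferInstance, ?_, e⟩
    rw [← Nat.card_eq_fintype_card, GaloisField.card 2 n (by omega)]
    exact Nat.pow_le_pow_right two_pos hn
  · obtain ⟨m, hm, h5, h6, -⟩ := h.suzuki h3 h4
    refine Or.inr ⟨h6, m, hm, ?_⟩
    rw [h.card_eq, h5, ← (Nat.pow_left_injective two_ne_zero (h4.symm.trans h5) :), Nat.add_sub_cancel]
    ring

end Cfsg.Agent.S4351
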