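import Cfsg.Statements.S4356
import Mathlib
import Cfsg.Agent.S4357

set_option autoImplicit false
open Cfsg

namespace Cfsg.Agent.S4356

open Subgroup

theorem redundant_iff {G G' : Type*} [Group G] [Finite G] [Group G'] {f : G →* G'}
    (hf : Function.Surjective f) (hZ : f.ker ≤ center G) (p : ℕ) [Fact p.Prime] :
    (∃ Q : Sylow p G', ∀ x : G', (∃ k : ℕ, orderOf x = p ^ k) → ∃ P : Sylow p G', P ≠ Q ∧ x ∈ P) ↔
      ∃ Q : Sylow p G, ∀ x : G, (∃ k : ℕ, orderOf x = p ^ k) → ∃ P : Sylow p G, P ≠ Q ∧ x ∈ P := by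
  have := Finite.of_surjective f hf
  have h1 : ∀ x : G, (∃ k : ℕ, orderOf x = p ^ k) → ∀ P : Sylow p G, f x ∈ P.mapSurjective hf →
      x ∈ P := by
    rintro x ⟨k, hk⟩ P ⟨y, hy, hyx⟩
    have h2 := hZ (show x * y⁻¹ ∈ f.ker by simp [hyx])
    refine zpowers_le.1 (inf_eq_left.1 ?_)
    rw [← (Core.isPGroup_zpowers_of_orderOf hk).inf_normalizer_sylow, inf_eq_left, zpowers_le,
      ← inv_mul_cancel_right x y]
    exact mul_mem (centralizer_le_normalizer _ (center_le_centralizer _ h2)) (le_normalizer hy)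
  have h2 : ∀ P Q : Sylow p G, P.mapSurjective hf = Q.mapSurjective hf → P = Q := fun P Q h =>
    Sylow.ext (P.3 Q.2 fun x hx => h1 x (Core.exists_orderOf_eq_pow_of_mem P.isPGroup' hx) Q
      (h ▸ mem_map_of_mem f hx)).symm
  constructor
  · rintro ⟨Q, hQ⟩
    obtain ⟨Q, rfl⟩ := Sylow.mapSurjective_surjective hf p Q
    refine ⟨Q, fun x ⟨k, hk⟩ => ?_⟩
    obtain ⟨l, -, hl⟩ := (Nat.dvd_prime_pow Fact.out).1 (hk ▸ orderOf_map_dvd f x)
    obtain ⟨P, h3, h4⟩ := hQ (f x) ⟨l, hl⟩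
    obtain ⟨P, rfl⟩ := Sylow.mapSurjective_surjective hf p P
    exact ⟨P, fun h => h3 (h ▸ rfl), h1 x ⟨k, hk⟩ P h4⟩
  · rintro ⟨Q, hQ⟩
    refine ⟨Q.mapSurjective hf, fun x ⟨k, hk⟩ => ?_⟩
    obtain ⟨R, hR⟩ := (Core.isPGroup_zpowers_of_orderOf hk).exists_le_sylow
    obtain ⟨R, rfl⟩ := Sylow.mapSurjective_surjective hf p R
    obtain ⟨y, hy, rfl⟩ := hR (mem_zpowers x)
    obtain ⟨P, h3, h4⟩ := hQ y (Core.exists_orderOf_eq_pow_of_mem R.isPGroup' hy)
    exact ⟨P.mapSurjective hf, fun h => h3 (h2 P Q h), mem_map_of_mem f h4⟩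


/-- Let F be a finite field with q elements, p a prime and G = PSL(2, F). Say a Sylow p-subgroup Q of G is redundant when every element of p-power order lies in some Sylow p-subgroup other than Q. Then G has a redundant Sylow p-subgroup if and only if p = 2 and q is not of any of the forms 2ᵏ - 1, 2ᵏ, 2ᵏ + 1. -/
theorem result {F : Type*} [Field F] [Fintype F] (p : ℕ) [Fact p.Prime] :
    (∃ Q : Sylow p (Matrix.ProjectiveSpecialLinearGroup (Fin 2) F), ∀ x : Matrix.ProjectiveSpecialLinearGroup (Fin 2) F,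
        (∃ k : ℕ, orderOf x = p ^ k) → ∃ P : Sylow p (Matrix.ProjectiveSpecialLinearGroup (Fin 2) F), P ≠ Q ∧ x ∈ P) ↔
      (p = 2 ∧ (¬ ∃ k : ℕ, Fintype.card F + 1 = 2 ^ k) ∧ (¬ ∃ k : ℕ, Fintype.card F = 2 ^ k) ∧
        ¬ ∃ k : ℕ, Fintype.card F = 2 ^ k + 1) := by
  exact (redundant_iff (QuotientGroup.mk'_surjective _) (QuotientGroup.ker_mk' _).le p).trans
    (S4357.result p)

end Cfsg.Agent.S4356
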