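import Cfsg.Statements.S4358
import Cfsg.Agent.Lib.OO.BG2

set_option autoImplicit false
set_option linter.unusedSectionVars false
open Cfsg

namespace Cfsg.Agent.S4358

open Module Subgroup Polynomial

section Grp

variable {G : Type*} [Group G] {p : ℕ} [Fact p.Prime]

theorem pgrp_of_conj_comm {x a : G} {k : ℕ} (hx : x ^ p ^ k = 1) (ha : a ^ p = 1)
    (h : ∀ y ∈ zpowers x, Commute a (y * a * y⁻¹)) :
    ∃ P : Subgroup G, IsPGroup p P ∧ x ∈ P ∧ a ∈ P := by
  set S : Set G := {g | ∃ y ∈ zpowers x, g = y * a * y⁻¹} with hS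
  have hc : ∀ g ∈ S, ∀ g' ∈ S, g * g' = g' * g := by
    rintro _ ⟨y, hy, rfl⟩ _ ⟨z, hz, rfl⟩
    have := (h (y⁻¹ * z) (mul_mem (inv_mem hy) hz)).eq
    calc y * a * y⁻¹ * (z * a * z⁻¹) = y * (a * (y⁻¹ * z * a * (y⁻¹ * z)⁻¹)) * y⁻¹ := by group
      _ = y * (y⁻¹ * z * a * (y⁻¹ * z)⁻¹ * a) * y⁻¹ := by rw [this]
      _ = z * a * z⁻¹ * (y * a * y⁻¹) := by group
  have hc2 : ∀ g ∈ closure S, ∀ g' ∈ closure S, g * g' = g' * g := by
    have h1 : closure S ≤ centralizer S := (closure_le _).2 fun g hg g' hg' => hc g' hg' g hg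
    have h2 : closure S ≤ centralizer (closure S : Set G) := by
      rw [closure_le]
      intro g hg g' hg'
      exact (h1 hg' g hg).symm
    exact fun g hg g' hg' => h2 hg' g hg
  have hD : IsPGroup p (closure S) := by
    have : ∀ g ∈ closure S, g ^ p = 1 := by
      intro g hg
      induction hg using closure_induction with
      | mem g hg =>
        obtain ⟨y, -, rfl⟩ := hg
        rw [conj_pow, ha, mul_one, mul_inv_cancel]
      | one => exact one_pow _
      | mul g g' hg hg' h1 h2 => rw [Commute.mul_pow (hc2 g hg g' hg'), h1, h2, mul_one]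
      | inv g _ h1 => rw [inv_pow, h1, inv_one]
    exact fun g => ⟨1, Subtype.ext (by simpa using this g g.2)⟩
  have hX : IsPGroup p (zpowers x) := by
    rintro ⟨_, n, rfl⟩
    exact ⟨k, Subtype.ext (by
      simp only [SubmonoidClass.coe_pow, OneMemClass.coe_one]
      rw [← zpow_natCast, ← zpow_mul, mul_comm, zpow_mul, zpow_natCast, hx, one_zpow])⟩
  have hconj : ∀ y ∈ zpowers x, ∀ g ∈ closure S, y * g * y⁻¹ ∈ closure S := by
    intro y hy g hg
    induction hg using closure_induction with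
    | mem g hg =>
      obtain ⟨z, hz, rfl⟩ := hg
      exact subset_closure ⟨y * z, mul_mem hy hz, by group⟩
    | one => simp
    | mul g g' _ _ h1 h2 =>
      have : y * (g * g') * y⁻¹ = (y * g * y⁻¹) * (y * g' * y⁻¹) := by group
      rw [this]; exact mul_mem h1 h2
    | inv g _ h1 =>
      have : y * g⁻¹ * y⁻¹ = (y * g * y⁻¹)⁻¹ := by group
      rw [this]; exact inv_mem h1
  have hn : zpowers x ≤ normalizer (closure S : Set G) := by
    intro y hy
    rw [mem_normalizer_iff]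
    refine fun g => ⟨hconj y hy g, fun hg => ?_⟩
    have := hconj y⁻¹ (inv_mem hy) _ hg
    simpa [mul_assoc] using this
  refine ⟨closure S ⊔ zpowers x, hD.to_sup_of_normal_left' hX hn,
    mem_sup_right (mem_zpowers x), mem_sup_left (subset_closure ⟨1, one_mem _, by group⟩)⟩

end Grp

variable {F V : Type*} [Field F] [AddCommGroup V] [Module F V]

/-- pseudo-reflection -/
def rf (ζ : F) (v : V) (φ : Dual F V) : End F V := 1 + (ζ - 1) • φ.smulRight v

theorem rf_apply (ζ : F) (v : V) (φ : Dual F V) (u : V) :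
    rf ζ v φ u = u + ((ζ - 1) * φ u) • v := by
  simp [rf, mul_smul]

theorem rf_pow {ζ : F} {v : V} {φ : Dual F V} (h : φ v = 1) (n : ℕ) :
    rf ζ v φ ^ n = rf (ζ ^ n) v φ := by
  induction n with
  | zero => simp [rf]
  | succ n ih =>
    rw [pow_succ, ih]
    ext u
    simp only [End.mul_apply, rf_apply, map_add, map_smul, h, smul_eq_mul]
    module

theorem rf_pow_eq_one {ζ : F} {v : V} {φ : Dual F V} (h : φ v = 1) {n : ℕ} (hn : ζ ^ n = 1) :
    rf ζ v φ ^ n = 1 := by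
  rw [rf_pow h, hn]; simp [rf]

theorem rf_commute {ζ : F} {v w : V} {φ ψ : Dual F V} (h1 : φ w = 0) (h2 : ψ v = 0) :
    Commute (rf ζ v φ) (rf ζ w ψ) := by
  ext u
  simp only [End.mul_apply, rf_apply, map_add, map_smul, h1, h2, smul_eq_mul]
  module

theorem rf_commute_of_eigen {ζ l : F} {v : V} {φ : Dual F V} {x : End F V} (h1 : x v = l • v)
    (h2 : ∀ u, φ (x u) = l * φ u) : Commute (rf ζ v φ) x := by
  ext u
  simp only [End.mul_apply, rf_apply, map_add, map_smul, h1, h2, smul_eq_mul]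
  module

/-- the pseudo-reflection as a unit -/
noncomputable def rfu {p : ℕ} [hp : Fact p.Prime] {ζ : F} (hζ : ζ ^ p = 1) (v : V) (φ : Dual F V)
    (h : φ v = 1) : (End F V)ˣ :=
  Units.ofPowEqOne (rf ζ v φ) p (rf_pow_eq_one h hζ) hp.out.ne_zero

theorem rfu_val {p : ℕ} [hp : Fact p.Prime] {ζ : F} (hζ : ζ ^ p = 1) (v : V) (φ : Dual F V)
    (h : φ v = 1) : (rfu hζ v φ h : End F V) = rf ζ v φ := rfl

theorem rfu_pow {p : ℕ} [hp : Fact p.Prime] {ζ : F} (hζ : ζ ^ p = 1) (v : V) (φ : Dual F V)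
    (h : φ v = 1) : rfu hζ v φ h ^ p = 1 :=
  Units.ext (by rw [Units.val_pow_eq_pow_val, rfu_val, rf_pow_eq_one h hζ, Units.val_one])

variable [Finite F] [FiniteDimensional F V] {p : ℕ} [hp : Fact p.Prime]

theorem comm_on_plane (hp2 : p ≠ 2) (hF : (p : F) ≠ 0) {P : Subgroup (End F V)ˣ}
    (hP : IsPGroup p P) {a b : (End F V)ˣ} (ha : a ∈ P) (hb : b ∈ P) {W : Submodule F V}
    (hW : finrank F W = 2) (haW : ∀ w ∈ W, (a : End F V) w ∈ W)
    (hbW : ∀ w ∈ W, (b : End F V) w ∈ W) {w : V} (hw : w ∈ W) :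
    (a : End F V) ((b : End F V) w) = (b : End F V) ((a : End F V) w) := by
  let ρ : Representation F (End F V)ˣ V := Units.coeHom _
  have haS : a ∈ Mod.stab ρ W := Mod.mem_stab_of_map_le (by rintro _ ⟨u, hu, rfl⟩; exact haW u hu)
  have hbS : b ∈ Mod.stab ρ W := Mod.mem_stab_of_map_le (by rintro _ ⟨u, hu, rfl⟩; exact hbW u hu)
  set R := P ⊓ Mod.stab ρ W with hR
  have hinv : ∀ g : R, ∀ u ∈ W, ((g : (End F V)ˣ) : End F V) u ∈ W := fun g u hu =>
    Mod.isInv_stab (ρ := ρ) W g g.2.2 u hu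
  let f : R →* End F W :=
    { toFun := fun g => ((g : (End F V)ˣ) : End F V).restrict (hinv g)
      map_one' := by ext u; simp
      map_mul' := fun g h => by ext u; simp }
  haveI : Finite W := Module.finite_of_finite F
  haveI : Finite (End F W) := DFunLike.finite _
  let L := f.toHomUnits.range
  have hL : IsPGroup p L := (hP.to_inf_left (K := Mod.stab ρ W)).of_surjective _
    f.toHomUnits.rangeRestrict_surjective
  obtain ⟨n, hn⟩ := IsPGroup.iff_card.1 hL
  have hab := OO.charf'_GL2_abelian (L := L) ((Units.coeHom _).comp L.subtype) hW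
    (by rw [hn]; exact (hp.out.odd_of_ne_two hp2).pow)
    (OO.Pf.rker_eq_bot_iff.2 (fun g h e => Subtype.ext (Units.ext e)))
    (by rw [hn, Nat.cast_pow]; exact pow_ne_zero _ hF)
  have := OO.ab_iff.1 hab _ ⟨⟨a, ha, haS⟩, rfl⟩ _ ⟨⟨b, hb, hbS⟩, rfl⟩
  have h2 := congrArg (fun g : (End F W)ˣ => (((g : End F W) ⟨w, hw⟩ : W) : V)) this
  simpa [f] using h2

theorem not_pgrp (hp2 : p ≠ 2) (hF : (p : F) ≠ 0) {ζ : F} (hζ1 : ζ ≠ 1) {v w : V}
    {φ ψ : Dual F V} (hvw : LinearIndependent F ![v, w]) (h2 : ψ w = 1) (h3 : φ w ≠ 0)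
    {P : Subgroup (End F V)ˣ} (hP : IsPGroup p P) {a b : (End F V)ˣ} (ha : a ∈ P) (hb : b ∈ P)
    (ea : (a : End F V) = rf ζ v φ) (eb : (b : End F V) = rf ζ w ψ) : False := by
  set W := Submodule.span F (Set.range ![v, w]) with hW
  have hv : v ∈ W := Submodule.subset_span ⟨0, rfl⟩
  have hw : w ∈ W := Submodule.subset_span ⟨1, rfl⟩
  have hd : finrank F W = 2 := by rw [hW, finrank_span_eq_card hvw]; simp
  have := comm_on_plane hp2 hF hP ha hb hd
    (fun u hu => by rw [ea, rf_apply]; exact W.add_mem hu (W.smul_mem _ hv))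
    (fun u hu => by rw [eb, rf_apply]; exact W.add_mem hu (W.smul_mem _ hw)) hw
  rw [ea, eb] at this
  simp only [rf_apply, map_add, map_smul, h2, smul_eq_mul] at this
  have h4 := (LinearIndependent.pair_iff.1 hvw ((ζ - 1) * (ζ - 1) * φ w)
    (-((ζ - 1) * (ζ - 1) * φ w * ψ v)) (by
      rw [← sub_eq_zero] at this
      rw [← this]
      module)).1
  have h5 : ζ - 1 ≠ 0 := sub_ne_zero.2 hζ1
  exact mul_ne_zero (mul_ne_zero h5 h5) h3 h4

theorem pgrp_cyc {x : (End F V)ˣ} {k : ℕ} (hx : x ^ p ^ k = 1) {c : F}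
    (hc : (x : End F V) ^ p = c • 1) {ζ : F} (hζ : ζ ^ p = 1) {v : V} {φ : Dual F V} (h : φ v = 1)
    (h0 : ∀ i, 0 < i → i < p → φ (((x : End F V) ^ i) v) = 0) :
    ∃ P : Subgroup (End F V)ˣ, IsPGroup p P ∧ x ∈ P ∧ rfu hζ v φ h ∈ P := by
  refine pgrp_of_conj_comm hx (rfu_pow hζ v φ h) fun y hy => ?_
  have hfin : IsOfFinOrder x := isOfFinOrder_iff_pow_eq_one.2 ⟨_, pow_pos hp.out.pos k, hx⟩
  have key : ∀ y ∈ zpowers x, (∀ g, Commute y g) ∨ φ ((y : End F V) v) = 0 := by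
    intro y hy
    obtain ⟨n, rfl⟩ := (hfin.mem_powers_iff_mem_zpowers).2 hy
    have e : ((x ^ n : (End F V)ˣ) : End F V) = c ^ (n / p) • (x : End F V) ^ (n % p) := by
      conv_lhs => rw [← Nat.div_add_mod n p, pow_add, pow_mul]
      simp [hc, _root_.smul_pow]
    by_cases hr : n % p = 0
    · refine Or.inl fun g => Units.ext ?_
      simp only [Units.val_mul, e, hr, pow_zero, smul_mul_assoc, one_mul, mul_smul_comm, mul_one]
    · refine Or.inr ?_
      simp only [e, LinearMap.smul_apply, map_smul, h0 _ (Nat.pos_of_ne_zero hr)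
        (Nat.mod_lt _ hp.out.pos), smul_zero]
  rcases key y hy with h1 | h1
  · rw [(h1 _).eq, mul_inv_cancel_right]; exact Commute.refl _
  rcases key y⁻¹ (inv_mem hy) with h2 | h2
  · rw [mul_assoc, ← (h2 _).eq, mul_inv_cancel_left]; exact Commute.refl _
  have e : ((y * rfu hζ v φ h * y⁻¹ : (End F V)ˣ) : End F V) =
      rf ζ ((y : End F V) v) (φ ∘ₗ ((y⁻¹ : (End F V)ˣ) : End F V)) := by
    ext u
    simp only [Units.val_mul, End.mul_apply, rfu_val, rf_apply, map_add, map_smul,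
      LinearMap.comp_apply]
    rw [← End.mul_apply, ← Units.val_mul, mul_inv_cancel, Units.val_one, End.one_apply]
  refine Units.ext ?_
  rw [Units.val_mul, Units.val_mul (y * rfu hζ v φ h * y⁻¹), e, rfu_val]
  exact (rf_commute (ψ := φ ∘ₗ ((y⁻¹ : (End F V)ˣ) : End F V)) h1 h2).eq

theorem pgrp_comm {x : (End F V)ˣ} {k : ℕ} (hx : x ^ p ^ k = 1) {ζ l : F} (hζ : ζ ^ p = 1) {v : V}
    {φ : Dual F V} (h : φ v = 1) (h1 : (x : End F V) v = l • v)
    (h2 : ∀ u, φ ((x : End F V) u) = l * φ u) :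
    ∃ P : Subgroup (End F V)ˣ, IsPGroup p P ∧ x ∈ P ∧ rfu hζ v φ h ∈ P := by
  refine pgrp_of_conj_comm hx (rfu_pow hζ v φ h) fun y hy => ?_
  have h3 : Commute (rfu hζ v φ h) x := Units.ext (by
    rw [Units.val_mul, Units.val_mul, rfu_val]; exact (rf_commute_of_eigen h1 h2).eq)
  obtain ⟨n, rfl⟩ := hy
  rw [← (h3.zpow_right n).eq, mul_inv_cancel_right]; exact Commute.refl _

/-- The conclusion: `x` lies in two `p`-subgroups that lie in no common `p`-subgroup. -/
def Two (p : ℕ) {G : Type*} [Group G] (x : G) : Prop :=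
  ∃ A B : Subgroup G, IsPGroup p A ∧ IsPGroup p B ∧ x ∈ A ∧ x ∈ B ∧
    ∀ P : Subgroup G, IsPGroup p P → A ≤ P → B ≤ P → False

theorem two_of (hp2 : p ≠ 2) (hF : (p : F) ≠ 0) {x : (End F V)ˣ} {ζ : F} (hζ : ζ ^ p = 1)
    (hζ1 : ζ ≠ 1) {v w : V} {φ ψ : Dual F V} (hvw : LinearIndependent F ![v, w]) (h1 : φ v = 1)
    (h2 : ψ w = 1) (h3 : φ w ≠ 0)
    (hA : ∃ P : Subgroup (End F V)ˣ, IsPGroup p P ∧ x ∈ P ∧ rfu hζ v φ h1 ∈ P)
    (hB : ∃ P : Subgroup (End F V)ˣ, IsPGroup p P ∧ x ∈ P ∧ rfu hζ w ψ h2 ∈ P) : Two p x := by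
  obtain ⟨A, hA, hxA, ha⟩ := hA
  obtain ⟨B, hB, hxB, hb⟩ := hB
  exact ⟨A, B, hA, hB, hxA, hxB, fun P hP h4 h5 =>
    not_pgrp hp2 hF hζ1 hvw h2 h3 hP (h4 ha) (h5 hb) rfl rfl⟩

/-- projector onto an eigenspace -/
noncomputable def pr (p : ℕ) (x : End F V) (l : F) : End F V :=
  (p : F)⁻¹ • ∑ i ∈ Finset.range p, (l⁻¹ • x) ^ i

theorem pr_mul {x : End F V} (hx : x ^ p = 1) {l : F} (hl : l ^ p = 1) :
    pr p x l * x = l • pr p x l ∧ x * pr p x l = l • pr p x l := by
  have hl0 : l ≠ 0 := fun e => by rw [e, zero_pow hp.out.ne_zero] at hl; exact zero_ne_one hl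
  have hy : (l⁻¹ • x) ^ p = 1 := by rw [_root_.smul_pow, hx, inv_pow, hl, inv_one, one_smul]
  have h1 := geom_sum_mul (l⁻¹ • x) p
  have h2 := mul_geom_sum (l⁻¹ • x) p
  rw [hy, sub_self, mul_sub, mul_one, sub_eq_zero] at h1
  rw [hy, sub_self, sub_mul, one_mul, sub_eq_zero] at h2
  constructor
  · conv_rhs => rw [pr, ← h1]
    rw [pr, smul_mul_assoc, mul_smul_comm, smul_comm l, smul_smul l, mul_inv_cancel₀ hl0, one_smul]
  · conv_rhs => rw [pr, ← h2]
    rw [pr, smul_mul_assoc, mul_smul_comm, smul_comm l, smul_smul l, mul_inv_cancel₀ hl0, one_smul]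

theorem pr_apply_self (hF : (p : F) ≠ 0) {x : End F V} {l : F} (hl : l ^ p = 1) {e : V}
    (he : x e = l • e) : pr p x l e = e := by
  have hl0 : l ≠ 0 := fun e => by rw [e, zero_pow hp.out.ne_zero] at hl; exact zero_ne_one hl
  have h1 : ∀ i, ((l⁻¹ • x) ^ i) e = e := by
    intro i
    induction i with
    | zero => simp
    | succ i ih =>
      rw [pow_succ, End.mul_apply, LinearMap.smul_apply, he, smul_smul, inv_mul_cancel₀ hl0,
        one_smul, ih]
  rw [pr, LinearMap.smul_apply, LinearMap.sum_apply]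
  simp only [h1, Finset.sum_const, Finset.card_range]
  rw [← Nat.cast_smul_eq_nsmul F, smul_smul, inv_mul_cancel₀ hF, one_smul]

theorem geom_prim {ζ : F} (hζ : IsPrimitiveRoot ζ p) {i : ℕ} (h0 : 0 < i) (hi : i < p) :
    ∑ j ∈ Finset.range p, (ζ ^ i) ^ j = 0 :=
  (hζ.pow_of_coprime i (Nat.coprime_of_lt_prime h0.ne' hi hp.out).symm).geom_sum_eq_zero
    hp.out.one_lt

theorem sum_pr (hF : (p : F) ≠ 0) {x : End F V} {ζ : F} (hζ : IsPrimitiveRoot ζ p) :
    ∑ j ∈ Finset.range p, pr p x (ζ ^ j) = 1 := by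
  simp only [pr]
  rw [← Finset.smul_sum, Finset.sum_comm]
  have h1 : ∀ i ∈ Finset.range p, ∑ j ∈ Finset.range p, ((ζ ^ j)⁻¹ • x) ^ i =
      if i = 0 then (p : F) • 1 else 0 := by
    intro i hi
    simp only [_root_.smul_pow]
    rw [← Finset.sum_smul]
    split_ifs with h
    · simp [h]
    · have := geom_prim hζ.inv (Nat.pos_of_ne_zero h) (Finset.mem_range.1 hi)
      rw [show ∑ j ∈ Finset.range p, (ζ ^ j)⁻¹ ^ i = ∑ j ∈ Finset.range p, (ζ⁻¹ ^ i) ^ j from
        Finset.sum_congr rfl fun j _ => by rw [← inv_pow, ← pow_mul, ← pow_mul, mul_comm], this,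
        zero_smul]
  rw [Finset.sum_congr rfl h1, Finset.sum_ite_eq' , if_pos (Finset.mem_range.2 hp.out.pos),
    smul_smul, inv_mul_cancel₀ hF, one_smul]

theorem two_of_pow_eq_one (hp2 : p ≠ 2) (hF : (p : F) ≠ 0) (hV : finrank F V = p)
    {x : (End F V)ˣ} (hx : x ^ p = 1) {ζ : F} (hζ : IsPrimitiveRoot ζ p) : Two p x := by
  have hx' : (x : End F V) ^ p = 1 := by rw [← Units.val_pow_eq_pow_val, hx, Units.val_one]
  have hx1 : x ^ p ^ 1 = 1 := by rwa [pow_one]
  have hζ1 : ζ ≠ 1 := hζ.ne_one hp.out.one_lt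
  by_cases hrep : ∃ (l : F) (e e' : V), l ^ p = 1 ∧ LinearIndependent F ![e, e'] ∧
      (x : End F V) e = l • e ∧ (x : End F V) e' = l • e'
  · obtain ⟨l, e, e', hl, hi, he, he'⟩ := hrep
    obtain ⟨ψ0, h1, h2⟩ : ∃ ψ0 : Dual F V, ψ0 e = 1 ∧ ψ0 e' = 0 := by
      obtain ⟨g, hg, hg'⟩ := Submodule.exists_le_ker_of_notMem (K := F) (p := Submodule.span F {e'})
        (v := e) (fun hm => by
          obtain ⟨a, ha⟩ := Submodule.mem_span_singleton.1 hm
          exact one_ne_zero (LinearIndependent.pair_iff.1 hi 1 (-a) (by rw [← ha]; module)).1)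
      have h0 : g e' = 0 := hg' (Submodule.subset_span rfl)
      exact ⟨(g e)⁻¹ • g, by simp [hg], by simp [h0]⟩
    set ψ : Dual F V := ψ0 ∘ₗ pr p (x : End F V) l with hψ
    have h3 : ψ e = 1 := by rw [hψ, LinearMap.comp_apply, pr_apply_self hF hl he, h1]
    have h4 : ψ e' = 0 := by rw [hψ, LinearMap.comp_apply, pr_apply_self hF hl he', h2]
    have h5 : ψ (e + e') = 1 := by rw [map_add, h3, h4, add_zero]
    have h6 : ∀ u, ψ ((x : End F V) u) = l * ψ u := fun u => by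
      rw [hψ, LinearMap.comp_apply, ← End.mul_apply, (pr_mul hx' hl).1]
      simp
    refine two_of hp2 hF hζ.pow_eq_one hζ1 (v := e) (w := e + e') ?_ h3 h5 (h5 ▸ one_ne_zero)
      (pgrp_comm hx1 _ h3 he h6) (pgrp_comm hx1 _ h5 (by rw [map_add, he, he', smul_add]) h6)
    rw [LinearIndependent.pair_iff] at hi ⊢
    intro s t hst
    have := hi (s + t) t (by rw [← hst]; module)
    exact ⟨by simpa [this.2] using this.1, this.2⟩
  · have h1 : ∀ j : Fin p, ∃ e : V, (x : End F V) e = ζ ^ (j : ℕ) • e ∧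
        ∀ u, (x : End F V) u = ζ ^ (j : ℕ) • u → u ∈ Submodule.span F {e} := by
      intro j
      by_cases h0 : ∃ e : V, e ≠ 0 ∧ (x : End F V) e = ζ ^ (j : ℕ) • e
      · obtain ⟨e, he0, he⟩ := h0
        refine ⟨e, he, fun u hu => ?_⟩
        by_contra hn
        refine hrep ⟨ζ ^ (j : ℕ), e, u, by rw [← pow_mul, mul_comm, pow_mul, hζ.pow_eq_one, one_pow],
          ?_, he, hu⟩
        rw [LinearIndependent.pair_iff' he0]
        exact fun a ha => hn (Submodule.mem_span_singleton.2 ⟨a, ha⟩)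
      · refine ⟨0, by simp, fun u hu => ?_⟩
        by_contra hn
        exact h0 ⟨u, fun e => hn (by rw [e]; exact Submodule.zero_mem _), hu⟩
    choose e he hes using h1
    have hsp : ⊤ ≤ Submodule.span F (Set.range e) := by
      intro u _
      have : u = ∑ j ∈ Finset.range p, pr p (x : End F V) (ζ ^ j) u := by
        rw [← LinearMap.sum_apply, sum_pr hF hζ, End.one_apply]
      rw [this]
      refine Submodule.sum_mem _ fun j hj => ?_
      refine Submodule.span_mono (Set.singleton_subset_iff.2 (Set.mem_range_self _))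
        (hes ⟨j, Finset.mem_range.1 hj⟩ _ ?_)
      rw [← End.mul_apply, (pr_mul hx' (by
        rw [← pow_mul, mul_comm, pow_mul, hζ.pow_eq_one, one_pow])).2, LinearMap.smul_apply]
    let b := basisOfTopLeSpanOfCardEqFinrank e hsp (by simp [hV])
    have hb : ∀ j, b j = e j := fun j => by simp [b]
    let z : Fin p := ⟨0, hp.out.pos⟩
    let o : Fin p := ⟨1, hp.out.one_lt⟩
    have hxi : ∀ (i : ℕ) (j : Fin p), ((x : End F V) ^ i) (b j) = (ζ ^ i) ^ (j : ℕ) • b j := by
      intro i j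
      induction i with
      | zero => simp
      | succ i ih =>
        rw [pow_succ', End.mul_apply, ih, map_smul, hb, he, smul_smul, ← mul_pow, ← pow_succ]
    set v : V := ∑ j, b j with hv
    set φ : Dual F V := (p : F)⁻¹ • ∑ j, b.coord j with hφ
    have hφb : ∀ j, φ (b j) = (p : F)⁻¹ := fun j => by
      simp [hφ, LinearMap.sum_apply, Finsupp.single_apply]
    have hφv : φ v = 1 := by
      simp [hv, hφb, hF]
    have hz : b.coord z (b z) = 1 := by simp
    refine two_of hp2 hF hζ.pow_eq_one hζ1 (v := v) (w := b z) ?_ hφv hz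
      (by rw [hφb]; exact inv_ne_zero hF)
      (pgrp_cyc hx1 (c := 1) (by rw [hx', one_smul]) _ hφv fun i h0 hi => ?_)
      (pgrp_comm (l := 1) hx1 _ hz (by rw [hb, he]; simp [z]) fun u => ?_)
    · rw [LinearIndependent.pair_iff]
      intro s t hst
      have hoz : o ≠ z := by simp [o, z]
      have h1 := congrArg (b.coord o) hst
      have h2 := congrArg (b.coord z) hst
      simp [hv, Finsupp.single_apply, hoz.symm] at h1 h2
      exact ⟨h1, by simpa [h1] using h2⟩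
    · rw [hv, map_sum, map_sum]
      simp only [hxi, map_smul, hφb, smul_eq_mul]
      rw [← Finset.sum_mul, Fin.sum_univ_eq_sum_range (fun j => (ζ ^ i) ^ j), geom_prim hζ h0 hi,
        zero_mul]
    · have : b.coord z ∘ₗ (x : End F V) = b.coord z := b.ext fun j => by
        rw [LinearMap.comp_apply, ← pow_one (x : End F V), hxi, map_smul]
        by_cases hj : j = z
        · simp [hj, z]
        · simp [hj]
      rw [one_mul, ← LinearMap.comp_apply, this]

theorem pow_eq_one_of {M : Type*} [Monoid M] {l : M} {k N j : ℕ} (h1 : l ^ p ^ k = 1)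
    (h2 : l ^ N = 1) (hN : N ≠ 0) (h3 : padicValNat p N ≤ j) : l ^ p ^ j = 1 := by
  obtain ⟨i, -, hi⟩ := (Nat.dvd_prime_pow hp.out).1 (orderOf_dvd_of_pow_eq_one h1)
  have h4 := orderOf_dvd_of_pow_eq_one h2
  rw [hi, padicValNat_dvd_iff_le hN] at h4
  exact orderOf_dvd_iff_pow_eq_one.1 (hi ▸ pow_dvd_pow p (h4.trans h3))

theorem factor_cases (hp2 : p ≠ 2) (h1 : p ∣ Nat.card F - 1) (h2 : ¬ p ^ 2 ∣ Nat.card F - 1)
    {ζ : F} (hζ : IsPrimitiveRoot ζ p) {f : F[X]} (hf : Irreducible f) (hd : f.natDegree ≤ p)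
    {k : ℕ} (hk : f ∣ X ^ p ^ k - 1) :
    f ∣ X ^ p - 1 ∨ (f.natDegree = p ∧ ∃ c : F, c ^ p = 1 ∧ f ∣ X ^ p - C c) := by
  have := Fact.mk hf
  let K := AdjoinRoot f
  have hq : 1 < Nat.card F := Finite.one_lt_card
  have hfin : Module.Finite F K := (AdjoinRoot.powerBasis hf.ne_zero).finite
  have : Finite K := Module.finite_of_finite F
  have hK : Nat.card K = Nat.card F ^ f.natDegree := by
    rw [Module.natCard_eq_pow_finrank (K := F), (AdjoinRoot.powerBasis hf.ne_zero).finrank,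
      AdjoinRoot.powerBasis_dim]
  have hd0 : f.natDegree ≠ 0 := hf.natDegree_pos.ne'
  let l : K := AdjoinRoot.root f
  have hl : ∀ g : F[X], f ∣ g ↔ aeval l g = 0 := fun g => by
    rw [AdjoinRoot.aeval_eq, AdjoinRoot.mk_eq_zero]
  have h3 : l ^ p ^ k = 1 := by simpa [sub_eq_zero] using (hl _).1 hk
  have hl0 : l ≠ 0 := fun e => by
    rw [e, zero_pow (pow_pos hp.out.pos k).ne'] at h3; exact zero_ne_one h3
  have h4 : l ^ (Nat.card F ^ f.natDegree - 1) = 1 := by
    have := Fintype.ofFinite K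
    rw [← hK, Nat.card_eq_fintype_card]
    exact FiniteField.pow_card_sub_one_eq_one l hl0
  have hN : Nat.card F ^ f.natDegree - 1 ≠ 0 :=
    Nat.sub_ne_zero_of_lt (Nat.one_lt_pow hd0 hq)
  have hv : padicValNat p (Nat.card F ^ f.natDegree - 1) ≤ 1 + padicValNat p f.natDegree := by
    have := padicValNat.pow_sub_pow (p := p) (hp.out.odd_of_ne_two hp2) hq h1 (fun h => by
      have := (Nat.dvd_sub_iff_right hq.le h).1 h1
      exact hp.out.one_lt.ne' (Nat.dvd_one.1 this)) hd0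
    rw [one_pow] at this
    rw [this]
    have h5 : ¬ 2 ≤ padicValNat p (Nat.card F - 1) := fun h =>
      h2 ((padicValNat_dvd_iff_le (Nat.sub_ne_zero_of_lt hq)).2 h)
    omega
  rcases hd.lt_or_eq with hlt | heq
  · left
    rw [padicValNat.eq_zero_of_not_dvd (n := f.natDegree)
      (Nat.not_dvd_of_pos_of_lt (Nat.pos_of_ne_zero hd0) hlt)] at hv
    have := pow_eq_one_of h3 h4 hN hv
    rw [hl]
    simpa [sub_eq_zero] using this
  · right
    refine ⟨heq, ?_⟩
    have hv' := hv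
    rw [show padicValNat p f.natDegree = 1 by rw [heq]; exact padicValNat_self] at hv'
    have h5 := pow_eq_one_of h3 h4 hN hv'
    rw [pow_succ, pow_one, pow_mul] at h5
    have : NeZero p := ⟨hp.out.ne_zero⟩
    obtain ⟨i, -, hi⟩ := (hζ.map_of_injective (algebraMap F K).injective).eq_pow_of_pow_eq_one h5
    refine ⟨ζ ^ i, by rw [← pow_mul, mul_comm, pow_mul, hζ.pow_eq_one, one_pow], ?_⟩
    rw [hl]
    simp [← hi]

theorem two_of_pelt (hp2 : p ≠ 2) (h1 : p ∣ Nat.card F - 1) (h2 : ¬ p ^ 2 ∣ Nat.card F - 1)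
    (hV : finrank F V = p) {x : (End F V)ˣ} {k : ℕ} (hx : x ^ p ^ k = 1) : Two p x := by
  have hq : 1 < Nat.card F := Finite.one_lt_card
  have hF : (p : F) ≠ 0 := by
    intro h
    obtain ⟨m, hm⟩ := h1
    have := Fintype.ofFinite F
    have h3 : ((Nat.card F - 1 : ℕ) : F) = 0 := by rw [hm, Nat.cast_mul, h, zero_mul]
    rw [Nat.cast_sub hq.le, Nat.card_eq_fintype_card, FiniteField.cast_card_eq_zero] at h3
    simp at h3
  obtain ⟨ζ, hζ⟩ : ∃ ζ : F, IsPrimitiveRoot ζ p := by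
    obtain ⟨u, hu⟩ := exists_prime_orderOf_dvd_card' (G := Fˣ) p (by rwa [Nat.card_units])
    exact ⟨u, IsPrimitiveRoot.coe_units_iff.2 (hu ▸ IsPrimitiveRoot.orderOf u)⟩
  by_cases hx1 : x ^ p = 1
  · exact two_of_pow_eq_one hp2 hF hV hx1 hζ
  set m := minpoly F (x : End F V) with hm
  have hint : IsIntegral F (x : End F V) := Algebra.IsIntegral.isIntegral _
  have hm0 : m ≠ 0 := minpoly.ne_zero hint
  have hmd : m.natDegree ≤ p := by
    rw [← hV, ← LinearMap.charpoly_natDegree (x : End F V)]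
    exact natDegree_le_of_dvd (LinearMap.minpoly_dvd_charpoly _) (LinearMap.charpoly_monic _).ne_zero
  have hx' : (x : End F V) ^ p ^ k = 1 := by rw [← Units.val_pow_eq_pow_val, hx, Units.val_one]
  have hmk : m ∣ X ^ p ^ k - 1 := minpoly.dvd _ _ (by simp [hx'])
  obtain ⟨f, hf, hfm, hf1⟩ : ∃ f : F[X], Irreducible f ∧ f ∣ m ∧ ¬ f ∣ X ^ p - 1 := by
    by_contra hn
    push Not at hn
    rcases k with _ | k
    · exact hx1 (by rw [show x = 1 by simpa using hx, one_pow])
    obtain ⟨h, hh⟩ : (X ^ p - 1 : F[X]) ∣ X ^ p ^ (k + 1) - 1 := by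
      rw [pow_succ', pow_mul]
      simpa using sub_dvd_pow_sub_pow (X ^ p : F[X]) 1 (p ^ k)
    have hsep : (X ^ p ^ (k + 1) - 1 : F[X]).Separable :=
      X_pow_sub_one_separable_iff.2 (by rw [Nat.cast_pow]; exact pow_ne_zero _ hF)
    rw [hh] at hsep hmk
    have hc : IsCoprime m h := isCoprime_of_irreducible_dvd (fun e => hm0 e.1) fun z hz h3 h4 =>
      hz.not_isUnit (hsep.isCoprime.isUnit_of_dvd' (hn z hz h3) h4)
    obtain ⟨g, hg⟩ := hc.dvd_of_dvd_mul_right hmk
    refine hx1 (Units.ext ?_)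
    have := congrArg (aeval (x : End F V)) hg
    rw [map_mul, minpoly.aeval, zero_mul] at this
    simpa [sub_eq_zero] using this
  obtain ⟨hfd, c, hc, hfc⟩ := (factor_cases hp2 h1 h2 hζ hf
    ((natDegree_le_of_dvd hfm hm0).trans hmd) (hfm.trans hmk)).resolve_left hf1
  have hmf : m ∣ f := (associated_of_dvd_of_natDegree_le hfm hm0 (hfd ▸ hmd)).symm.dvd
  have hf0 : aeval (x : End F V) f = 0 := by
    obtain ⟨g, rfl⟩ := hmf
    rw [map_mul, minpoly.aeval, zero_mul]
  have hxc : (x : End F V) ^ p = c • 1 := by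
    obtain ⟨g, hg⟩ := hfc
    have := congrArg (aeval (x : End F V)) hg
    rw [map_mul, hf0, zero_mul] at this
    simpa [sub_eq_zero, Algebra.algebraMap_eq_smul_one] using this
  have hinj : ∀ g : F[X], g ≠ 0 → g.natDegree < p → ∀ v, aeval (x : End F V) g v = 0 → v = 0 := by
    intro g hg0 hg v hv
    obtain ⟨a, b, hab⟩ := hf.coprime_iff_not_dvd.2 fun h =>
      (natDegree_le_of_dvd h hg0).not_gt (hfd ▸ hg)
    have := congrArg (fun q => aeval (x : End F V) q v) hab
    simpa [hf0, hv] using this.symm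
  have hp3 : 2 < p := lt_of_le_of_ne hp.out.two_le hp2.symm
  have : Nontrivial V := finrank_pos_iff.1 (hV ▸ hp.out.pos)
  obtain ⟨v, hv0⟩ := exists_ne (0 : V)
  have hli : LinearIndependent F fun i : Fin p => ((x : End F V) ^ (i : ℕ)) v := by
    rw [Fintype.linearIndependent_iff]
    intro t ht
    by_contra hn
    have hg : (∑ i : Fin p, monomial (i : ℕ) (t i) : F[X]) ≠ 0 := by
      intro e
      refine hn fun i => ?_
      have := congrArg (coeff · i) e
      simpa [coeff_monomial, Fin.val_inj] using this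
    refine hv0 (hinj _ hg ?_ v ?_)
    · refine lt_of_le_of_lt (natDegree_sum_le_of_forall_le _ _ (n := p - 1) fun i _ =>
        (natDegree_monomial_le _).trans ?_) (by omega)
      have := i.2
      omega
    · simpa [aeval_monomial, LinearMap.sum_apply, Algebra.algebraMap_eq_smul_one] using ht
  have : Nonempty (Fin p) := ⟨⟨0, hp.out.pos⟩⟩
  let b := basisOfLinearIndependentOfCardEqFinrank hli (by simp [hV])
  have hb : ∀ j : Fin p, b j = ((x : End F V) ^ (j : ℕ)) v := fun j => by simp [b]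
  let z : Fin p := ⟨0, hp.out.pos⟩
  let o : Fin p := ⟨1, hp.out.one_lt⟩
  have hbz : b z = v := by rw [hb]; simp [z]
  have hbo : b o = (x : End F V) v := by rw [hb]; simp [o]
  set φ : Dual F V := b.coord z with hφ
  have hφv : φ v = 1 := by rw [← hbz]; simp [hφ]
  have hφi : ∀ i, 0 < i → i < p → φ (((x : End F V) ^ i) v) = 0 := fun i h0 hi => by
    rw [← hb ⟨i, hi⟩]
    simp [hφ, z, h0.ne']
  have hu : IsUnit ((x : End F V) + 1) := by
    rw [LinearMap.isUnit_iff_ker_eq_bot, LinearMap.ker_eq_bot']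
    intro w hw
    refine hinj (X + 1) (by simpa using X_add_C_ne_zero (1 : F)) ?_ w (by simpa using hw)
    rw [← C_1, natDegree_X_add_C]
    omega
  obtain ⟨u, hu⟩ := hu
  have hux : Commute (u⁻¹ : (End F V)ˣ) x := Commute.inv_left (Units.ext (by
    simp [hu, mul_add, add_mul]))
  set ψ : Dual F V := φ ∘ₗ ((u⁻¹ : (End F V)ˣ) : End F V) with hψ
  have hψi : ∀ i : ℕ, ψ (((x : End F V) ^ i) ((u : End F V) v)) = φ (((x : End F V) ^ i) v) := by
    intro i
    rw [hψ, LinearMap.comp_apply, ← End.mul_apply, ← End.mul_apply, ← Units.val_pow_eq_pow_val,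
      ← Units.val_mul, ← Units.val_mul, (hux.pow_right i).eq, inv_mul_cancel_right]
  have hψw : ψ ((u : End F V) v) = 1 := by simpa [hφv] using hψi 0
  have huv : (u : End F V) v = b o + b z := by rw [hu, hbo, hbz]; rfl
  have hoz : o ≠ z := by simp [o, z]
  refine two_of hp2 hF hζ.pow_eq_one (hζ.ne_one hp.out.one_lt) (v := v) (w := (u : End F V) v) ?_
    hφv hψw (by rw [huv]; simp [hφ, hoz]) (pgrp_cyc hx hxc _ hφv hφi)
    (pgrp_cyc hx hxc _ hψw fun i h0 hi => by rw [hψi, hφi i h0 hi])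
  rw [LinearIndependent.pair_iff, huv, ← hbz]
  intro s t hst
  have h1 := congrArg (b.coord o) hst
  have h2 := congrArg (b.coord z) hst
  simp [hoz, hoz.symm] at h1 h2
  exact ⟨by simpa [h1] using h2, h1⟩

/-- Let p be an odd prime and F a finite field with q elements such that p divides q - 1 but p² does not. Then GL(p, F) has a Sylow p-subgroup Q such that every element of p-power order lies in some Sylow p-subgroup other than Q (a redundant Sylow p-subgroup). -/
theorem result {F : Type*} [Field F] [Fintype F] (p : ℕ) [Fact p.Prime]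
    (hp : p ≠ 2) (h1 : p ∣ Fintype.card F - 1) (h2 : ¬ p ^ 2 ∣ Fintype.card F - 1) :
    ∃ Q : Sylow p (Matrix.GeneralLinearGroup (Fin p) F), ∀ x : Matrix.GeneralLinearGroup (Fin p) F,
      (∃ k : ℕ, orderOf x = p ^ k) → ∃ P : Sylow p (Matrix.GeneralLinearGroup (Fin p) F), P ≠ Q ∧ x ∈ P := by
  obtain ⟨Q⟩ : Nonempty (Sylow p (Matrix.GeneralLinearGroup (Fin p) F)) := inferInstance
  refine ⟨Q, fun x ⟨k, hk⟩ => ?_⟩
  rw [← Nat.card_eq_fintype_card] at h1 h2
  let e : Matrix.GeneralLinearGroup (Fin p) F ≃* (End F (Fin p → F))ˣ :=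
    Matrix.GeneralLinearGroup.toLin
  obtain ⟨A, B, hA, hB, hxA, hxB, h⟩ := two_of_pelt (V := Fin p → F) (x := e x) (k := k) hp h1 h2
    (by simp) (by rw [← map_pow, ← hk, pow_orderOf_eq_one, map_one])
  obtain ⟨P1, h3⟩ := (hA.comap_of_injective e.toMonoidHom e.injective).exists_le_sylow
  obtain ⟨P2, h4⟩ := (hB.comap_of_injective e.toMonoidHom e.injective).exists_le_sylow
  by_cases h5 : P1 = Q
  · refine ⟨P2, fun h6 => h ((Q : Subgroup _).map e.toMonoidHom) (Q.isPGroup'.map _) ?_ ?_, h4 hxB⟩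
    · intro g hg
      exact ⟨e.symm g, h5 ▸ h3 (by simpa using hg), by simp⟩
    · intro g hg
      exact ⟨e.symm g, h6 ▸ h4 (by simpa using hg), by simp⟩
  · exact ⟨P1, h5, h3 hxA⟩

end Cfsg.Agent.S4358
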